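import Cfsg.Agent.MK.Two.Box_m3
import Cfsg.Agent.MK.E.Mult_m3
import Cfsg.Agent.MK.S5.Mov_m3
import Cfsg.Agent.MK.T.D_m3
import Cfsg.Agent.TAB.J2.Main
import Cfsg.Agent.S2066
import Cfsg.Agent.FastGrp
import Cfsg.Agent.Prune
set_option linter.all false

section
prune_inst 0x7f00000000000000000000000000000000000000000000000000000000000000000000000000000000000000000000000000000000000000000000000000000000000000000000000000000000000000003fffffffffffffffffffffffffffbeffbdffffffff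

-- part: MK/Two/Gen
section
set_option linter.all false
open scoped Cfsg.Agent.FastGrp

/-!
# MK, characteristic two: the generic theorem (helper52)

* `gdA_of` : from `CF` for the normaliser of a Sylow subgroup of a cover `X'` to `GdA X`;
* `bo_bh`, `fr_of` : the frame `K = G^F`, `B = N(U^F)`, `Φ = {α p}`;
* `aut_S` : the count `Aut S = K Φ`; `lift_aut` : all automorphisms of `X` come from `K Φ`;
* `genBox`.
-/

set_option autoImplicit false
set_option maxHeartbeats 400000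
set_option linter.unusedSectionVars false

namespace Cfsg.Agent.MK.Two

open Cfsg Subgroup Cfsg.Agent.H40.OC Cfsg.Agent.GAL.Two Cfsg.Agent.GAL.Nrm
open Cfsg.Agent.DL Cfsg.Agent.DL.PP Cfsg.Agent.DL.St Cfsg.Agent.ODD.C2 Cfsg.Agent.Tits.Roots Cfsg.Agent.GAL.C2
open scoped commutatorElement

/-! ### finite groups -/

section fin

variable {X' X S : Type} [Group X'] [Group X] [Group S]

theorem hom_eq_of_cen (hp : commutator X' = ⊤) {f g : X' →* X} (h : ∀ x, (f x)⁻¹ * g x ∈ center X) (x : X') :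
    f x = g x := by
  have h2 : commutator X' ≤ f.eqLocus g := by
    rw [commutator_eq_closure, closure_le]
    rintro _ ⟨x, y, rfl⟩
    show f ⁅x, y⁆ = g ⁅x, y⁆
    have h9 := fun a => mem_center_iff.1 (h x) a
    have h10 := fun a => mem_center_iff.1 (h y) a
    rw [map_commutatorElement, map_commutatorElement, ← mul_inv_cancel_left (f x) (g x),
      ← mul_inv_cancel_left (f y) (g y)]
    generalize (f x)⁻¹ * g x = z at h9
    generalize (f y)⁻¹ * g y = w at h10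
    rw [commutatorElement_def, commutatorElement_def, mul_assoc (f x) z, ← h9, ← mul_assoc (f x),
      _root_.mul_inv_rev (f x) z, ← mul_assoc _ z⁻¹, mul_inv_cancel_right, ← mul_assoc (f x), mul_assoc _ w, ← h10,
      ← mul_assoc, _root_.mul_inv_rev (f y) w, ← mul_assoc, mul_inv_cancel_right]
  exact h2 (hp ▸ mem_top x)

theorem exists_ind_q {q : X →* S} (hq : Function.Surjective q) (hk : ∀ x, q x = 1 ↔ x ∈ center X) (γ : MulAut X) :
    ∃ a : MulAut S, ∀ x, a (q x) = q (γ x) := by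
  have h1 : ∀ δ : MulAut X, ∃ f : S →* S, ∀ x, f (q x) = q (δ x) := fun δ =>
    ⟨q.liftOfSurjective hq ⟨q.comp δ.toMonoidHom, fun z hz => (hk _).2 (mem_center_iff.2 fun x => by
      obtain ⟨x, rfl⟩ := δ.surjective x
      show δ x * δ z = δ z * δ x
      rw [← map_mul, ← map_mul, mem_center_iff.1 ((hk z).1 hz) x])⟩,
      fun x => MonoidHom.liftOfRightInverse_comp_apply _ _ _ _ x⟩
  obtain ⟨f, hf⟩ := h1 γ
  obtain ⟨g, hg⟩ := h1 γ⁻¹
  refine ⟨⟨⟨f, g, fun s => ?_, fun s => ?_⟩, f.map_mul⟩, hf⟩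
  · obtain ⟨x, rfl⟩ := hq s
    rw [hf, hg, MulAut.inv_apply_self]
  · obtain ⟨x, rfl⟩ := hq s
    rw [hg, hf, MulAut.apply_inv_self]

theorem mem_of_two [Finite X'] {π : X' →* X} (hk : π.ker ≤ center X') (U : Sylow 2 X') {x u : X'}
    (hx : ∃ n : ℕ, x ^ 2 ^ n = 1) (hu : u ∈ (U : Subgroup X')) (h : π u = π x) : x ∈ (U : Subgroup X') := by
  obtain ⟨n, hn⟩ := hx
  obtain ⟨m, hm⟩ := U.isPGroup' ⟨u, hu⟩
  have hm' : u ^ 2 ^ m = 1 := congrArg Subtype.val hm
  have h1 : u⁻¹ * x ∈ center X' := hk (by rw [MonoidHom.mem_ker, map_mul, map_inv, h, inv_mul_cancel])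
  have h2 : (u * (u⁻¹ * x)) ^ 2 ^ (m + n) = 1 := by
    rw [mul_inv_cancel_left, pow_add, mul_comm, pow_mul, hn, one_pow]
  rw [Commute.mul_pow (mem_center_iff.1 h1 u), pow_add 2 m, pow_mul u, hm', one_pow, one_mul, ← pow_add] at h2
  have h3 := mem_of_pow_mem U (center_le_normalizer _ h1) (k := m + n) (by rw [h2]; exact one_mem _)
  simpa using mul_mem hu h3

theorem nm_iff [Finite X'] {π : X' →* X} (hk : π.ker ≤ center X') (U : Sylow 2 X')
    {γ : MulAut X} {γ' : MulAut X'} (h : ∀ x, π (γ' x) = γ (π x)) :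
    (∀ x, γ' x ∈ (U : Subgroup X') ↔ x ∈ (U : Subgroup X')) ↔
      ∀ x, γ x ∈ (U : Subgroup X').map π ↔ x ∈ (U : Subgroup X').map π := by
  have h0 : ∀ {u : X'}, u ∈ (U : Subgroup X') → ∃ n : ℕ, u ^ 2 ^ n = 1 := fun hu =>
    (U.isPGroup' ⟨_, hu⟩).imp fun _ hn => congrArg Subtype.val hn
  refine ⟨fun h1 x => ⟨?_, ?_⟩, fun h1 x => ⟨fun hx => ?_, fun hx => ?_⟩⟩
  · rintro ⟨u, hu, h2⟩
    obtain ⟨u, rfl⟩ := γ'.surjective u
    exact ⟨u, (h1 u).1 hu, γ.injective ((h u).symm.trans h2)⟩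
  · rintro ⟨u, hu, rfl⟩
    exact ⟨_, (h1 u).2 hu, h u⟩
  · obtain ⟨u, hu, h2⟩ := (h1 (π x)).1 ⟨_, hx, h x⟩
    exact mem_of_two hk U ((h0 hx).imp fun n hn => γ'.injective (by rw [map_pow, hn, map_one])) hu h2
  · obtain ⟨u, hu, h2⟩ := (h1 (π x)).2 ⟨_, hx, rfl⟩
    exact mem_of_two hk U ((h0 hx).imp fun n hn => by rw [← map_pow, hn, map_one]) hu (h2.trans (h x).symm)

/-- **from the cover to the group** -/
theorem gdA_of [Finite X'] [Finite X] (hC : StepC) (hD : DescBox) {π : X' →* X} (hs : Function.Surjective π)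
    (hk : π.ker ≤ center X') (hp : commutator X' = ⊤) (U : Sylow 2 X')
    (hl : ∀ γ : MulAut X, ∃ γ' : MulAut X', ∀ x, π (γ' x) = γ (π x)) {Ω : (X' → ℂ) → In (Nm ⊤ (U : Subgroup X')) → ℂ}
    (hΩ : CF (Nm ⊤ (U : Subgroup X')) Ω) : GdA X := by
  intro Γ s
  refine ⟨Nm Γ (U.mapSurjective hs : Sylow 2 X), U.mapSurjective hs, fun _ h => h.1, E.nm_ne s _, le_rfl,
    hC X Γ _ s (E.supp_nm s.inn _) fun l _ => hD π hs hk hp _ Ω hΩ _ (fun γ hγ => ?_) (fun y => ?_) l⟩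
  · obtain ⟨γ', h⟩ := hl γ
    exact ⟨γ', ⟨mem_top _, (nm_iff hk U h).2 hγ.2⟩, h⟩
  · have h := nm_iff hk U (γ := MulAut.conj (π y)) (γ' := MulAut.conj y) fun x => by simp
    exact ⟨fun hy => ⟨s.inn _, h.1 hy.2⟩, fun hy => ⟨mem_top _, h.2 hy.2⟩⟩

/-- a non-empty finite set of elements which is closed under products -/
def sgOf {H P : Type} [Group H] [Finite H] [Nonempty P] (f : P → H) (h : ∀ p p', ∃ p'', f p * f p' = f p'') :
    Subgroup H :=
  have h1 : ∀ p (n : ℕ), f p ^ (n + 1) ∈ Set.range f := fun p n => by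
    induction n with
    | zero => exact ⟨p, by simp⟩
    | succ n ih =>
      obtain ⟨p', hp'⟩ := ih
      obtain ⟨p'', hp''⟩ := h p' p
      exact ⟨p'', by rw [← hp'', hp', ← pow_succ]⟩
  { carrier := Set.range f
    one_mem' := by
      have h2 := h1 (Classical.arbitrary P) (orderOf (f (Classical.arbitrary P)) - 1)
      rwa [Nat.sub_add_cancel (orderOf_pos _), pow_orderOf_eq_one] at h2
    mul_mem' := by
      rintro _ _ ⟨p, rfl⟩ ⟨p', rfl⟩
      exact (h p p').imp fun _ e => e.symm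
    inv_mem' := by
      rintro _ ⟨p, rfl⟩
      have h2 := h1 p (2 * orderOf (f p) - 2)
      have h3 := orderOf_pos (f p)
      rwa [eq_inv_of_mul_eq_one_left (a := f p ^ (2 * orderOf (f p) - 2 + 1)) (b := f p) (by
        rw [← pow_succ, show 2 * orderOf (f p) - 2 + 1 + 1 = orderOf (f p) * 2 by omega, pow_mul, pow_orderOf_eq_one,
          one_pow])] at h2 }

end fin

/-! ### algebraic groups -/

variable {k : Type} [Field k] [CharP k 2] {Y : Type} [Group Y] {N : Type} [Fintype N] [DecidableEq N]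
  {ρ : Y →* GL N k} {F : MulAut Y} {G : Subgroup Y} [IsAlgClosed k] {D : Datum 2 ρ F G}

variable (D) in
/-- the rational points of the Borel subgroup -/
def BH : Subgroup (GF F G) := normalizer (UH D : Set (GF F G))

theorem mem_BH_of {g : GF F G} (h : ∀ v ∈ D.U ⊓ GF F G, (g : Y)⁻¹ * v * g ∈ D.U) : g ∈ BH D := by
  have := D.amb.finite_GF G
  refine (inv_mem_iff (H := BH D)).1 (mem_normalizer_fintype fun v hv => ?_)
  rw [inv_inv]
  exact h v ⟨hv, v.2⟩

theorem conj_U {u t v : Y} (hu : u ∈ D.U) (ht : t ∈ D.T) (hv : v ∈ D.U) : (u * t)⁻¹ * v * (u * t) ∈ D.U := by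
  have h1 := D.conj_mem_U_of_T (inv_mem ht) (mul_mem (mul_mem (inv_mem hu) hv) hu)
  rwa [show t⁻¹ * (u⁻¹ * v * u) * t⁻¹⁻¹ = (u * t)⁻¹ * v * (u * t) by group] at h1

theorem BH_split (h : D.QS) {b : GF F G} (hb : b ∈ BH D) :
    ∃ u ∈ D.U ⊓ GF F G, ∃ t ∈ D.T ⊓ GF F G, (b : Y) = u * t :=
  exists_BF h b.2 fun v hv => by
    have h1 := (mem_normalizer_iff.1 (inv_mem hb) ⟨v, hv.2⟩).1 hv.1
    rwa [inv_inv] at h1

theorem bo_bh (h : Good D) : Bo (UH D) (TH D) (BH D) (Do D) where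
  sys := sys h.qs h.cz
  two := D.isPGroup_U.comap_subtype
  odd := by
    have := D.amb.finite_GF G
    have : Fact (Nat.Prime 2) := ⟨Nat.prime_two⟩
    rw [GAL.odd_iff']
    intro h2
    obtain ⟨t, ht⟩ := exists_prime_orderOf_dvd_card' 2 h2
    have h3 := odd_T D (t := ((t : GF F G) : Y)) t.2
    rw [orderOf_coe, orderOf_coe, ht] at h3
    exact absurd h3 (by decide)
  comm s hs t ht := Subtype.ext (D.T_comm hs ht)
  mem b := by
    refine ⟨fun hb => ?_, ?_⟩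
    · obtain ⟨u, hu, t, ht, h1⟩ := BH_split h.qs hb
      exact ⟨⟨u, hu.2⟩, hu.1, ⟨t, ht.2⟩, ht.1, Subtype.ext h1⟩
    · rintro ⟨u, hu, t, ht, rfl⟩
      exact mem_BH_of fun v hv => conj_U hu ht hv.1
  hn f u hu := h.hn (f.comp (MonoidHom.mk' (fun x => ⟨⟨x.1, x.2.2⟩, x.2.1⟩) fun _ _ => rfl)) ⟨u, u.2, u.1.2⟩
    fun i => (hu _).2 i rfl
  lam := exists_lam h.qs h.cz

section sym

variable {α : MulAut Y} {A : Matrix D.R D.R ℤ} {s : Equiv.Perm D.I} {ε : D.I → ℕ}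

theorem sym_zero_iff (h : Sym D α A s ε) {u : Y} (hu : u ∈ D.U) (i : D.I) : kap D (s i) (α u) = 0 ↔ kap D i u = 0 := by
  obtain ⟨c, h1, h2⟩ := h.kap i
  rw [h2 u hu, mul_eq_zero, or_iff_right h1, pow_eq_zero_iff (by positivity)]

theorem sym_comm (hq : D.QS) (h : Sym D α A s ε) (i : D.I) : s (D.σ i) = D.σ (s i) := by
  have hF := Sym.self hq
  have h1 := x_mem_U (D := D) i 1
  have h2 : kap D (s (D.σ i)) (α (F (D.x (sr i) 1))) ≠ 0 := by
    rw [Ne, sym_zero_iff h ((hF.au.memU _).2 h1), sym_zero_iff hF h1, kap_x, if_pos rfl]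
    exact one_ne_zero
  obtain ⟨j, hj⟩ := (D.σ * s).surjective (s (D.σ i))
  rw [← hj, h.au.comm, Equiv.Perm.mul_apply, Ne, sym_zero_iff hF ((h.au.memU _).2 h1), sym_zero_iff h h1, kap_x] at h2
  obtain rfl : i = j := by
    by_contra h3
    exact h2 (if_neg h3)
  exact hj.symm

theorem sym_Do (hq : D.QS) (h : Sym D α A s ε) :
    ∃ σ : Equiv.Perm (Ob D), ∀ o, ∀ u ∈ UH D, h.au.aut u ∈ Do D (σ o) ↔ u ∈ Do D o := by
  have h1 : s * D.σ * s⁻¹ = D.σ := mul_inv_eq_iff_eq_mul.2 (Equiv.ext (sym_comm hq h))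
  have h2 : ∀ a b, D.σ.SameCycle a b ↔ D.σ.SameCycle (s a) (s b) := fun a b => by
    conv_rhs => rw [← h1, Equiv.Perm.sameCycle_conj]
    simp
  refine ⟨Quotient.congr s h2, fun o u hu => ⟨fun h3 => ⟨hu, fun i hi => ?_⟩, fun h3 => ⟨(h.au.memU _).2 hu, fun j hj => ?_⟩⟩⟩
  · exact (sym_zero_iff h hu i).1 (h3.2 _ (hi ▸ rfl))
  · obtain ⟨i, rfl⟩ := s.surjective j
    exact (sym_zero_iff h hu i).2 (h3.2 i ((Quotient.congr s h2).injective hj))

end sym

variable {X' S X : Type} [Group X'] [Group S] [Group X] {ι : X' →* Y} {pr : X' →* S} {π : X' →* X}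

theorem zc_of_comm (M : Md D ι pr) (hZ : center S = ⊥) {g : GF F G} (h : ∀ x, g * ι x = ι x * g) : (g : Y) ∈ Zc D :=
  Zc_of_kp M hZ (ind_eq M (kp_ind M g) ind_one fun s => by
    rw [MulAut.conj_apply, h, mul_inv_cancel_right, MulAut.one_apply])

theorem exists_res (M : Md D ι pr) {β : MulAut Y} (h : ∀ x, β (ι x) ∈ ι.range) :
    ∃ γ : MulAut X', ∀ x, ι (γ x) = β (ι x) := by
  have := md_finX M
  choose f hf using h
  have h1 : ∀ x y, f (x * y) = f x * f y := fun x y => md_inj M (by simp only [map_mul, hf])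
  exact ⟨MulEquiv.ofBijective (MonoidHom.mk' f h1) (Finite.injective_iff_bijective.1 fun x y e =>
    md_inj M (β.injective (by rw [← hf, ← hf]; exact congrArg ι e))), hf⟩

section fam

variable {P : Type} {α : P → MulAut Y} {A : P → Matrix D.R D.R ℤ} {s : P → Equiv.Perm D.I} {ε : P → D.I → ℕ}

variable (D s ε) in
/-- the separation hypothesis -/
def Sp : Prop := ∀ p p', (∀ y : D.I → k, FixT D.σ (fun i => D.ex (sr i)) y → ∀ i j, s p i = s p' j →
  y i ^ 2 ^ ε p i = y j ^ 2 ^ ε p' j) → p = p'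

theorem eq_of_conj (hq : D.QS) (h : ∀ p, Sym D (α p) (A p) (s p) (ε p)) (hs : Sp D s ε) {p p' : P} {g : GF F G}
    (e : ∀ v ∈ D.U ⊓ GF F G, α p v = g * α p' v * (g : Y)⁻¹) : p = p' := by
  obtain ⟨u, hu, t, ht, h1⟩ := exists_BF hq g.2 fun v hv => by
    obtain ⟨w, hw⟩ := (h p).au.aut.surjective ⟨v, hv.2⟩
    have h1 : α p w = v := congrArg Subtype.val hw
    have h2 : (w : Y) ∈ D.U := ((h p).au.memU _).1 (h1 ▸ hv.1)
    rw [← h1, e w ⟨h2, w.2⟩, show (g : Y)⁻¹ * (g * α p' w * (g : Y)⁻¹) * g = α p' w by group]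
    exact ((h p').au.memU _).2 h2
  obtain ⟨c, hc⟩ := exists_kap_mul hq
  refine hs p p' fun y hy i j hij => ?_
  obtain ⟨d, -, h2⟩ := (h p).kap i
  obtain ⟨d', hd', h2'⟩ := (h p').kap j
  have key : ∀ y : D.I → k, FixT D.σ (fun i => D.ex (sr i)) y →
      d * (c i * y i) ^ 2 ^ ε p i = D.χ (sr (s p i)) t * (d' * (c j * y j) ^ 2 ^ ε p' j) := fun y hy => by
    obtain ⟨v, hv, h3⟩ := hc y hy
    rw [← h3, ← h3, ← h2 v hv.1, ← h2' v hv.1, e v hv, h1, kap_conj_B hu.1 ht.1 (((h p').au.memU _).2 hv.1), hij]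
  have h4 := key 1 fun i => by simp
  have h5 := key y hy
  simp only [Pi.one_apply, mul_one] at h4
  rw [mul_pow, ← mul_assoc, h4, mul_pow, mul_assoc, mul_assoc] at h5
  exact mul_left_cancel₀ (pow_ne_zero _ (c j).ne_zero)
    (mul_left_cancel₀ hd' (mul_left_cancel₀ (D.χ_ne_zero _ t) h5))

variable [Fintype P] {d : ℕ} (H : Mo D ι pr π d (Fintype.card P)) (h : ∀ p, Sym D (α p) (A p) (s p) (ε p))
  (hr : ∀ p x, α p (ι x) ∈ ι.range) (hs : Sp D s ε)
include H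

theorem le_card_kp : Nat.card S * d ≤ Nat.card (kp H.md).range := by
  have M := H.md
  have := (md_cx M).finS
  have := iK_normal M
  obtain ⟨t, ht, h1⟩ := H.dg
  obtain ⟨s, hs⟩ : (kp M).rangeRestrict ⟨t, ht⟩ ^ (iK M).range.index ∈ (iK M).range := pow_index_mem _ _
  obtain ⟨x, rfl⟩ := M.surj s
  have h2 := Zc_of_kp M H.zS (g := (⟨ι x, md_mem M x⟩ : GF F G)⁻¹ * ⟨t, ht⟩ ^ (iK M).range.index) (by
    rw [map_mul, map_inv, map_pow, kp_ι M (x := x) rfl, inv_mul_eq_one]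
    exact congrArg Subtype.val hs)
  have h3 := h1 (iK M).range.index x _ h2 (mul_inv_cancel_left _ _).symm
  rw [← (iK M).range.card_mul_index, ← Nat.card_congr (MonoidHom.ofInjective (iK_inj M H.zS)).toEquiv]
  exact Nat.mul_le_mul_left _ (Nat.le_of_dvd (Nat.pos_of_ne_zero index_ne_zero_of_finite) h3)

include h hr hs

/-- **the count** -/
theorem aut_S (a : MulAut S) : ∃ (p : P) (g : GF F G), GAL.C2.Ind ι pr (MulAut.conj (g : Y) * α p) a := by
  have M := H.md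
  have := (md_cx M).finS
  choose b hb using fun p => exists_ind M (hr p)
  have h1 : Function.Injective fun x : (kp M).range × P => (x.1 : MulAut S) * b x.2 := by
    rintro ⟨⟨_, g, rfl⟩, p⟩ ⟨⟨_, g', rfl⟩, p'⟩ e
    have e1 : b p = kp M (g⁻¹ * g') * b p' := by
      rw [map_mul, map_inv, mul_assoc, eq_inv_mul_iff_mul_eq]
      exact e
    obtain rfl : p = p' := eq_of_conj M.good.qs h hs (g := g⁻¹ * g') fun v hv => by
      obtain ⟨x, rfl⟩ := md_U M hv
      exact ind_unique M H.perf (hb p) (e1 ▸ ind_mul (kp_ind M _) (hb p')) x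
    exact Prod.ext (Subtype.ext (mul_right_cancel e)) rfl
  obtain ⟨⟨⟨_, g, rfl⟩, p⟩, rfl⟩ := (h1.bijective_of_nat_card_le (by
    rw [Nat.card_prod, Nat.card_eq_fintype_card (α := P)]
    exact H.card.trans (Nat.mul_le_mul_right _ (le_card_kp H)))).2 a
  exact ⟨p, g, ind_mul (kp_ind M g) (hb p)⟩

/-- **all automorphisms come from the algebraic group** -/
theorem lift_aut {X₁ : Type} [Group X₁] {π₁ : X' →* X₁} (h1 : Function.Surjective π₁) (h2 : π₁.ker ≤ center X')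
    (γ : MulAut X₁) : ∃ (p : P) (g : GF F G) (γ' : MulAut X'), (∀ x, ι (γ' x) = g * α p (ι x) * (g : Y)⁻¹) ∧
      ∀ x, π₁ (γ' x) = γ (π₁ x) := by
  have M := H.md
  let q : X₁ →* S := π₁.liftOfSurjective h1 ⟨pr, fun z hz => (M.ker z).2 (h2 hz)⟩
  have hq : ∀ x, q (π₁ x) = pr x := fun x => MonoidHom.liftOfRightInverse_comp_apply _ _ _ _ x
  have h3 : Function.Surjective q := fun s => (M.surj s).elim fun x hx => ⟨π₁ x, (hq x).trans hx⟩
  have h4 : ∀ x, q x = 1 ↔ x ∈ center X₁ := fun x => by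
    obtain ⟨x, rfl⟩ := h1 x
    refine ⟨fun hx => mem_center_iff.2 fun y => ?_, fun hx => ?_⟩
    · obtain ⟨y, rfl⟩ := h1 y
      rw [← map_mul, ← map_mul, mem_center_iff.1 ((M.ker x).1 ((hq x).symm.trans hx)) y]
    · rw [← mem_bot, ← H.zS]
      refine mem_center_iff.2 fun y => ?_
      obtain ⟨y, rfl⟩ := h3 y
      rw [← map_mul, ← map_mul, mem_center_iff.1 hx y]
  obtain ⟨a, ha⟩ := exists_ind_q h3 h4 γ
  obtain ⟨p, g, h5⟩ := aut_S H h hr hs a
  obtain ⟨γ', h6⟩ := exists_res M (β := MulAut.conj (g : Y) * α p) fun x => (h5 x).imp fun _ e => e.1.symm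
  refine ⟨p, g, γ', h6, hom_eq_of_cen H.perf (f := π₁.comp γ'.toMonoidHom) (g := γ.toMonoidHom.comp π₁) fun x => ?_⟩
  obtain ⟨y, h7, h8⟩ := h5 x
  rw [← h4, map_mul, map_inv, inv_mul_eq_one]
  show q (π₁ (γ' x)) = q (γ (π₁ x))
  rw [← ha, hq, hq, h8, md_inj M ((h6 x).trans h7)]

variable [Nonempty P] [Finite (GF F G)] (hm : ∀ p p', ∃ p'', (h p).au.aut * (h p').au.aut = (h p'').au.aut)
  {d₀ : ℕ} (E : Emb F G D.T ι d₀)

theorem fr_of (hR : RelBox) (ho : Odd d₀) :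
    ∃ R, Fr E.hom (UH D) (TH D) (BH D) (Do D) (sgOf (fun p => (h p).au.aut) hm) R := by
  have M := H.md
  have hq := M.good.qs
  obtain ⟨R, r1, r2, r3, r4, r5⟩ := hR M.good (BH D) (bo_bh M.good)
  have hc : ∀ {z : GF F G}, Cen G (z : Y) → z ∈ center (GF F G) := fun hz =>
    mem_center_iff.2 fun g => Subtype.ext (hz g g.2.1)
  refine ⟨R, bo_bh M.good, E.hom_injective, E.normal, fun u hu => E.mem_range_hom.2 (md_U M ⟨hu, u.2⟩), fun g => ?_,
    fun u hu h1 g h2 => ?_, fun χ hχ => ?_, fun t ht => hc (cen_of_chi ht.1 fun i => ?_),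
    fun z hz => hc (cen_of_center M hz), fun b _ h1 => hc fun g hg => ?_, ?_, ?_, ?_, ?_, ?_, r1, r2, ?_,
    fun β hβ => r4 β (fun g hg => ?_) fun g hg => ?_, fun χ ψ h1 h2 h3 z hz => r5 χ ψ h1 h2 h3 z ?_⟩
  · obtain ⟨x, t, ht, h1⟩ := E.split g g.2
    exact ⟨x, ⟨t, D.T_le_G ht.1, ht.2⟩, ht.1, Subtype.ext h1⟩
  · obtain ⟨v, hv, t, ht, h3⟩ := (mem_Par_empty D.sbn).1 (mem_B_of_reg hu ((reg_iff hq hu).1 h1) g.2.1 h2)
    exact mem_BH_of fun w hw => h3 ▸ conj_U hv ht hw.1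
  · have := Fintype.ofFinite (GF F G)
    exact mr_sq M.good hχ.1 hχ.2.not_two_dvd_nat
  · obtain ⟨v, hv, h1⟩ := exists_regU hq
    have h2 : kap D i (v⁻¹ * (t * v * (t : Y)⁻¹)) = 0 := (ht.2 _ (Set.mem_univ _) ⟨v, hv.2⟩ hv.1).2 i rfl
    rw [kap_mul i (inv_mem hv.1) (D.conj_mem_U_of_T (mS ht.1) hv.1), kap_inv i hv.1, kap_conj i (mS ht.1) hv.1] at h2
    exact mul_right_cancel₀ (h1 i) (by linear_combination h2)
  · exact (Zc_comm (zc_of_comm M H.zS fun x => congrArg Subtype.val (h1 x)) hg).symm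
  · rintro _ ⟨p, rfl⟩ x
    exact E.mem_range_hom.2 (hr p x)
  · rintro _ ⟨p, rfl⟩ u hu
    exact ((h p).au.memU _).2 hu
  · rintro _ ⟨p, rfl⟩ t ht
    exact ((h p).au.memT _).2 ht
  · rintro _ ⟨p, rfl⟩
    exact sym_Do hq (h p)
  · rintro _ ⟨p, rfl⟩ b _ h1
    obtain ⟨p', h2⟩ := one_mem (sgOf (fun p => (h p).au.aut) hm)
    obtain rfl : p = p' := eq_of_conj hq h hs (g := b) fun v hv => by
      obtain ⟨x, rfl⟩ := md_U M hv
      rw [show α p' (ι x) = ι x from congrArg Subtype.val (DFunLike.congr_fun h2 (E.hom x))]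
      exact congrArg Subtype.val (h1 x)
    exact h2
  · rintro _ ⟨p, rfl⟩
    exact r3 _ _ _ _ (h p)
  · obtain ⟨x, rfl⟩ := E.mem_range_hom.2 (M.sc g g.2 hg)
    exact hβ x
  · obtain ⟨n, hn⟩ := hg
    obtain ⟨x, hx⟩ := (E.mem_range_hom (y := g ^ d₀)).2 (E.pow g g.2)
    refine orderOf_eq_one_iff.1 (Nat.eq_one_of_dvd_coprimes (ho.coprime_two_right.pow_right n)
      (orderOf_dvd_of_pow_eq_one (by rw [← map_pow, ← hx, hβ])) ?_)
    rw [← hn, orderOf_coe]
    exact orderOf_map_dvd β g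
  · exact zc_of_comm M H.zS fun x => (congrArg Subtype.val (mem_center_iff.1 hz (E.hom x))).symm

theorem isL_nm : IsL E.hom (BH D) (sgOf (fun p => (h p).au.aut) hm) (Nm ⊤ (D.U.comap ι)) := by
  have M := H.md
  refine fun γ => ⟨fun hγ => ?_, ?_⟩
  · obtain ⟨p, g, γ', h1, h2⟩ := lift_aut H h hr hs (π₁ := MonoidHom.id X') Function.surjective_id
      (fun z hz => by rw [show z = 1 from hz]; exact one_mem _) γ
    obtain rfl : γ' = γ := MulEquiv.ext h2
    refine ⟨g, mem_BH_of fun v hv => ?_, _, ⟨p, rfl⟩, fun x => Subtype.ext (h1 x)⟩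
    obtain ⟨x, rfl⟩ := md_U M hv
    obtain ⟨x, rfl⟩ := γ'.surjective x
    rw [h1, show (g : Y)⁻¹ * (g * α p (ι x) * (g : Y)⁻¹) * g = α p (ι x) by group]
    exact ((h p).au.memU _).2 ((hγ.2 x).1 hv.1)
  · rintro ⟨b, hb, _, ⟨p, rfl⟩, h1⟩
    refine ⟨mem_top _, fun x => ?_⟩
    show E.hom (γ x) ∈ UH D ↔ _
    rw [h1, ← mem_normalizer_iff.1 hb]
    exact (h p).au.memU _

end fam

/-- **the generic theorem** -/
theorem genBox (hC : StepC) (hD : DescBox) (hS : SpBox) (hR : RelBox) : GenBox := by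
  intro k _ _ Y _ N _ _ ρ F G _ D X' S X _ _ _ _ ι pr π P _ _ d H α A s ε h hr hm hs
  have M := H.md
  have := D.amb.finite_GF G
  have := md_finX M
  have := Fintype.ofFinite (Ob D)
  have : Fact (Nat.Prime 2) := ⟨Nat.prime_two⟩
  obtain ⟨d₀, ho, E⟩ := M.emb
  have hm' : ∀ p p', ∃ p'', (h p).au.aut * (h p').au.aut = (h p'').au.aut := fun p p' =>
    (hm p p').imp fun _ e => MulEquiv.ext fun g => Subtype.ext (e g g.2)
  obtain ⟨R, hF⟩ := fr_of H h hr hs hm' E hR ho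
  obtain ⟨Ω, hΩ⟩ := hS hF _ (isL_nm H h hr hs hm' E)
  refine gdA_of hC hD H.surj H.ker H.perf ((D.isPGroup_U.comap_of_injective ι E.inj).toSylow ?_) (fun γ => ?_) hΩ
  · rw [index_comap]
    exact (md_cx M).not_dvd_index
  · obtain ⟨_, _, γ', -, h1⟩ := lift_aut H h hr hs H.surj H.ker γ
    exact ⟨γ', h1⟩

end Cfsg.Agent.MK.Two
end

-- part: MK/S5/J2G
section
set_option linter.all false
open scoped Cfsg.Agent.FastGrp

/-!
# MK, the characters of odd degree of the Hall–Janko group (helper55)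

Eight characters have odd degree; the outer automorphisms move ten classes, so they move the ten characters which are
not determined by their degree.
-/

set_option autoImplicit false
set_option maxHeartbeats 400000

namespace Cfsg.Agent.MK.S5.J2Row

open Subgroup Cfsg.Agent.MK.T Cfsg.Agent.TAB.Use Cfsg.Agent.TAB.J2
open Cfsg.Agent.SporadicA.J2Hundred (G pT pT_mem)
open Cfsg.Agent.H89.S8.J2 (T)
open Cfsg.Agent.H269.CubeJ2 (cj)

theorem f0_G : f0 (cj pT pT_mem) = 4 := by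
  obtain ⟨χ, hE⟩ := fin.2.2.2
  have h1 : ∀ j < degL.length, j ∉ [11, 12, 13, 14, 15, 16, 17, 18, 19, 20] →
      ∀ i < degL.length, degL.getD i 0 = degL.getD j 0 → i = j := by decide
  have h2 : ∀ j < degL.length, j ∉ [11, 12, 13, 14, 15, 16, 17, 18, 19, 20] → ∀ x, χ j (cj pT pT_mem x) = χ j x :=
    fun j hj h => enum_fix hE _ hj (h1 j hj h)
  have h3 : ∀ {i j : Fin 21}, (i, j) ∈ [((3 : Fin 21), (7 : Fin 21)), (8, 12), (13, 16), (15, 17), (19, 20)] → i ≠ j →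
      ¬ IsConj (cj pT pT_mem (T.x i)) (T.x i) ∧ ¬ IsConj (cj pT pT_mem (T.x j)) (T.x j) :=
    fun h hn => not_conj_of_pair (out h) fun e => hn (T.inj _ _ e)
  have h4 := fun i => moved_of_count hE (cj pT pT_mem) _ h2
    (L := ([3, 7, 8, 12, 13, 16, 15, 17, 19, 20] : List (Fin 21)).map T.x) (i := i)
    (List.pairwise_map.2 ((by decide : ([3, 7, 8, 12, 13, 16, 15, 17, 19, 20] : List (Fin 21)).Nodup).imp
      fun h e => h (T.inj _ _ e)))
    (List.forall_mem_map.2 fun i hi => by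
      have h5 : ∀ i ∈ ([3, 7, 8, 12, 13, 16, 15, 17, 19, 20] : List (Fin 21)), ∃ j : Fin 21, i ≠ j ∧
          ((i, j) ∈ [((3 : Fin 21), (7 : Fin 21)), (8, 12), (13, 16), (15, 17), (19, 20)] ∨
          (j, i) ∈ [((3 : Fin 21), (7 : Fin 21)), (8, 12), (13, 16), (15, 17), (19, 20)]) := by decide
      obtain ⟨j, h6, h7 | h7⟩ := h5 i hi
      exacts [(h3 h7 h6).1, (h3 h7 h6.symm).2]) le_rfl
  rw [f0_enum hE (q := fun j => decide (j ∉ [11, 12, 13, 14, 15, 16, 17, 18, 19, 20])) fun j hj _ =>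
    ⟨fun h => decide_eq_true fun e => h4 j e h, fun h => h2 j hj (of_decide_eq_true h)⟩]
  decide

theorem k0_J2 : k0 Spor.J2 = 8 := by
  rw [k0_of_degList deg]
  decide

theorem index_two : (MulAut.conj : Spor.J2 →* MulAut Spor.J2).range.index = 2 := S2066.result

/-- the outer automorphisms fix four characters of odd degree -/
theorem f0_out {α : MulAut Spor.J2} (hα : α ∉ (MulAut.conj : Spor.J2 →* MulAut Spor.J2).range) : f0 α = 4 := by
  obtain ⟨e⟩ := H379.J2Spec.iso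
  let β : MulAut Spor.J2 := (e.trans (cj pT pT_mem)).trans e.symm
  have h1 : f0 β = 4 := (f0_congr e fun x => e.apply_symm_apply _).trans f0_G
  have h2 : β ∉ (MulAut.conj : Spor.J2 →* MulAut Spor.J2).range := by
    rintro ⟨g, hg⟩
    rw [← hg, f0_conj, k0_J2] at h1
    omega
  obtain ⟨g, hg⟩ := (mul_mem_iff_of_index_two index_two (a := α) (b := β⁻¹)).2
    (iff_of_false hα fun h => h2 (inv_mem_iff.1 h))
  rw [← inv_mul_cancel_right α β, ← hg, f0_conj_mul, h1]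

end Cfsg.Agent.MK.S5.J2Row
end
end
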