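import Cfsg.Agent.MK.Two.Box_m3
import Cfsg.Agent.ODD.C2.OmFin_m3
import Cfsg.Agent.MK.Y.CoreI_m3
import Cfsg.Agent.MK.S5.Mov_m3
import Cfsg.Agent.MK.C.Main_m3
import Cfsg.Agent.MK.G.Cover_m3
import Cfsg.Agent.MK.A.Six_m3
import Cfsg.Agent.MK.T.D_m3
import Cfsg.Agent.H799.SymSyl
import Cfsg.Agent.S2119
import Cfsg.Agent.ODD.Cov.Lin
import Cfsg.Agent.S2116
import Cfsg.Agent.S0253
import Cfsg.Agent.S0254
import Cfsg.Agent.MK.E.Mult_m3
import Cfsg.Agent.Blocks.OrbitSum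
import Cfsg.Agent.S0888
import Cfsg.Agent.FastGrp
import Cfsg.Agent.Prune
set_option linter.all false

section
prune_inst 0x7f00000000000000000000000000000000000000000000000000000000000000000000000000000000000000000000000000000000000000000000000000000000000000000000000000000000000000003fffffffffffffffffffffffffffbeffbdfbfeffff

-- part: MK/Two/Rel1
section
prune_inst 0x4010000
set_option linter.all false
open scoped Cfsg.Agent.FastGrp

/-!
# MK, characteristic two: tori (helper58)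

* `ZP D P` : the elements of `T` on which the simple roots in `P` are trivial; `exists_nrm_ZP` : its rational points are norms;
* `mem_Do_iff`, `exists_perm` : automorphisms permute the coordinates; `mem_TJ`;
* `Inv`, `exists_fac`, `val_eq` : the factorisation of a label.
-/

set_option autoImplicit false
set_option maxHeartbeats 400000
set_option linter.unusedSectionVars false

namespace Cfsg.Agent.MK.Two

open Cfsg CoxeterSystem Cfsg.Agent.Tits.Roots Cfsg.Agent.Nodes.Reps Cfsg.Agent.Nodes.BNOf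
open Cfsg.Agent.DL Cfsg.Agent.DL.PP Cfsg.Agent.DL.Asm Cfsg.Agent.DL.Uni Cfsg.Agent.DL.Mk Cfsg.Agent.ODD.C2
open Cfsg.Agent.GAL.C2 Cfsg.Agent.GAL.Two Cfsg.Agent.H40.OC Matrix

variable {k : Type} [Field k] [CharP k 2] {Y : Type} [Group Y] {N : Type} [Fintype N]
  [DecidableEq N] {ρ : Y →* GL N k} {F : MulAut Y} {G : Subgroup Y} [IsAlgClosed k] (D : Datum 2 ρ F G)

/-- the elements of `T` on which the simple roots in `P` are trivial -/
def ZP (P : D.I → Prop) : Subgroup Y where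
  carrier := {z | z ∈ D.T ∧ ∀ i, P i → D.χ (sr i) z = 1}
  one_mem' := ⟨one_mem _, fun _ _ => D.χ_one _⟩
  mul_mem' ha hb := ⟨mul_mem ha.1 hb.1, fun i hi => by rw [D.χ_mul _ ha.1 hb.1, ha.2 i hi, hb.2 i hi, mul_one]⟩
  inv_mem' ha := ⟨inv_mem ha.1, fun i hi => by rw [D.χ_inv _ ha.1, ha.2 i hi, inv_one]⟩

/-- trivial on the coroots -/
def Inv (z : D.R → kˣ) : Prop := ∀ i, chr (D.cw i) z = 1

/-- the class of a simple root -/
noncomputable abbrev cl (i : D.I) : Ob D := Quotient.mk _ i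

variable {D} {P : D.I → Prop}

theorem ZP_F (h : D.QS) (hP : ∀ i, P (D.σ i) → P i) : ∀ z ∈ ZP D P, F z ∈ ZP D P := fun z hz =>
  ⟨D.F_mem_T hz.1, fun i hi => by
    obtain ⟨j, rfl⟩ := D.σ.surjective i
    rw [← h.g_sr, D.χ_F (isRoot_sr _ _ j) hz.1, hz.2 j (hP j hi), one_pow]⟩

theorem coch_mem_ZP {v : D.R → ℤ} (hv : ∀ i, P i → (Wt D *ᵥ v) i = 0) (a : kˣ) : D.τ (coch v a) ∈ ZP D P :=
  ⟨D.τ_mem _, fun i hi => by rw [χ_coch, hv i hi, zpow_zero, Units.val_one]⟩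

theorem cl_σ (i : D.I) : cl D (D.σ i) = cl D i :=
  Quotient.sound (Equiv.Perm.sameCycle_apply_left.2 (Equiv.Perm.SameCycle.refl _ _))

section lvl

variable {d e : ℕ} {ζ : kˣ} (L : Lvl D d e) (hζ : IsPrimitiveRoot ζ (2 ^ e - 1))
include L hζ

theorem exists_ZP (hZ : CZ D) {z : Y} (hz : z ∈ ZP D P) (h : (F ^ d) z = z) :
    ∃ v, (∀ i, P i → (Wt D *ᵥ v) i = 0) ∧ z = D.τ (coch v ζ) := by
  classical
  obtain ⟨m, ϖ, hϖ⟩ := hZ
  obtain ⟨x, hx⟩ := exists_coch L hζ (y := 1) (w := 1) (one_mem _) (by simpa using rp_one) (by rw [cj_one]; exact hz.1) h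
  rw [one_mul, inv_one, mul_one] at hx
  let s : D.I → ℤ := fun i => if P i then (Wt D *ᵥ x) i else 0
  have h1 : D.τ (coch ((2 ^ m : ℤ) • x - ∑ i, s i • ϖ i) ζ) = z ^ 2 ^ m := by
    have h2 : coch (∑ i, s i • ϖ i) ζ = 1 :=
      Finset.sum_induction _ (fun v => coch v ζ = 1) (fun a b ha hb => by rw [coch_add, ha, hb, mul_one])
        (funext fun _ => zpow_zero _) fun i _ => by
          by_cases hi : P i
          · have h3 := hz.2 i hi
            rw [hx, χ_coch, Units.val_eq_one] at h3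
            rw [coch_zsmul, show s i = _ from if_pos hi, h3, map_one]
          · rw [coch_zsmul, show s i = _ from if_neg hi, zpow_zero, map_one]
    rw [sub_eq_add_neg, coch_add, coch_neg, h2, inv_one, mul_one, coch_zsmul, hx, ← map_pow, ← map_pow]
    norm_cast
  have h2 : ∀ j, z ^ 2 ^ (e * j) = z := fun j => by
    induction j with
    | zero => simp
    | succ j ih => rw [mul_add, mul_one, pow_add, pow_mul, ih, ← Lvl_T L hz.1, h]
  refine ⟨(2 ^ (e * m - m) : ℤ) • ((2 ^ m : ℤ) • x - ∑ i, s i • ϖ i), fun i hi => ?_, ?_⟩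
  · rw [mulVec_smul, mulVec_sub, mulVec_smul, Wt_sum hϖ, Pi.smul_apply, Pi.sub_apply, Pi.smul_apply, Pi.smul_apply,
      show s i = _ from if_pos hi, sub_self, smul_zero]
  · rw [coch_zsmul, map_zpow, map_zpow, h1, ← h2 m]
    norm_cast
    rw [h2, ← pow_mul, ← pow_add, Nat.add_sub_cancel' (Nat.le_mul_of_pos_left m L.e_pos), h2]

theorem exists_nrm_ZP (h : D.QS) (hZ : CZ D) (hP : ∀ i, P (D.σ i) → P i) {z : Y} (hz : z ∈ ZP D P) (hF : F z = z) :
    ∃ v, (∀ i, P i → (Wt D *ᵥ v) i = 0) ∧ z = nrm F d (D.τ (coch v ζ)) := by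
  obtain ⟨v, hv, rfl⟩ := exists_ZP L hζ hZ hz (CF.pow_apply_of_fixed hF d)
  have h0 : 1 < 2 ^ e := Nat.one_lt_two_pow L.e_pos.ne'
  obtain ⟨b, hb⟩ := exists_zpow_eq (n := ((2 ^ e - 1 : ℕ) : ℤ)) (by omega) ζ⁻¹
  rw [zpow_natCast] at hb
  have h1 := coch_mem_ZP hv b
  have h2 : (F ^ d) (D.τ (coch v b)) = D.τ (coch v b) * (D.τ (coch v ζ))⁻¹ := by
    rw [Lvl_T L h1.1, ← map_inv, ← map_inv, ← hb, map_pow, map_pow, ← pow_succ', Nat.sub_add_cancel h0.le]
  obtain ⟨v', hv', h3⟩ := exists_ZP L hζ hZ (mul_mem h1 (inv_mem (ZP_F h hP _ h1))) (by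
    rw [map_mul, map_inv, ← MulAut.mul_apply _ (F ^ d) F, ← pow_succ, pow_succ', MulAut.mul_apply, h2, map_mul F,
      map_inv F, hF, _root_.mul_inv_rev, inv_inv, mul_assoc, inv_mul_cancel_left])
  exact ⟨v', hv', by rw [← h3, nrm_lang, h2, _root_.mul_inv_rev, inv_inv, D.T_comm (D.τ_mem _) (inv_mem h1.1),
    mul_inv_cancel_left]⟩

theorem nr_mem (v : D.R → ℤ) : nrm F d (D.τ (coch v ζ)) ∈ D.T ⊓ GF F G := by
  have h := nrm_mem L hζ (y := 1) (w := 1) (one_mem _) (by simpa using rp_one) v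
  rwa [cj_one, one_mul, inv_one, mul_one] at h

/-- the label of a linear character of `T^F` -/
theorem exists_labT (μ : TH D →* ℂˣ) : ∃ c : D.R → ℂˣ, PP.Fx D 1 c ∧
    ∀ v (t : TH D), ((t : GF F G) : Y) = nrm F d (D.τ (coch v ζ)) → μ t = chr v c := by
  let f : ↥(cj 1 D.T ⊓ GF F G) →* TH D :=
    { toFun := fun t => ⟨⟨t, t.2.2⟩, (cj_one D.T).le t.2.1⟩
      map_one' := rfl
      map_mul' := fun _ _ => rfl }
  have hw : D.Rp 1 ((1 : Y)⁻¹ * F 1) := by simpa using rp_one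
  obtain ⟨c, hc⟩ := exists_lab L hζ (one_mem _) hw (isLin_lin (μ.comp f))
  refine ⟨c, hc.fx L hζ (one_mem _) hw, fun v t ht => Units.ext ?_⟩
  rw [← hc v, lin_apply _ (nrm_mem L hζ (one_mem _) hw v)]
  refine congrArg (fun s => ((μ s : ℂˣ) : ℂ)) (Subtype.ext (Subtype.ext ?_))
  rw [ht]
  change _ = nrm F d _
  rw [one_mul, inv_one, mul_one]

end lvl

theorem Gd_comm {g t : Y} (hg : g ∈ G) (ht : t ∈ D.T) : g * t * g⁻¹ * t⁻¹ ∈ GAL.C2.Gd D := by
  obtain ⟨s, hs, t', ht', rfl⟩ := (D.mem_TS (A := {a | D.Rt a}) fun _ h => h).1 (D.G_eq.ge hg)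
  rw [show s * t' * t * (s * t')⁻¹ * t⁻¹ = s * ((t' * t) * t'⁻¹) * s⁻¹ * t⁻¹ by group, D.T_comm ht' ht,
    mul_inv_cancel_right, show s * t * s⁻¹ * t⁻¹ = s * (t * s⁻¹ * t⁻¹) by group]
  exact mul_mem hs (D.conj_mem_S_of_T (fun _ h => h) ht (inv_mem hs))

theorem nrm_Gd {a b : Y} (hb : b ∈ G) (h : a * b⁻¹ ∈ GAL.C2.Gd D) (d : ℕ) :
    nrm F d a * (nrm F d b)⁻¹ ∈ GAL.C2.Gd D := by
  induction d with
  | zero => simp [nrm_zero]
  | succ d ih =>
    have h1 : nrm F d b ∈ G := nrm_mem_of (fun y hy => (D.F_mem_G_iff y).2 hy) d hb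
    have h2 := pow_maps (Gd_F (D := D)) d h
    rw [nrm_succ, nrm_succ, show nrm F d a * (F ^ d) a * (nrm F d b * (F ^ d) b)⁻¹ =
      nrm F d a * (nrm F d b)⁻¹ * (nrm F d b * ((F ^ d) a * ((F ^ d) b)⁻¹) * (nrm F d b)⁻¹) by group, ← map_inv,
      ← map_mul]
    exact mul_mem ih (Gd_cj h1 h2)

/-! ### the coordinates -/

theorem mem_Do_iff (h : D.QS) {u : GF F G} (hu : u ∈ UH D) (i : D.I) : u ∈ Do D (cl D i) ↔ kap D i u = 0 := by
  refine ⟨fun h1 => h1.2 i rfl, fun h2 => ⟨hu, fun j hj => ?_⟩⟩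
  obtain ⟨m, -, rfl⟩ := (Quotient.exact hj.symm : D.σ.SameCycle i j).exists_pow_eq'
  clear hj
  induction m with
  | zero => exact h2
  | succ m ih => rw [pow_succ', Equiv.Perm.mul_apply, kap_fix h hu, ih, zero_pow (pow_ne_zero _ two_ne_zero), mul_zero]

theorem Sys.inj {I K : Type} [Group K] {U T : Subgroup K} {E : I → Subgroup K} (H : Sys U T E) {i j : I}
    (h : ∀ u ∈ U, u ∈ E i → u ∈ E j) : i = j := by
  by_contra h1
  obtain ⟨a, ha, h2⟩ := H.ne j
  obtain ⟨x, hx, h3, h4⟩ := H.co j a ha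
  exact h2 (by simpa using mul_mem (h x hx (h4 i h1)) h3)

variable {α : MulAut Y} {A : Matrix D.R D.R ℤ} {π : Equiv.Perm D.I} {ε : D.I → ℕ}

theorem aut_mem_Do (hq : D.QS) (h : Sym D α A π ε) {u : GF F G} (hu : u ∈ UH D) (i : D.I) :
    h.au.aut u ∈ Do D (cl D (π i)) ↔ u ∈ Do D (cl D i) := by
  obtain ⟨c, h1, h2⟩ := h.kap i
  rw [mem_Do_iff hq (u := h.au.aut u) ((h.au.memU _).2 hu), mem_Do_iff hq hu, Au.coe_aut, h2 _ (mS hu), mul_eq_zero,
    or_iff_right h1, pow_eq_zero_iff (pow_ne_zero _ two_ne_zero)]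

/-- automorphisms permute the coordinates -/
theorem exists_perm (hq : D.QS) (hZ : CZ D) (h : Sym D α A π ε) : ∃ s : Equiv.Perm (Ob D),
    (∀ i, s (cl D i) = cl D (π i)) ∧ ∀ o, ∀ u ∈ UH D, h.au.aut u ∈ Do D (s o) ↔ u ∈ Do D o := by
  have h1 : ∀ i j, cl D i = cl D j ↔ cl D (π i) = cl D (π j) := fun i j =>
    ⟨fun e => Sys.inj (sys hq hZ) fun u hu h2 => by
      obtain ⟨u, rfl⟩ := h.au.aut.surjective u
      have h3 : u ∈ UH D := (h.au.memU _).1 hu
      rwa [aut_mem_Do hq h h3, ← e, ← aut_mem_Do hq h h3],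
    fun e => Sys.inj (sys hq hZ) fun u hu h2 => by
      rwa [← aut_mem_Do hq h hu, ← e, aut_mem_Do hq h hu]⟩
  let f : Ob D → Ob D := Quotient.lift (fun i => cl D (π i)) fun i j e => (h1 i j).1 (Quotient.sound e)
  have h2 : Function.Injective f := fun a b => Quotient.inductionOn₂ a b fun i j e => (h1 i j).2 e
  exact ⟨Equiv.ofBijective f (Finite.injective_iff_bijective.1 h2), fun _ => rfl,
    fun o => Quotient.inductionOn o fun i u hu => aut_mem_Do hq h hu i⟩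

theorem mem_TJ (hq : D.QS) {J : Set (Ob D)} {t : GF F G} :
    t ∈ TJ (UH D) (TH D) (Do D) J ↔ (t : Y) ∈ ZP D fun i => cl D i ∈ J := by
  have h0 : t ∈ TH D → ∀ u ∈ UH D, ∀ i, kap D i (u⁻¹ * (t * u * t⁻¹) : GF F G) = (D.χ (sr i) t - 1) * kap D i u :=
    fun ht u hu i => by
      rw [Subgroup.coe_mul, Subgroup.coe_mul, Subgroup.coe_mul, Subgroup.coe_inv, Subgroup.coe_inv,
        kap_mul i (inv_mem (mS hu)) (D.conj_mem_U_of_T (mS ht) (mS hu)), kap_inv i (mS hu), kap_conj i (mS ht) (mS hu)]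
      ring
  refine and_congr_right fun ht => ⟨fun h1 i hi => ?_, fun h1 o ho u hu => ?_⟩
  · obtain ⟨u, hu, h2⟩ := exists_regU hq
    have h3 := (h1 _ hi ⟨u, hu.2⟩ hu.1).2 i rfl
    rw [h0 ht _ hu.1] at h3
    exact sub_eq_zero.1 ((mul_eq_zero.1 h3).resolve_right (h2 i))
  · refine ⟨mul_mem (inv_mem (mS hu)) (D.conj_mem_U_of_T ht hu), fun i hi => ?_⟩
    rw [h0 ht u hu, h1 i ((show cl D i = o from hi) ▸ ho :), sub_self, zero_mul]

/-! ### the factorisation of the labels -/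

theorem Inv.mul {z z' : D.R → kˣ} (h : Inv D z) (h' : Inv D z') : Inv D (z * z') := fun i => by
  rw [map_mul, h, h', mul_one]

theorem Inv.wm {z : D.R → kˣ} (h : Inv D z) (u : D.W) (v : D.R → ℤ) : chr (D.Wm u *ᵥ v) z = chr v z := by
  induction u using D.cs.simple_induction_left with
  | one => rw [D.Wm_one, one_mulVec]
  | mul_simple_left u i ih =>
    rw [D.Wm_mul, ← mulVec_mulVec, D.Wm_simple, sub_mulVec, one_mulVec, vecMulVec_mulVec, chr_sub, ih, op_smul_eq_smul,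
      chr_zsmul, h, _root_.one_zpow, inv_one, mul_one]

theorem Inv.sym {z : D.R → kˣ} (h : Inv D z) (hα : Sym D α A π ε) : Inv D (pb A z) := fun i => by
  rw [chr_pb, hα.cw, chr_zsmul, h, _root_.one_zpow]

theorem exists_fac (b : D.R → kˣ) : ∃ b0 z, Inv D z ∧ b = pb (Wt D) b0 * z := by
  have h0 : (Wt D * (of D.cw)ᵀ)ᵀ.det ≠ 0 := by rw [det_transpose]; exact det_cartan D
  obtain ⟨b0, h⟩ := mon_surj h0 fun i => chr (D.cw i) b
  refine ⟨b0, (pb (Wt D) b0)⁻¹ * b, fun i => ?_, by rw [mul_inv_cancel_left]⟩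
  rw [map_mul, map_inv, chr_pb, ← congrFun h i, inv_mul_eq_one]
  rfl

/-- the value of a coordinate -/
noncomputable def val (b0 : D.I → kˣ) (z : D.R → kˣ) (i : D.I) (n : ℕ) (v : D.R → ℤ) : k :=
  chr v z * st D.cs D.h i b0 ^ 2 ^ n

theorem chr_fac {v : D.R → ℤ} {i : D.I} {n : ℕ} (hv : Wt D *ᵥ v = (2 ^ n : ℤ) • Pi.single i 1) (b0 : D.I → kˣ) :
    chr v (pb (Wt D) b0) = b0 i ^ 2 ^ n := by
  rw [chr_pb, hv, chr_zsmul, chr_single]
  norm_cast

theorem inv_pb {y : D.I → kˣ} (h : Inv D (pb (Wt D) y)) (j : D.I) : chr (fun i => D.A j i) y = 1 := by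
  rw [← Wt_cw, ← chr_pb, h]

theorem val_eq {b0 b1 : D.I → kˣ} {z z' : D.R → kˣ} (hz : Inv D z) (hz' : Inv D z') {u : D.W}
    (h : ∀ v, chr (D.Wm u *ᵥ v) (pb (Wt D) b1 * z') = chr v (pb (Wt D) b0 * z)) {v : D.R → ℤ} {i : D.I} {n : ℕ}
    (hv : Wt D *ᵥ v = (2 ^ n : ℤ) • Pi.single i 1) : val b0 z i n v = val b1 z' i n v := by
  let b2 := pb (Wp D.cs D.h u) b1
  have h1 : pb (Wt D) b2 * z' = pb (Wt D) b0 * z := ext_chr fun v => by
    rw [← h, map_mul, map_mul, hz'.wm, chr_pb, chr_pb, chr_pb, mulVec_mulVec, mulVec_mulVec, Wt_Wm]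
  have h2 : pb (Wt D) (b2⁻¹ * b0) * z = z' := by
    rw [map_mul, map_inv, mul_assoc, ← h1, inv_mul_cancel_left]
  have h3 : Inv D (pb (Wt D) (b2⁻¹ * b0)) := fun j => by
    have := hz' j
    rwa [← h2, map_mul, hz j, mul_one] at this
  have h4 := st_mul D.cs D.h (inv_pb h3) i b2
  rw [mul_inv_cancel_left] at h4
  rw [val, val, h4, ← h2, map_mul, chr_fac hv, st_congr D.cs D.h (b := b2) (b' := b1) (w := u)
    (fun v => (chr_pb _ v b1).symm) i, mul_pow, Units.val_mul, Units.val_pow_eq_pow_val]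
  ring

end Cfsg.Agent.MK.Two

private theorem dce_3fe04b8daf39 : _root_.True := by
  try have : _root_.True := by simp only [_root_.Cfsg.Agent.MK.Two.val.eq_1]
  exact _root_.True.intro
end

-- part: MK/Two/Rel2
section
prune_inst 0x4010000
set_option linter.all false
open scoped Cfsg.Agent.FastGrp

/-!
# MK, characteristic two: the relation between the characters of `G^F` and `B^F` (helper58)

`relBox (h : BorBox) : RelBox`.
-/

set_option autoImplicit false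
set_option maxHeartbeats 400000
set_option linter.unusedSectionVars false

namespace Cfsg.Agent.MK.Two

open Cfsg CoxeterSystem Cfsg.Agent.Tits.Roots Cfsg.Agent.Nodes.Reps Cfsg.Agent.Nodes.BNOf
open Cfsg.Agent.DL Cfsg.Agent.DL.PP Cfsg.Agent.DL.Asm Cfsg.Agent.DL.Uni Cfsg.Agent.DL.Mk Cfsg.Agent.ODD.C2
open Cfsg.Agent.GAL.C2 Cfsg.Agent.GAL.Two Cfsg.Agent.H40.OC Cfsg.Agent.Characters.Core Matrix

theorem Js_aut {K I : Type} [Group K] {U B : Subgroup K} {E : I → Subgroup K} (a : MulAut K) (s : Equiv.Perm I)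
    (hU : ∀ u, a u ∈ U ↔ u ∈ U) (hUB : U ≤ B) (hE : ∀ o, ∀ u ∈ U, a u ∈ E (s o) ↔ u ∈ E o) {ψ ψ' : B → ℂ}
    (h : ∀ b b' : B, (b' : K) = a b → ψ' b = ψ b') (i : I) : i ∈ Js U B E ψ' ↔ s i ∈ Js U B E ψ := by
  have h1 : ψ' 1 = ψ 1 := h 1 1 (map_one a).symm
  constructor
  · rintro ⟨u, hu, h2, h3⟩
    refine ⟨⟨a u, hUB ((hU _).2 hu)⟩, (hU _).2 hu, fun j hj => ?_, by rwa [← h u _ rfl, ← h1]⟩
    obtain ⟨j, rfl⟩ := s.surjective j
    exact (hE j _ hu).2 (h2 j fun e => hj (congrArg s e))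
  · rintro ⟨u, hu, h2, h3⟩
    have h4 : a⁻¹ u ∈ U := by rwa [← hU, MulAut.apply_inv_self]
    refine ⟨⟨a⁻¹ u, hUB h4⟩, h4, fun j hj => ?_, by rwa [h _ u (MulAut.apply_inv_self _ a _).symm, h1]⟩
    rw [← hE j _ h4, MulAut.apply_inv_self]
    exact h2 _ fun e => hj (s.injective e)

theorem Js_tw {K I : Type} [Group K] {U B : Subgroup K} {E : I → Subgroup K} (β : K →* ℂˣ) (h : ∀ u ∈ U, β u = 1)
    (ψ : B → ℂ) : Js U B E (fun b => β b * ψ b) = Js U B E ψ :=
  Set.ext fun i => exists_congr fun u => and_congr_right fun hu => and_congr_right fun _ => by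
    simp only [h _ hu, OneMemClass.coe_one, map_one, Units.val_one, one_mul]

theorem oi_iff {H : Type} [Group H] {χ : H → ℂ} : OI H χ ↔ IsIrrCharacter H χ ∧ ¬ 2 ∣ charDegree χ :=
  and_congr_right fun _ => by rw [← Nat.not_even_iff_odd, even_iff_two_dvd]

variable {k : Type} [Field k] [CharP k 2] {Y : Type} [Group Y] {N : Type} [Fintype N]
  [DecidableEq N] {ρ : Y →* GL N k} {F : MulAut Y} {G : Subgroup Y} [IsAlgClosed k] (D : Datum 2 ρ F G)
  [Fintype (GF F G)]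

/-- the data of the relation -/
structure Rd (B : Subgroup (GF F G)) (d e : ℕ) (ζ : kˣ) (J : kˣ →* ℂˣ) (χ : GF F G → ℂ) (ψ : B → ℂ) (b0 : D.I → kˣ)
    (z : D.R → kˣ) : Prop where
  inv : Inv D z
  tor : (pb (Wt D) b0 * z) ^ (2 ^ e - 1) = 1
  lb : Lb D d ζ χ (J.compLeft _ (pb (Wt D) b0 * z))
  cz : ∀ t : B, ((t : GF F G) : Y) ∈ Zc D → χ t * ψ 1 = ψ t * χ 1
  js : ∀ i, st D.cs D.h i b0 = 0 ↔ cl D i ∈ Js (UH D) B (Do D) ψ
  vl : ∀ i n v, Wt D *ᵥ v = (2 ^ n : ℤ) • Pi.single i 1 → ∀ x : kˣ, (x : k) = val b0 z i n v →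
    ∀ t : B, ((t : GF F G) : Y) = nrm F d (D.τ (coch v ζ)) → ψ t = J x * ψ 1

variable {D} {B : Subgroup (GF F G)} {d e : ℕ} {ζ : kˣ} {J : kˣ →* ℂˣ} {χ : GF F G → ℂ} {ψ ψ' : B → ℂ}
  {b0 b1 : D.I → kˣ} {z z' : D.R → kˣ} {α : MulAut Y} {A : Matrix D.R D.R ℤ} {π : Equiv.Perm D.I} {ε : D.I → ℕ}

theorem val_eq_zero {i : D.I} {n : ℕ} {v : D.R → ℤ} : val b0 z i n v = 0 ↔ st D.cs D.h i b0 = 0 := by
  rw [val, mul_eq_zero, or_iff_right (Units.ne_zero _), pow_eq_zero_iff (pow_ne_zero _ two_ne_zero)]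

variable (V : Lev D d e ζ J) (hB : Bo (UH D) (TH D) B (Do D))
include V

theorem exists_lift {c : D.R → ℂˣ} (hc : c ^ (2 ^ e - 1) = 1) : ∃ b, b ^ (2 ^ e - 1) = 1 ∧ J.compLeft _ b = c := by
  have : NeZero (2 ^ e - 1) := ⟨two_pow_ne V.lvl.e_pos⟩
  choose n _ hn using fun r => V.primJ.eq_pow_of_mem_rootsOfUnity (congrFun hc r)
  exact ⟨fun r => ζ ^ n r, funext fun r => by
    rw [Pi.pow_apply, ← pow_mul, mul_comm, pow_mul, V.prim.pow_eq_one, one_pow, Pi.one_apply],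
    funext fun r => (map_pow J ζ _).trans (hn r)⟩

theorem chr_of_J {b b' : D.R → kˣ} (hb : b ^ (2 ^ e - 1) = 1) (hb' : b' ^ (2 ^ e - 1) = 1) {v v' : D.R → ℤ}
    (h : chr v (J.compLeft _ b) = chr v' (J.compLeft _ b')) : chr v b = chr v' b' :=
  V.inj (map_tor _ hb) (map_tor _ hb') (by rwa [← chr_J, ← chr_J])

/-- the norm as an element of `T^F` -/
noncomputable def nr (v : D.R → ℤ) : TH D := ⟨⟨_, (nr_mem V.lvl V.prim v).2⟩, (nr_mem V.lvl V.prim v).1⟩

theorem nr_TJ {S : Set (Ob D)} {v : D.R → ℤ} (hv : ∀ i, cl D i ∈ S → (Wt D *ᵥ v) i = 0) :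
    (nr V v : GF F G) ∈ TJ (UH D) (TH D) (Do D) S :=
  (mem_TJ V.good.qs).2 (nrm_mem_of (ZP_F V.good.qs fun i hi => by rwa [cl_σ] at hi) d (coch_mem_ZP hv ζ))

theorem nr_TJ' {S : Set (Ob D)} {v : D.R → ℤ} {i : D.I} {n : ℕ} (hv : Wt D *ᵥ v = (2 ^ n : ℤ) • Pi.single i 1)
    (hi : cl D i ∉ S) : (nr V v : GF F G) ∈ TJ (UH D) (TH D) (Do D) S :=
  nr_TJ V fun j hj => by rw [hv, Pi.smul_apply, Pi.single_eq_of_ne (fun e : j = i => hi (e ▸ hj)), smul_zero]

include hB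

theorem Rd.aut (hα : Sym D α A π ε) (h : Rd D B d e ζ J χ ψ b0 z)
    (h1 : ∀ b b' : B, (b' : GF F G) = hα.au.aut b → ψ' b = ψ b') :
    Rd D B d e ζ J (fun g => χ (hα.au.aut g)) ψ' (pb (Ps π ε) b0) (pb A z) := by
  have h2 : pb (Wt D) (pb (Ps π ε) b0) * pb A z = pb A (pb (Wt D) b0 * z) := ext_chr fun v => by
    simp only [map_mul, chr_pb, mulVec_mulVec, hα.wt_mul]
  have h3 : ψ' 1 = ψ 1 := h1 1 1 (map_one _).symm
  have h4 : ∀ i, st D.cs D.h i (pb (Ps π ε) b0) = st D.cs D.h (π i) b0 ^ 2 ^ ε i :=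
    st_map D.cs D.h π ε _ (Ps_single π ε) hα.ps_wp (chr_pb _ · b0)
  obtain ⟨s, h5, h6⟩ := exists_perm V.good.qs V.good.cz hα
  refine ⟨h.inv.sym hα, h2 ▸ map_tor _ h.tor, ?_, fun t ht => ?_, fun i => ?_, fun i n v hv x hx t ht => ?_⟩
  · rw [h2, show J.compLeft _ (pb A (pb (Wt D) b0 * z)) = mon Aᵀ (J.compLeft _ (pb (Wt D) b0 * z)) from
      ext_chr fun v => by rw [chr_J, chr_pb, ← chr_J, chr_tr D A v]]
    exact h.lb.aut hα.au
  · have h7 : ((hα.au.aut t : GF F G) : Y) ∈ Zc D := ⟨(hα.au.memT _).2 ht.1, fun i => by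
      obtain ⟨i, rfl⟩ := π.surjective i
      obtain ⟨c, hc⟩ := (D.mem_T _).1 ht.1
      have h8 := ht.2 i
      rw [← hc, D.χ_τ, Units.val_eq_one] at h8
      rw [Au.coe_aut, ← hc, hα.au.tau, D.χ_τ, chr_wt_mon hα, h8, one_pow, Units.val_one]⟩
    rw [h1 t ⟨_, hB.tB h7.1⟩ rfl, h3, map_one]
    exact h.cz ⟨_, hB.tB h7.1⟩ h7
  · rw [h4, pow_eq_zero_iff (pow_ne_zero _ two_ne_zero), h.js, ← h5]
    exact (Js_aut hα.au.aut s (fun u => hα.au.memU _) hB.uB h6 h1 _).symm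
  · rw [h1 t ⟨_, hB.tB (nr V (A *ᵥ v)).2⟩ (Subtype.ext ?_), h3]
    · refine h.vl (π i) (ε i + n) (A *ᵥ v) ?_ x ?_ _ rfl
      · rw [mulVec_mulVec, hα.wt_mul, ← mulVec_mulVec, hv, mulVec_smul, Ps_single, pow_add, mul_comm, ← smul_smul]
        norm_cast
      · rw [hx, val, val, h4, chr_pb, ← pow_mul, ← pow_add]
    · rw [Au.coe_aut, ht, ← nrm_map hα.au.comm, hα.au.tau, mon_coch]
      rfl

theorem Rd.tw (β : GF F G →* ℂˣ) (hβ : ∀ g : GF F G, (g : Y) ∈ GAL.C2.Gd D → β g = 1)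
    (hu : ∀ g : GF F G, IsUni 2 (g : Y) → β g = 1) (h : Rd D B d e ζ J χ ψ b0 z) :
    ∃ z', Rd D B d e ζ J (fun g => β g * χ g) (fun b => β b * ψ b) b0 z' := by
  obtain ⟨z1, h1, h2, y, hy, w, hw, h3⟩ := lb_tw V.lvl V.prim h.lb β hβ hu
  have h4 : z1 ^ (2 ^ e - 1) = 1 := by
    have := V.tor h2
    rwa [mul_pow, V.tor h.lb, one_mul] at this
  obtain ⟨z2, h5, rfl⟩ := exists_lift V h4
  have h6 : ∀ v, β (nr V v) = J (chr v z2) := fun v => by
    have h7 := (nrm_mem V.lvl V.prim hy hw v).2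
    rw [← chr_J, ← h3 v ⟨_, h7⟩ rfl, eq_comm, ← mul_inv_eq_one, ← map_inv, ← map_mul]
    exact hβ _ (nrm_Gd (D.T_le_G (D.τ_mem _)) (Gd_comm hy (D.τ_mem _)) d)
  refine ⟨z * z2, h.inv.mul fun i => V.inj (map_tor _ h5) (one_pow _) (by rw [← chr_J, h1, map_one]), ?_, ?_,
    fun t ht => ?_, fun i => ?_, fun i n v hv x hx t ht => ?_⟩
  · rw [← mul_assoc, mul_pow, h.tor, h5, mul_one]
  · rwa [← mul_assoc, map_mul]
  · simp only [OneMemClass.coe_one, map_one, Units.val_one, one_mul]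
    rw [mul_assoc, h.cz t ht, mul_assoc]
  · rw [Js_tw β fun u hu' => ?_, h.js]
    obtain ⟨n, hn⟩ := pow_U D (mS hu')
    obtain ⟨j, -, hj⟩ := (Nat.dvd_prime_pow Nat.prime_two).1 (orderOf_dvd_of_pow_eq_one hn)
    exact hu u ⟨j, hj⟩
  · simp only [OneMemClass.coe_one, map_one, Units.val_one, one_mul]
    rw [h.vl i n v hv (x * (chr v z2)⁻¹) (by
      rw [Units.val_mul, hx, val, val, map_mul, Units.val_mul, Units.val_inv_eq_inv_val]
      field_simp) t ht, show (t : GF F G) = nr V v from Subtype.ext ht, h6, ← mul_assoc, ← Units.val_mul, ← map_mul,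
      mul_comm (chr v z2), inv_mul_cancel_right]

theorem Rd.un (hb : BorBox) (hχ : OI _ χ) (hψ : OI B ψ) (hψ' : OI B ψ') (h : Rd D B d e ζ J χ ψ b0 z)
    (h' : Rd D B d e ζ J χ ψ' b1 z') : ψ = ψ' := by
  have := Fintype.ofFinite (Ob D)
  obtain ⟨m, ϖ, hϖ⟩ := V.good.cz
  obtain ⟨u, hu⟩ := h.lb.rel V.lvl V.prim hχ.1 h'.lb
  have h1 : ∀ {v i n}, Wt D *ᵥ v = (2 ^ n : ℤ) • Pi.single i 1 → val b0 z i n v = val b1 z' i n v :=
    val_eq h.inv h'.inv fun v => chr_of_J V h'.tor h.tor (hu v)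
  have h2 : Js (UH D) B (Do D) ψ = Js (UH D) B (Do D) ψ' := Set.ext fun o => Quotient.inductionOn o fun i => by
    rw [← h.js, ← h'.js, ← val_eq_zero (z := z), h1 (Wt_pi hϖ i), val_eq_zero]
  obtain ⟨μ, hμ⟩ := (hb hB).1 ψ hψ
  obtain ⟨μ', hμ'⟩ := (hb hB).1 ψ' hψ'
  rw [← h2] at hμ'
  obtain ⟨c, c1, c2⟩ := exists_labT V.lvl V.prim (μ * μ'⁻¹)
  have h3 : ∀ v, μ (nr V v) = μ' (nr V v) ↔ chr v c = 1 := fun v => by
    rw [← c2 v (nr V v) rfl, MonoidHom.mul_apply, MonoidHom.inv_apply, mul_inv_eq_one]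
  refine (hb hB).2.1 ψ ψ' hψ hψ' h2 fun t ht => ?_
  obtain ⟨v, hv, h4⟩ := exists_nrm_ZP V.lvl V.prim V.good.qs V.good.cz (fun i hi => by rwa [cl_σ] at hi)
    ((mem_TJ V.good.qs).1 ht) t.1.2.2
  obtain rfl : t = ⟨_, hB.tB (nr V v).2⟩ := Subtype.ext (Subtype.ext h4)
  rw [hμ _ ht, hμ' _ ht, (h3 v).2 ?_, mul_right_comm]
  have h5 : ∀ v, Wt D *ᵥ v = 0 → chr v c = 1 := fun v hv => (h3 v).1 (Units.ext ?_)
  · have h6 : ∀ i, chr ((Wt D *ᵥ v) i • ϖ i) c = 1 := fun i => by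
      by_cases hi : cl D i ∈ Js (UH D) B (Do D) ψ
      · rw [hv i hi, zero_smul, chr_zero]
      · have h7 : val b0 z i m (ϖ i) ≠ 0 := fun e => hi ((h.js i).1 (val_eq_zero.1 e))
        have h8 := h.vl i m _ (Wt_pi hϖ i) (Units.mk0 _ h7) rfl ⟨_, hB.tB (nr V (ϖ i)).2⟩ rfl
        have h9 := h'.vl i m _ (Wt_pi hϖ i) (Units.mk0 _ h7) (h1 (Wt_pi hϖ i)) ⟨_, hB.tB (nr V (ϖ i)).2⟩ rfl
        rw [hμ _ (nr_TJ' V (Wt_pi hϖ i) hi)] at h8
        rw [hμ' _ (nr_TJ' V (Wt_pi hϖ i) hi)] at h9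
        rw [chr_zsmul, (h3 _).1 (Units.ext ((mul_right_cancel₀ hψ.one_ne h8).trans
          (mul_right_cancel₀ hψ'.one_ne h9).symm)), _root_.one_zpow]
    have h7 := h5 ((2 ^ m : ℤ) • v - ∑ i, (Wt D *ᵥ v) i • ϖ i) (by rw [mulVec_sub, mulVec_smul, Wt_sum hϖ, sub_self])
    rw [chr_sub, chr_sum, Finset.prod_eq_one fun i _ => h6 i, inv_one, mul_one, chr_zsmul] at h7
    exact H672.units_eq_one_of_pow (A := 2 ^ m) (B := 2 ^ e - 1)
      (Nat.Coprime.pow_left m (Mn.odd_two_pow_sub_one V.lvl.e_pos).coprime_two_left) (by exact_mod_cast h7)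
      (map_tor _ (tor_of c1 (V.lvl.pow 1)))
  · have h6 : ((nr V v : GF F G) : Y) ∈ Zc D := nrm_mem_of (Zc_F V.good.qs) d (coch_mem_Zc hv ζ)
    have h7 := h.cz ⟨_, hB.tB (nr V v).2⟩ h6
    have h8 := h'.cz ⟨_, hB.tB (nr V v).2⟩ h6
    rw [hμ _ (nr_TJ V fun i _ => congrFun hv i), mul_right_comm] at h7
    rw [hμ' _ (nr_TJ V fun i _ => congrFun hv i), mul_right_comm] at h8
    exact mul_right_cancel₀ hχ.one_ne ((mul_right_cancel₀ hψ.one_ne h7).symm.trans (mul_right_cancel₀ hψ'.one_ne h8))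

theorem Rd.ex (hb : BorBox) (hψ : OI B ψ) : ∃ χ b0 z, OI _ χ ∧ Rd D B d e ζ J χ ψ b0 z := by
  classical
  have := Fintype.ofFinite (Ob D)
  have hF := Sym.self V.good.qs
  obtain ⟨μ, hμ⟩ := (hb hB).1 ψ hψ
  obtain ⟨c, c1, c2⟩ := exists_labT V.lvl V.prim μ
  obtain ⟨b, b1, rfl⟩ := exists_lift V (tor_of c1 (V.lvl.pow 1))
  obtain ⟨b2, z, hz, rfl⟩ := exists_fac b
  obtain ⟨b0, h0⟩ := st_surj D.cs D.h fun i => if cl D i ∈ Js (UH D) B (Do D) ψ then 0 else (b2 i : k)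
  let Ψ := Ps D.σ fun i => D.ex (sr i)
  have h1 : pb D.Mx z = pb (Wt D) (b2 * (pb Ψ b2)⁻¹) * z := ext_chr fun v => by
    have h2 := chr_of_J V b1 b1 (c1 v)
    rw [D.Wm_one, Matrix.one_mul, map_mul, map_mul, chr_pb, mulVec_mulVec, hF.wt_mul] at h2
    rw [map_mul, map_mul, map_mul, map_inv, map_inv, chr_pb _ _ z, chr_pb _ _ (pb Ψ b2), chr_pb Ψ, mulVec_mulVec,
      mul_right_comm, ← h2, mul_comm (chr _ b2), mul_inv_cancel_right]
  have h2 : Inv D (pb (Wt D) (b2 * (pb Ψ b2)⁻¹)) := fun i => by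
    have := hz.sym hF i
    rwa [h1, map_mul, hz i, mul_one] at this
  obtain ⟨u, hu⟩ := st_inj D.cs D.h (b := b0) (b' := pb Ψ b0 * (b2 * (pb Ψ b2)⁻¹)) fun i => by
    rw [st_mul D.cs D.h (inv_pb h2), st_map D.cs D.h _ _ _ (Ps_single _ _) hF.ps_wp (chr_pb _ · b0), h0, h0, cl_σ]
    split_ifs
    · rw [zero_pow (pow_ne_zero _ two_ne_zero), mul_zero]
    · rw [Pi.mul_apply, Pi.inv_apply, pb_Ps, ← Units.val_pow_eq_pow_val, ← Units.val_mul, inv_mul_cancel_right]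
  have h3 : ∀ v, chr ((D.Wm (D.Fw u) * D.Mx) *ᵥ v) (pb (Wt D) b0 * z) = chr v (pb (Wt D) b0 * z) := fun v => by
    rw [← D.Mx_Wm, ← mulVec_mulVec, map_mul, map_mul, ← chr_pb D.Mx _ z, h1, map_mul, hz.wm, ← mul_assoc, chr_pb,
      chr_pb, chr_pb, mulVec_mulVec, hF.wt_mul, ← mulVec_mulVec, ← chr_pb Ψ, ← map_mul, mulVec_mulVec, Wt_Wm,
      ← mulVec_mulVec, hu]
  obtain ⟨χ, h4, h5, h6⟩ := exists_of_fx V.lvl V.prim V.good.cz (c := J.compLeft _ (pb (Wt D) b0 * z)) (w := D.Fw u)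
    fun v => by rw [chr_J, chr_J, h3]
  refine ⟨χ, b0, z, oi_iff.2 ⟨h4, h5⟩, hz, tor_of h3 (V.lvl.pow _), h6, fun t ht => ?_, fun i => ?_,
    fun i n v hv x hx t ht => ?_⟩
  · obtain ⟨v, hv, h7⟩ := exists_nrm_cen V.lvl V.prim V.good.qs V.good.cz ht t.1.2.2
    obtain rfl : t = ⟨_, hB.tB (nr V v).2⟩ := Subtype.ext (Subtype.ext h7)
    rw [hμ _ (nr_TJ V fun i _ => congrFun hv i), c2 v _ rfl, lb_nrm V.lvl V.prim h4 h6 V.good.qs hv h7, chr_J, chr_J,
      map_mul (chr v), map_mul (chr v), chr_pb, chr_pb, hv, chr_zero, chr_zero, mul_right_comm]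
  · rw [h0]
    split_ifs with hi
    · exact iff_of_true rfl hi
    · exact iff_of_false (Units.ne_zero _) hi
  · have hi : cl D i ∉ Js (UH D) B (Do D) ψ := fun hi => x.ne_zero (by
      rw [hx, val_eq_zero, h0, if_pos hi])
    obtain rfl : t = ⟨_, hB.tB (nr V v).2⟩ := Subtype.ext (Subtype.ext ht)
    rw [hμ _ (nr_TJ' V hv hi), c2 v _ rfl, chr_J, show x = chr v (pb (Wt D) b2 * z) from Units.ext (by
      rw [hx, val, h0, if_neg hi, map_mul, chr_fac hv, mul_comm, Units.val_mul, Units.val_pow_eq_pow_val])]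

omit V hB

/-- **the relation** -/
theorem relBox (hb : BorBox) : RelBox := by
  intro k _ _ Y _ N _ _ ρ F G _ D h B hB
  have := D.amb.finite_GF G
  have := Fintype.ofFinite (GF F G)
  obtain ⟨d, e, ζ, J, V⟩ := exists_lev h
  refine ⟨fun χ ψ => ∃ b0 z, Rd D B d e ζ J χ ψ b0 z, fun ψ hψ => ?_, ?_, ?_, ?_, ?_⟩
  · obtain ⟨χ, b0, z, h1, h2⟩ := Rd.ex V hB hb hψ
    exact ⟨χ, h1, b0, z, h2⟩
  · rintro χ ψ ψ' hχ hψ hψ' ⟨b0, z, h1⟩ ⟨b1, z', h2⟩
    exact h1.un V hB hb hχ hψ hψ' h2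
  · rintro α A π ε hα χ ψ ψ' - - ⟨b0, z, h1⟩ h2
    exact ⟨_, _, h1.aut V hB hα h2⟩
  · rintro β h1 h2 χ ψ - - ⟨b0, z, h3⟩
    exact ⟨b0, h3.tw V hB β h1 h2⟩
  · rintro χ ψ - - ⟨b0, z, h1⟩
    exact h1.cz

end Cfsg.Agent.MK.Two

private theorem dce_7bfd0d379e3b : _root_.True := by
  try have : _root_.True := by simp only [_root_.Cfsg.Agent.GAL.C2.Ps.congr_simp]
  exact _root_.True.intro
end

section
prune_inst 0xf9fff95fa949dfdfff7e3ffeddddf810800fffe4dff90bbfe021bf2bdf23020945238589f010fe0e56421410a87803fb7eeabfe06bdc7ffffd5ff41ffb4e4fe5f7350951d488340f342ffe03f07f8e6f000000000000000000000000000000000200000000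

-- part: MK/P/GC1
section
prune_inst 0x20000a00086202000018000220207e42fe000022000b0400d4400c0005c29c6a080086203420081a120a085400300048114400b0420000000a0004000b18008008800000b148a108a0001e001000010000000000000000000000000000041004004010000
set_option linter.all false
open scoped Cfsg.Agent.FastGrp

/-!
# MK-P: automorphisms which fix the characters of odd degree, type `C` (helper36)

* `Av R l Φ δ` : `δ` fixes the data (the torus only modulo squares);
* `fix_av` : `χ ∘ δ = χ`.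
-/

set_option autoImplicit false
set_option linter.unusedSectionVars false

namespace Cfsg.Agent.MK.P

open Cfsg Cfsg.Agent.ODD Cfsg.Agent.ODD.PS Cfsg.Agent.ODD.PS.C3
open CoxeterSystem Cfsg.Agent.ChevalleyStructure.CoxeterGeom Cfsg.Agent.Tits.Roots Cfsg.Agent.Tits.Core
  Cfsg.Agent.Nodes.Reps Cfsg.Agent.Nodes.BNOf Cfsg.Agent.Nodes.Bruhat Cfsg.Agent.Nodes.StabComb
  Cfsg.Agent.Nodes.SubComb Cfsg.Agent.Nodes.LeviDec Cfsg.Agent.Nodes.NormalForm Cfsg.Agent.Nodes.OppDec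
  Cfsg.Agent.H684.OQ Cfsg.Agent.H670 Cfsg.Agent.H381.OQ Cfsg.Agent.ODD.Red Cfsg.Agent.Characters

local notation "σ₁" => RingEquiv.refl ℂ

/-- an invariant nontrivial character -/
theorem exists_inv {A : Type} [Group A] [Finite A] (hc : ∀ a b : A, a * b = b * a) (d : A →* A) {x : A} (hx : x ≠ 1)
    (hd : d x = x) : ∃ f : A →* ℂˣ, f ≠ 1 ∧ ∀ a, f (d a) = f a := by
  let _ : CommGroup A := { (inferInstance : Group A) with mul_comm := hc }
  have h1 : ¬ Function.Surjective (d / MonoidHom.id A) := fun h => hx (Finite.injective_iff_surjective.2 h (by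
    rw [map_one, MonoidHom.div_apply, hd, MonoidHom.id_apply, div_self']))
  obtain ⟨y, hy⟩ := not_forall.1 h1
  obtain ⟨f, hf⟩ := CommGroup.exists_apply_ne_one_of_hasEnoughRootsOfUnity (A ⧸ (d / MonoidHom.id A).range) ℂ
    (a := QuotientGroup.mk y) fun e => hy ((QuotientGroup.eq_one_iff _).1 e)
  refine ⟨f.comp (QuotientGroup.mk' _), fun e => hf (DFunLike.congr_fun e y), fun a => congrArg f ?_⟩
  exact (QuotientGroup.eq_iff_div_mem).2 ⟨a, rfl⟩

section gen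

variable {I W Y : Type} [Fintype I] [DecidableEq I] [Group W] [Finite W] [Group Y] [Finite Y]
  {M : CoxeterMatrix I} {cs : CoxeterSystem M W} {A : I → I → ℤ} {h : IsCartan M A} {p : ℕ} {T : Subgroup Y}
  {n : I → Y} {X : (I → ℤ) → Subgroup Y} {R : RGD cs h p T n X} {F : Type} [Field F] [Fintype F] {l : I}
  {Φ : S2 F →* Y} {AT : I → I → ℤ} {hT : IsCartan M AT} {J W' : Type} [Fintype J] [DecidableEq J] [Group W']
  [Finite W'] {M' : CoxeterMatrix J} {cs' : CoxeterSystem M' W'} {A' : J → J → ℤ} {h' : IsCartan M' A'}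
  {β : J → I → ℤ} {w : J → W} {i : J → I} {g : J → Y}

/-- `δ` fixes the data -/
structure Av (R : RGD cs h p T n X) (Φ : S2 F →* Y) (δ : Y ≃* Y) : Prop where
  sqT : ∀ t ∈ T, ∃ s ∈ T, δ t = t * (s * s)
  mapX : ∀ a, ∀ u ∈ X a, δ u ∈ X a
  mapn : ∀ i, ∃ k, Rp cs R.nsys (cs.simple i) k ∧ δ k = k
  pt : ∀ i, (∀ a ∈ X (sr i), ∀ b ∈ X (sr i), a * b = b * a) ∧ ∃ x ∈ X (sr i), x ≠ 1 ∧ δ x = x
  sl2 : ∃ d : S2 F ≃* S2 F, (∀ s, δ (Φ s) = Φ (d s)) ∧ ∀ ψ, OI (S2 F) ψ → ∀ s, ψ (d s) = ψ s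

namespace Av

variable {δ : Y ≃* Y} (a : Av R Φ δ)

include a

theorem mapT {t : Y} (ht : t ∈ T) : δ t ∈ T := by
  obtain ⟨s, hs, e⟩ := a.sqT t ht
  exact e ▸ mul_mem ht (mul_mem hs hs)

theorem val {lam : ↥T →* ℂˣ} (hl : ∀ t, lam t ^ 2 = 1) {t : Y} (ht : t ∈ T) : lam ⟨δ t, a.mapT ht⟩ = lam ⟨t, ht⟩ := by
  obtain ⟨s, hs, e⟩ := a.sqT t ht
  rw [show (⟨δ t, a.mapT ht⟩ : T) = ⟨t, ht⟩ * (⟨s, hs⟩ * ⟨s, hs⟩) from Subtype.ext e, map_mul, map_mul, ← pow_two, hl,
    mul_one]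

theorem mapSup (S : Set (I → ℤ)) (u : Y) (hu : u ∈ RGD.Sup X S) : δ u ∈ RGD.Sup X S := by
  have h1 : RGD.Sup X S ≤ (RGD.Sup X S).comap δ.toMonoidHom :=
    RGD.Sup_le fun b hb x hx => RGD.le_Sup hb (a.mapX b x hx)
  exact h1 hu

theorem mapU (u : Y) (hu : u ∈ UU cs h X) : δ u ∈ UU cs h X := a.mapSup _ u hu

theorem mapN (v : W) : ∀ {k : Y}, Rp cs R.nsys v k → k⁻¹ * δ k ∈ T := by
  induction v using cs.simple_induction_right with
  | one => exact fun hk => mul_mem (inv_mem hk.mem_of_one) (a.mapT hk.mem_of_one)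
  | mul_simple_right v i ih =>
    intro k hk
    obtain ⟨k₀, hni, e₀⟩ := a.mapn i
    have hk' : Rp cs R.nsys v (k * k₀⁻¹) := by
      have := hk.mul hni.inv
      rwa [mul_inv_cancel_right] at this
    have h1 := conj_T' R hni (ih hk')
    rwa [map_mul, map_inv, e₀, show k₀⁻¹ * ((k * k₀⁻¹)⁻¹ * (δ k * k₀⁻¹)) * k₀ = k⁻¹ * δ k by group] at h1

theorem mapC {k : Y} (hk : k ∈ CS Φ) : δ k ∈ CS Φ := by
  obtain ⟨d, hd, -⟩ := a.sl2
  refine mem_CS.2 fun s => ?_
  rw [← d.apply_symm_apply s, ← hd, ← map_mul, mem_CS.1 hk, map_mul]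

theorem tw_eV : AH.tw σ₁ δ (eV cs h X l) = eV cs h X l := tw_av σ₁ δ _ (a.mapSup _) fun _ _ => by simp

theorem psi : ∃ psi : ↥(UU cs h X) →* ℂˣ, Nondeg psi ∧
    ∀ u (hu : u ∈ UU cs h X), ((psi ⟨δ u, a.mapU u hu⟩ : ℂˣ) : ℂ) = σ₁ (psi ⟨u, hu⟩ : ℂˣ) := by
  classical
  choose π hπ1 hπ2 using exists_projX R
  have h1 : ∀ i : I, ∃ f : ↥(X (sr i)) →* ℂˣ, f ≠ 1 ∧ ∀ x hx, f ⟨δ x, a.mapX _ x hx⟩ = f ⟨x, hx⟩ := fun i => by
    obtain ⟨hc, x, hx, hx1, e⟩ := a.pt i
    obtain ⟨f, h2, h3⟩ := exists_inv (A := X (sr i)) (fun u v => Subtype.ext (hc _ u.2 _ v.2))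
      ((δ.toMonoidHom.comp (X (sr i)).subtype).codRestrict _ fun u => a.mapX _ u u.2) (x := ⟨x, hx⟩)
      (fun h2 => hx1 (congrArg Subtype.val h2)) (Subtype.ext e)
    exact ⟨f, h2, fun x hx => h3 ⟨x, hx⟩⟩
  choose F hF hF' using h1
  refine ⟨∏ j, (F j).comp (π j), fun i => ?_, fun u hu => congrArg Units.val ?_⟩
  · by_contra hcon
    push Not at hcon
    refine hF i (MonoidHom.ext fun x => ?_)
    have h2 := hcon x x.2
    rw [MonoidHom.finsetProd_apply, Finset.prod_eq_single i, MonoidHom.comp_apply, hπ1 i x x.2] at h2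
    · exact h2
    · intro j _ hj
      rw [MonoidHom.comp_apply, hπ2 j x (RGD.le_Sup (S := RGD.PosNe cs h j)
        ⟨isRoot_sr cs h i, sr_nonneg i, fun he => by
          have h3 := congrFun he i
          rw [sr_self, sr_ne (Ne.symm hj)] at h3
          exact one_ne_zero h3⟩ x.2), map_one]
    · intro hi
      exact absurd (Finset.mem_univ i) hi
  · rw [MonoidHom.finsetProd_apply, MonoidHom.finsetProd_apply]
    refine Finset.prod_congr rfl fun j _ => ?_
    obtain ⟨v, hv, k, hk, rfl⟩ := exists_vx R j hu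
    have hk' := a.mapX _ k hk
    have hv' := a.mapSup _ v hv
    have e1 : (⟨v * k, hu⟩ : ↥(UU cs h X)) = ⟨v, V_le_U j hv⟩ * ⟨k, X_le_U j hk⟩ := rfl
    have e2 : (⟨δ (v * k), a.mapU _ hu⟩ : ↥(UU cs h X)) = ⟨δ v, V_le_U j hv'⟩ * ⟨δ k, X_le_U j hk'⟩ :=
      Subtype.ext (map_mul δ v k)
    rw [MonoidHom.comp_apply, MonoidHom.comp_apply, e1, e2, map_mul (π j), map_mul (π j), hπ2 j v hv, hπ2 j _ hv',
      hπ1 j k hk, hπ1 j _ hk', one_mul, one_mul, hF' j k hk]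

end Av

variable (G : C3.Gd R hT l Φ cs' h' β w i g) (hM : AH.Main) {gg : I → Y} (K : Cor R hT 0 gg)
  (hgen : T ≤ Subgroup.closure (Set.range gg)) {δ : Y ≃* Y} (a : Av R Φ δ) {χ : Y → ℂ} (hχ : IsIrrCharacter Y χ)

include G hM K hgen a hχ

/-- **the second series** -/
theorem fix2 (h4 : Fintype.card F % 4 = 3) {psi : ↥(UU cs h X) →* ℂˣ} (hpsi : Nondeg psi)
    (hδ : ∀ u (hu : u ∈ UU cs h X), ((psi ⟨δ u, a.mapU u hu⟩ : ℂˣ) : ℂ) = σ₁ (psi ⟨u, hu⟩ : ℂˣ))
    {f : Al (S2 F)} (C : Cusp f ((psiL l psi).comp G.nd.xl)) (hf : AH.tw σ₁ δ (mp Φ f) = mp Φ f)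
    (hodd : ∃ d : ℕ, Odd d ∧ lin χ (eV cs h X l * mp Φ f) = d) (z : Y) : χ (δ z) = χ z := by
  obtain ⟨v, hv, hv'⟩ := G.sb.neg
  obtain ⟨y, hy⟩ := G.exists_y hv
  have h1 : (G.dat C).π (y * y) = 1 := G.ph_injective (by
    show G.ph (y.1.1 * y.1.1) = _
    rw [map_mul, eq_mul_inv_of_mul_eq hy, cs.inv_simple, mul_assoc, ← mul_assoc (cs.simple l), ← neg_comm hv,
      cs.simple_mul_simple_cancel_right, neg_sq hv, map_one])
  obtain ⟨ν, -, h2, h3⟩ := exists_fix_odd (G.dat C) (Characters.Core.isIrr_isCharacter hχ) h1 (fun _ => True)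
    (fun _ _ => trivial) (z := 1) (fun _ _ => mul_one _) (fun _ h => absurd trivial h)
    (by rwa [mul_one, C3.Gd.dat_t, C3.Gd.tt_one])
  obtain ⟨lam, rfl, h5⟩ := G.exists_ext C h4 ν
  have h6 : v ∈ Wst R lam := hy ▸ mul_mem (G.ph_mem C h2) (G.nd.wel_mem h5)
  have hl : ∀ t, lam t ^ 2 = 1 := K.pow_of_gen hgen fun j => K.sq_of_neg (fun _ => pow_zero _) h6 (hv' _)
  have hE : (G.dat C).E (G.res C lam) ≠ 0 := fun h0 => by
    obtain ⟨m, hm, e⟩ := h3
    rw [h0, map_zero] at e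
    exact hm.pos.ne (by exact_mod_cast e)
  have hsq := fun u => G.sq_mem C (K.mono (dvd_zero 2)) hl hE (v := u)
  have ht : ∀ b : G.Np, ∃ c : (G.dat C).π.ker, AH.tw σ₁ δ (G.tt f b) = G.tt f (b * c) :=
    fun b => ⟨⟨G.kt (a.mapN _ b.2.1) (mul_mem (inv_mem b.2.2) (a.mapC b.2.2)), rfl⟩, by
      rw [C3.Gd.tt, map_mul, map_mul, map_mul, a.tw_eV, hf, AH.tw_dl]
      exact congrArg (fun x => eV cs h X l * dl x * eV cs h X l * mp Φ f) (mul_inv_cancel_left b.1.2 (δ b.1.2)).symm⟩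
  have hS : AH.tw σ₁ δ ((G.dat C).E (G.res C lam)) = (G.dat C).E (G.res C lam) := by
    have := Fintype.ofFinite (G.dat C).π.ker
    rw [AH.Dat.E_def, AH.tw_smul, map_inv₀, map_natCast, map_sum]
    let e : (G.dat C).π.ker → (G.dat C).π.ker := fun b => ⟨G.kt (a.mapT (G.mem_T b.2)) (a.mapC b.1.2.2), rfl⟩
    have he : Function.Injective e := fun b c hbc => Subtype.ext (Subtype.ext (Prod.ext (b.2.trans c.2.symm)
      (δ.injective (congrArg (fun x : (G.dat C).π.ker => x.1.1.2) hbc))))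
    refine congrArg _ (Fintype.sum_bijective e (Finite.injective_iff_bijective.1 he) _ _ fun b => ?_)
    rw [AH.tw_smul, C3.Gd.res_apply, C3.Gd.res_apply, RingEquiv.refl_apply, C3.Gd.dat_t, C3.Gd.tt, map_mul, map_mul, map_mul,
      a.tw_eV, hf, AH.tw_dl, ← a.val hl (G.mem_T b.2)]
    rfl
  refine hM J W' M' cs' _ Y (G.dat C) (G.res C lam) σ₁ δ ⟨St.five cs' h', AH.tw_smul σ₁ δ, fun b _ => ?_,
    fun u hu => ⟨1, by rw [pow_one, pow_two]; exact hsq u hu⟩, fun f hf u => ?_, Or.inr ⟨_, G.whit_ne C _ hE hv hy, ?_,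
    fun b hb => ?_, ?_⟩⟩ χ hχ h3 z
  · obtain ⟨c, hc⟩ := ht b
    exact ⟨_, by rw [map_mul, hS, C3.Gd.dat_t, hc]; exact (G.dat C).t_ker_E _ b c.2⟩
  · rw [← map_mul]
    exact hf _ (hsq u u.2)
  · rw [← mul_assoc, ← mul_assoc, AH.Dat.E_mul_E]
  · obtain ⟨c, hc⟩ := G.whit_span C _ hpsi hv hy ((G.dat C).t b * dl y.1.2)
    exact ⟨c, by rw [← hc, ← mul_assoc, ← mul_assoc, AH.Dat.t_E, (G.dat C).mem_Nl.1 hb, mul_assoc _ ((G.dat C).t b)]⟩
  · obtain ⟨c, hc⟩ := G.whit_span C _ hpsi hv hy (dl (δ y.1.2))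
    exact ⟨c • 1, by rw [mul_smul_comm, mul_one, ← hc, map_mul, map_mul, hS, AH.tw_dl, tw_av σ₁ δ psi a.mapU hδ]⟩

/-- the principal series -/
theorem fix_ps {v : W} (hv : ∀ b, rep cs hT v b = -b) {lam : ↥T →* ℂˣ} (h1 : v ∈ Wst R lam)
    (hodd : ∃ m : ℕ, Odd m ∧ mB R lam χ = m) (z : Y) : χ (δ z) = χ z := by
  have hl : ∀ t, lam t ^ 2 = 1 := K.pow_of_gen hgen fun j => K.sq_of_neg (fun _ => pow_zero _) h1 (hv _)
  refine fix_of_mB R hM G.nd.top G.nd.comm (St.five cs h) (σ := σ₁) (lam := lam) ⟨a.mapU, fun t ht => a.mapT ht,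
    fun t ht => congrArg Units.val (a.val hl ht), fun u k hk _ => a.mapN u hk⟩ (fun u hu => ?_) (Or.inr a.psi) hχ hodd z
  rw [← pow_two]
  exact (K.mono (dvd_zero 2)).pow_mem_self two_pos hl hu

theorem fix1 (hodd : ∃ d : ℕ, Odd d ∧ lin χ (eU cs h X * av (P := (Φ.comp SL2.tor).range) 1) = d) (z : Y) :
    χ (δ z) = χ z := by
  obtain ⟨v, hv, hv'⟩ := G.sb.neg
  obtain ⟨y, hy⟩ := G.exists_y hv
  have hk : Rp cs R.nsys v (y.1.2 * Φ SL2.wel) := hy ▸ y.2.1.mul G.nd.wel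
  have hw : ∀ ν : (PS.dat R G.nd.top G.nd.comm).Wt, ∃ lam, ν = wt R G.nd.top G.nd.comm lam := fun ν =>
    ⟨ν.comp (kerT R G.nd.top G.nd.comm).symm.toMonoidHom, MonoidHom.ext fun t => by simp only [wt, _root_.MulEquiv.toMonoidHom_eq_coe, _root_.MonoidHom.coe_comp, _root_.MonoidHom.coe_coe, _root_.Function.comp_apply, _root_.MulEquiv.symm_apply_apply]⟩
  obtain ⟨ν, -, h2, h3⟩ := exists_fix_odd (PS.dat R G.nd.top G.nd.comm) (Characters.Core.isIrr_isCharacter hχ)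
    (a := ⟨_, mem_NN.2 ⟨v, hk⟩⟩) (by rw [map_mul, PS.dat_pi, piN_eq R (g := ⟨_, mem_NN.2 ⟨v, hk⟩⟩) hk, neg_sq hv])
    (fun ν => ∀ u, ν ((kerT R G.nd.top G.nd.comm).symm ⟨_, G.nd.tor u⟩) = 1) (fun ν hν u => by
      rw [AH.Dat.act_apply, ← hν u⁻¹]
      refine congrArg ν (Subtype.ext (Subtype.ext ?_))
      show (y.1.2 * Φ SL2.wel)⁻¹ * Φ (SL2.tor u) * (y.1.2 * Φ SL2.wel) = Φ (SL2.tor u⁻¹)
      have h1 := congrArg Φ (SL2.wel_mul_tor u⁻¹)
      rw [inv_inv, map_mul, map_mul] at h1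
      rw [mul_assoc, ← mul_assoc (Φ _), mem_CS.1 y.2.2, mul_assoc, ← h1]
      group)
    (z := av (P := (Φ.comp SL2.tor).range) 1) (fun ν hν => by
      obtain ⟨lam, rfl⟩ := hw ν
      rw [E_wt]
      refine mul_av_eq _ ?_
      rintro ⟨_, u, rfl⟩
      exact (eB_mul_t R lam (G.nd.tor u)).trans (congrArg (fun c : ℂˣ => (c : ℂ) • _) (hν u))) (fun ν hν => by
      obtain ⟨lam, rfl⟩ := hw ν
      obtain ⟨u, hu⟩ := not_forall.1 hν
      rw [E_wt]
      have h1 : (((lam ⟨_, G.nd.tor u⟩ : ℂˣ) : ℂ) - 1) •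
          (H684.OQ.eB R lam * av (P := (Φ.comp SL2.tor).range) 1) = 0 := by
        rw [sub_smul, one_smul, ← smul_mul_assoc, ← eB_mul_t R lam (G.nd.tor u), mul_assoc,
          C3.dl_mul_av_one (P := (Φ.comp SL2.tor).range) (u := Φ (SL2.tor u)) ⟨u, rfl⟩, sub_self]
      exact (smul_eq_zero.1 h1).resolve_left fun h2 => hu (Units.val_eq_one.1 (sub_eq_zero.1 h2)))
    (by rw [PS.dat_t, Subgroup.coe_one, ta_one]; exact hodd)
  obtain ⟨lam, rfl⟩ := hw ν
  rw [E_wt, lin_eB] at h3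
  exact fix_ps G hM K hgen a hχ hv' ⟨_, hk, (mem_Nl R G.nd.top G.nd.comm).1 h2⟩ h3 z

end gen

variable {m : ℕ} {W Y : Type} [Group W] [Finite W] [Group Y] [Finite Y]
  {cs : CoxeterSystem (CoxeterMatrix.B (m + 1)) W} {p : ℕ} {T : Subgroup Y}
  {n : Fin (m + 1) → Y} {X : (Fin (m + 1) → ℤ) → Subgroup Y} {F : Type} [Field F] [Fintype F]
  {R : RGD cs (Nodes.TypeC.isCartan (m + 1)) p T n X} {Φ : S2 F →* Y} {gg : Fin (m + 1) → Y}

/-- **the characters of odd degree are fixed** -/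
theorem fix_av (S : Sp R Φ gg) (hP : Par cs X) (h4 : Fintype.card F % 4 = 3) {δ : Y ≃* Y} (a : Av R Φ δ) {χ : Y → ℂ}
    (hχ : IsIrrCharacter Y χ) (hodd : Odd (charDegree χ)) (z : Y) : χ (δ z) = χ z := by
  have hM := AH.main Hk.ho
  have := PW.finB m
  have G := S.gd
  have hc := Core.isIrr_isCharacter hχ
  obtain ⟨h1, h2⟩ := hP χ hc
  rw [Blocks.Basic.irr_one_eq_charDegree hχ] at h1 h2
  rcases Nat.even_or_odd (m + 1) with h3 | h3
  · have := Fintype.ofFinite ↥(UU cs (Nodes.TypeC.isCartan (m + 1)) X)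
    obtain ⟨lam, h5, h6⟩ := exists_lam_of_sum R S.nd.top S.nd.comm hχ hodd (h1 h3)
      (by rw [finsum_eq_sum_of_fintype]; ring)
    obtain ⟨v, hv, hv'⟩ := G.sb.neg
    exact fix_ps G hM S.cor S.gen a hχ hv' (mem_of_center h6 (neg_comm hv) (_root_.Cfsg.Agent.ODD.PS.C3.neg_sq hv)) h5 z
  · have := Fintype.ofFinite ↥(VV cs (Nodes.TypeC.isCartan (m + 1)) X (Fin.last m))
    obtain ⟨d, hd⟩ := lin_idem hc (eV_mul_eV (cs := cs) (h := Nodes.TypeC.isCartan (m + 1)) (X := X) (l := Fin.last m))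
    have h5 : Odd (Nat.card ↥(VV cs (Nodes.TypeC.isCartan (m + 1)) X (Fin.last m)) * d) := by
      refine odd_of_ev hodd (h2 h3) ?_
      rw [Nat.cast_mul, ← hd, ← one_mul (eV _ _ _ _), ← mul_one (1 * _), eV, lin_av, smul_eq_mul,
        mul_inv_cancel_left₀ (card_ne _), finsum_eq_sum_of_fintype]
      exact Finset.sum_congr rfl fun u _ => by simp [lin_dl]
    rcases ODD.C3.qs _ W Y _ cs _ _ p T n X R F _ Φ S.nd h4 χ hc ⟨d, (Nat.odd_mul.1 h5).2, hd⟩ with h6 |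
      ⟨ψ, hψ, h6, h7⟩
    · exact fix1 G hM S.cor S.gen a hχ h6 z
    · obtain ⟨psi, hpsi, h8⟩ := a.psi
      obtain ⟨d₀, h9, h10⟩ := a.sl2
      have key : ∀ psi : ↥(UU cs (Nodes.TypeC.isCartan (m + 1)) X) →* ℂˣ, Nondeg psi →
          (∀ u hu, ((psi ⟨δ u, a.mapU u hu⟩ : ℂˣ) : ℂ) = σ₁ (psi ⟨u, hu⟩ : ℂˣ)) →
          ∀ φ, φ = (psiL (Fin.last m) psi).comp S.nd.xl → Cusp (fc ψ φ) φ →
          (∃ d : ℕ, Odd d ∧ lin χ (eV cs (Nodes.TypeC.isCartan (m + 1)) X (Fin.last m) * mp Φ (fc ψ φ)) = d) →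
          χ (δ z) = χ z := by
        rintro psi hpsi h8 _ rfl C h11
        refine fix2 G hM S.cor S.gen a hχ h4 hpsi h8 C ?_ h11 z
        rw [fc, map_mul, map_mul, ODD.C3.tw_mp σ₁ Φ h9, ODD.C3.Q.tw_cen σ₁ d₀ (h10 ψ ⟨hψ, h6⟩), S.nd.mp_eph,
          tw_av σ₁ δ _ (a.mapX _) fun u hu => (by exact h8 u (X_le_U _ hu))]
      obtain ⟨φ, h11, C, h12⟩ := h7 ((psiL (Fin.last m) psi).comp S.nd.xl) fun e => by
        obtain ⟨x, hx, hne⟩ := hpsi (Fin.last m)
        obtain ⟨r, hr⟩ := S.nd.xl_bij.2 ⟨x, hx⟩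
        have h11 := DFunLike.congr_fun e r
        rw [MonoidHom.comp_apply, hr] at h11
        exact hne h11
      rcases h11 with h11 | h11
      · exact key psi hpsi h8 φ h11 C h12
      · refine key psi⁻¹ (fun j => ?_) (fun u hu => ?_) φ h11 C h12
        · obtain ⟨x, hx, hne⟩ := hpsi j
          exact ⟨x, hx, fun e => hne (inv_eq_one.1 e)⟩
        · rw [MonoidHom.inv_apply, MonoidHom.inv_apply, Units.val_inv_eq_inv_val, Units.val_inv_eq_inv_val, h8,
            map_inv₀]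

end Cfsg.Agent.MK.P
end

-- part: MK/P/GA
section
set_option linter.all false
open scoped Cfsg.Agent.FastGrp

/-!
# MK-P: the deformation theorem for a Hecke datum (helper36)

`count_dat` : the number of irreducible characters with odd multiplicity at the idempotent `t 1` is `k0 N'`.
-/

set_option autoImplicit false
set_option linter.unusedSectionVars false

namespace Cfsg.Agent.MK.P

open Cfsg Subgroup Cfsg.Agent.MK.T Cfsg.Agent.H684.OQ Cfsg.Agent.ODD Cfsg.Agent.MK.Y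
open scoped ComplexConjugate

variable {Y : Type} [Group Y]

/-- the multiplicity at `e` is odd -/
def Om (e : Al Y) (χ : Y → ℂ) : Prop := IsIrrCharacter Y χ ∧ ∃ d : ℕ, Odd d ∧ lin χ e = d

variable {I W N N' : Type} [Group W] {M : CoxeterMatrix I} {cs : CoxeterSystem M W} [Group N] [Group N']
  [Fintype Y] (D : AH.Dat cs N (Al Y)) (φ : N →* N') (hφ : Function.Surjective φ)
  (hk : ∀ z, φ z = 1 → D.π z = 1 ∧ D.t z = D.t 1) (htr : ∀ a, D.π a = 1 → φ a ≠ 1 → (D.t a).coeff 1 = 0)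
  (hst : ∀ a, sr (D.t a) = D.t a⁻¹) (hne : D.t 1 ≠ 0)

include hk htr hst hne

theorem ya_dat : YA (fun x => cs.length (D.π (Function.surjInv hφ x))) fun x => D.t (Function.surjInv hφ x) := by
  have h0 : ∀ a, φ (a⁻¹ * Function.surjInv hφ (φ a)) = 1 := fun a => by
    rw [map_mul, map_inv, Function.surjInv_eq hφ, inv_mul_cancel]
  have h1 : ∀ a, D.π (Function.surjInv hφ (φ a)) = D.π a := fun a => by
    have := (hk _ (h0 a)).1
    rwa [map_mul, map_inv, inv_mul_eq_one, eq_comm] at this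
  have h2 : ∀ a, D.t (Function.surjInv hφ (φ a)) = D.t a := fun a => by
    rw [← mul_inv_cancel_left a (Function.surjInv hφ (φ a)), D.t_right _ _ (hk _ (h0 a)).1, (hk _ (h0 a)).2,
      D.t_mul_one]
  have h3 : D.t (Function.surjInv hφ 1) = D.t 1 := by rw [← map_one φ, h2]
  have h4 : ∀ {s : N} {i : I}, D.π s = cs.simple i → D.π (s * (D.n i)⁻¹) = 1 := fun {s i} h => by
    rw [map_mul, map_inv, h, D.π_n, mul_inv_cancel]
  refine ⟨?_, fun x => ?_, fun x y => ?_, fun x y => ?_, fun x => ?_, fun x y => ?_, fun x => ?_, fun x g => ?_,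
    fun x => ?_, fun x hx => ?_, by rwa [h3]⟩
  · rw [← map_one φ, h1, map_one, cs.length_one]
  · obtain ⟨a, rfl⟩ := hφ x
    rw [← map_inv, h1, h1, map_inv, cs.length_inv]
  · obtain ⟨a, rfl⟩ := hφ x
    obtain ⟨b, rfl⟩ := hφ y
    rw [← map_mul, h1, h1, h1, h2, h2, h2, cs.length_eq_zero_iff]
    intro h
    exact ⟨by rw [map_mul, h, one_mul], D.t_left a b h⟩
  · obtain ⟨a, rfl⟩ := hφ x
    obtain ⟨b, rfl⟩ := hφ y
    rw [← map_mul, h1, h1, h1, cs.length_eq_one_iff]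
    rintro ⟨i, h⟩
    rw [map_mul, h]
    exact cs.length_simple_mul _ i
  · obtain ⟨a, rfl⟩ := hφ x
    rw [h1]
    intro h
    obtain ⟨i, hi⟩ := cs.exists_leftDescent_of_ne_one (w := D.π a) fun e => h (by rw [e, cs.length_one])
    refine ⟨φ (D.n i), by rw [h1, D.π_n, cs.length_simple], ?_⟩
    rw [← map_mul, h1, map_mul, D.π_n]
    exact cs.isLeftDescent_iff.1 hi
  · obtain ⟨a, rfl⟩ := hφ x
    obtain ⟨b, rfl⟩ := hφ y
    rw [← map_mul, h1, h1, h1, h2, h2, h2, cs.length_eq_one_iff]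
    rintro ⟨i, h⟩ hl
    rw [map_mul, h] at hl
    rw [← inv_mul_cancel_right a (D.n i), D.t_left _ _ (h4 h), mul_assoc, D.add i b (by omega), ← D.t_left _ _ (h4 h),
      ← mul_assoc]
  · obtain ⟨a, rfl⟩ := hφ x
    rw [← map_inv, h1, h2, h2, h3, cs.length_eq_one_iff]
    rintro ⟨i, h⟩
    obtain ⟨k, hk0, hq⟩ := D.quad i
    refine ⟨k, hk0, ?_⟩
    have h5 : D.π (a * (D.n i)⁻¹)⁻¹ = 1 := by rw [map_inv, h4 h, inv_one]
    have h6 : D.t a * D.t a⁻¹ - k • D.t 1 =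
        D.t (a * (D.n i)⁻¹) * (D.t (D.n i) * D.t (D.n i)⁻¹ - k • D.t 1) * D.t (a * (D.n i)⁻¹)⁻¹ := by
      rw [mul_sub, sub_mul, mul_smul_comm, smul_mul_assoc, D.t_mul_one, ← D.t_left _ _ (h4 h), mul_inv_cancel,
        ← mul_assoc, ← D.t_left _ _ (h4 h), mul_assoc (D.t _), ← D.t_right _ _ h5]
      congr 3 <;> group
    rw [h6]
    refine Submodule.span_induction (p := fun x _ => D.t (a * (D.n i)⁻¹) * x * D.t (a * (D.n i)⁻¹)⁻¹ ∈ _) ?_ ?_ ?_ ?_ hq
    · rintro _ ⟨b, hb, rfl⟩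
      rw [← D.t_left _ _ (h4 h), ← D.t_right _ _ h5]
      refine Submodule.subset_span ⟨φ _, ⟨φ (a * (D.n i)⁻¹ * b * (a * (D.n i)⁻¹)⁻¹ * a), ?_, ?_⟩, h2 _⟩
      · rw [h1, map_mul, map_mul, map_mul, h5, h4 h, show D.π b = _ from hb, h, one_mul, mul_one,
          cs.simple_mul_simple_self, cs.length_one]
      · rw [← map_mul, mul_inv_cancel_right]
    · rw [mul_zero, zero_mul]
      exact zero_mem _
    · intro x y _ _ hx hy
      rw [mul_add, add_mul]
      exact add_mem hx hy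
    · intro c x _ hx
      rw [mul_smul_comm, smul_mul_assoc]
      exact Submodule.smul_mem _ _ hx
  · obtain ⟨a, rfl⟩ := hφ x
    rw [← map_inv, h2, h2, ← hst, coeff_sr]
  · rw [h3]
    refine Submodule.span_mono ?_ (D.span x)
    rintro _ ⟨a, rfl⟩
    exact ⟨φ a, h2 a⟩
  · obtain ⟨a, rfl⟩ := hφ x
    rw [h2]
    by_cases h : D.π a = 1
    · exact htr a h hx
    · have h5 := D.tr0 a h
      rw [AH.trace_mulLeft] at h5
      exact (mul_eq_zero.1 h5).resolve_left (Nat.cast_ne_zero.2 Nat.card_pos.ne')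

include hφ

/-- **the count** -/
theorem count_dat [Finite N] : Nat.card {χ // Om (D.t 1) χ} = k0 N' := by
  have : Finite N' := Finite.of_surjective φ hφ
  have h3 : D.t (Function.surjInv hφ 1) = D.t 1 := (hk _ (Function.surjInv_eq hφ 1)).2
  have key := coreI Y N' _ _ (ya_dat D φ hφ hk htr hst hne)
  simp only [h3] at key
  have : Finite {χ // Om (D.t 1) χ} := H.finite_sub fun _ h => h.1
  have : Finite {χ // OI N' χ} := finite_oi'
  refine H.card_eq_of_fib (fun χ => χ.2.2.choose) (fun ψ => charDegree ψ.1) fun d => ?_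
  by_cases hd : Odd d
  · refine Eq.trans (Nat.card_congr ?_) ((key d hd.pos.ne').trans (Nat.card_congr ?_))
    · refine (Equiv.subtypeSubtypeEquivSubtypeExists _ _).trans (Equiv.subtypeEquivRight fun χ => ?_)
      rw [← ODD.C3.Q.lin_eq]
      refine ⟨fun ⟨h, e⟩ => ⟨h.1, e ▸ h.2.choose_spec.2⟩, fun h => ⟨⟨h.1, d, hd, h.2⟩, ?_⟩⟩
      generalize_proofs h'
      exact Nat.cast_injective (R := ℂ) (h'.2.choose_spec.2.symm.trans h.2)
    · refine Equiv.symm ((Equiv.subtypeSubtypeEquivSubtypeExists _ _).trans (Equiv.subtypeEquivRight fun χ => ?_))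
      exact ⟨fun ⟨h, e⟩ => ⟨h.1, e⟩, fun h => ⟨⟨h.1, h.2 ▸ hd⟩, h.2⟩⟩
  · have : IsEmpty {χ : {χ // Om (D.t 1) χ} // χ.2.2.choose = d} := ⟨fun χ => hd (χ.2 ▸ χ.1.2.2.choose_spec.1)⟩
    have : IsEmpty {ψ : {χ // OI N' χ} // charDegree ψ.1 = d} := ⟨fun ψ => hd (ψ.2 ▸ ψ.1.2.2)⟩
    rw [Nat.card_of_isEmpty, Nat.card_of_isEmpty]

end Cfsg.Agent.MK.P
end

-- part: MK/P/GB1
section
prune_inst 0x2a044b6200000018001020003e52ea000002004c000058800c00058a9c682405002038b0191a18da2854003c0048114400a002280000000008000b180080080000008048a108a00010002000000000000000000000000000000000041004000000000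
set_option linter.all false
open scoped Cfsg.Agent.FastGrp

/-!
# MK-P: the two series (helper36)

* `count1` : the principal series, `k0 N`; `count2` : the series of a cuspidal idempotent of the node `l`;
* `dis` : the series are disjoint.
-/

set_option autoImplicit false
set_option linter.unusedSectionVars false

namespace Cfsg.Agent.MK.P

open Cfsg Subgroup Cfsg.Agent.MK.T Cfsg.Agent.H684.OQ Cfsg.Agent.ODD Cfsg.Agent.ODD.PS
  Cfsg.Agent.ODD.PS.C3 Cfsg.Agent.H670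
open CoxeterSystem Cfsg.Agent.ChevalleyStructure.CoxeterGeom Cfsg.Agent.Tits.Roots Cfsg.Agent.Tits.Core
  Cfsg.Agent.Nodes.Reps Cfsg.Agent.Nodes.BNOf Cfsg.Agent.Nodes.Bruhat Cfsg.Agent.Nodes.StabComb
  Cfsg.Agent.Nodes.LeviDec
open Cfsg.Agent.MK.Y (sr_mul sr_single coeff_sr al_ext Sc Sc_mem mul_idem omega_Sc)
open scoped ComplexConjugate

local notation "ad" => Cfsg.Agent.MK.Y.sr

theorem mem_zp2 {G : Type} [Group G] {z a : G} (h : z * z = 1) : a ∈ zpowers z ↔ a = 1 ∨ a = z := by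
  refine ⟨fun ⟨k, hk⟩ => ?_, ?_⟩
  · rw [← hk]
    rcases Int.even_or_odd' k with ⟨j, rfl | rfl⟩
    · left
      simp only [zpow_mul, zpow_two, h, one_zpow]
    · right
      simp only [zpow_add, zpow_mul, zpow_two, h, one_zpow, one_mul, zpow_one]
  · rintro (rfl | rfl)
    exacts [one_mem _, mem_zpowers _]

theorem k0_quot {G H : Type} [Group G] [Group H] [Finite G] (φ : G →* H) (hφ : Function.Surjective φ) :
    k0 H = kk ⊤ φ.ker 1 := by
  rw [← k0_congr (topEquiv (G := H)), ← kk_bot ⊤ (l := 1) rfl, ← kk_comap φ hφ, comap_top]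
  rfl

/-! ### the group algebra -/

section alg

variable {Y : Type} [Group Y] [Fintype Y]

theorem sr_add (a b : Al Y) : ad (a + b) = ad a + ad b := al_ext fun g => by simp only [coeff_sr, _root_.MonoidAlgebra.coeff_add, _root_.Finsupp.coe_add, _root_.Pi.add_apply, _root_.map_add]

theorem sr_smul' (c : ℂ) (a : Al Y) : ad (c • a) = conj c • ad a := al_ext fun g => by simp only [coeff_sr, _root_.MonoidAlgebra.coeff_smul, _root_.Finsupp.coe_smul, _root_.Pi.smul_apply, _root_.smul_eq_mul, _root_.map_mul]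

theorem sr_sum {κ : Type} (s : Finset κ) (f : κ → Al Y) : ad (∑ k ∈ s, f k) = ∑ k ∈ s, ad (f k) := by
  classical
  induction s using Finset.induction_on with
  | empty => exact al_ext fun g => by simp only [coeff_sr, _root_.Finset.sum_empty, _root_.MonoidAlgebra.coeff_zero, _root_.Finsupp.coe_zero, _root_.Pi.zero_apply, _root_.map_zero]
  | insert a s ha ih => rw [Finset.sum_insert ha, Finset.sum_insert ha, sr_add, ih]

theorem sr_dl (g : Y) : ad (dl g) = dl g⁻¹ := sr_single g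

theorem sr_av {P : Subgroup Y} (ψ : P →* ℂˣ) : ad (av ψ) = av ψ := by
  have := Fintype.ofFinite P
  rw [av_def, sr_smul', sr_sum, map_inv₀, map_natCast]
  congr 1
  refine Fintype.sum_equiv (Equiv.inv P) _ _ fun u => ?_
  rw [sr_smul', sr_dl, Equiv.inv_apply, map_inv ψ, inv_inv, Units.val_inv_eq_inv_val, map_inv₀,
    ← Complex.inv_eq_conj (Complex.norm_eq_one_of_pow_eq_one (Red.hom_pow_card ψ u) Nat.card_pos.ne'), inv_inv]
  rfl

theorem sr_mp_cen {G : Type} [Group G] [Finite G] (Φ : G →* Y) {ψ : G → ℂ} (hψ : IsCharacter G ψ) :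
    ad (mp Φ (cen ψ)) = mp Φ (cen ψ) := by
  have := Fintype.ofFinite G
  rw [ODD.C3.Q.cen_def, map_smul, map_sum, sr_smul', sr_sum, Red.apply_one hψ, map_mul, map_inv₀, map_natCast,
    map_natCast]
  congr 1
  refine Fintype.sum_equiv (Equiv.inv G) _ _ fun g => ?_
  rw [map_smul, map_smul, mp_dl, mp_dl, sr_smul', sr_dl, Equiv.inv_apply, inv_inv, map_inv,
    Characters.Core.isCharacter_apply_inv hψ, Complex.conj_conj]

theorem coeff_mul_dl (a : Al Y) (g y : Y) : (a * dl g).coeff y = a.coeff (y * g⁻¹) :=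
  (MonoidAlgebra.coeff_mul_single_apply a 1 g y).trans (mul_one _)

theorem coeff_dl_mul (a : Al Y) (g y : Y) : (dl g * a).coeff y = a.coeff (g⁻¹ * y) :=
  (MonoidAlgebra.coeff_single_mul_apply a 1 g y).trans (one_mul _)

theorem coeff_av_off {P : Subgroup Y} (ψ : P →* ℂˣ) {y : Y} (hy : y ∉ P) : (av ψ).coeff y = 0 := by
  have h := coeff_su (av_mem_su le_rfl ψ) (one_mem _) (z := y⁻¹) fun h => hy (inv_mem_iff.1 h)
  rwa [mul_one, coeff_mul_dl, one_mul, inv_inv] at h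

/-- orthogonal idempotents -/
theorem lin_mul_eq_zero {χ : Y → ℂ} (hχ : IsIrrCharacter Y χ) {a b : Al Y} (h : ∀ z, a * dl z * b = 0) :
    lin χ a * lin χ b = 0 := by
  classical
  have h1 : a * Sc b = 0 := by
    rw [Sc, Finset.mul_sum]
    refine Finset.sum_eq_zero fun g _ => ?_
    rw [← mul_assoc, ← mul_assoc]
    exact mul_eq_zero_of_left (h g) _
  have h2 := H992.HT.lin_idem_mul {(⟨χ, hχ⟩ : IrrCharacter Y)} ⟨χ, hχ⟩ (a * Sc b)
  rw [if_pos (Set.mem_singleton _), H992.HT.idem_comm, mul_assoc, mul_idem (Sc_mem b), mul_smul_comm, map_smul,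
    ← H992.HT.idem_comm, H992.HT.lin_idem_mul, if_pos (Set.mem_singleton _), h1, map_zero, omega_Sc, smul_eq_mul,
    ← ODD.C3.Q.lin_eq, ← ODD.C3.Q.lin_eq] at h2
  have h3 : (Nat.card Y : ℂ) ≠ 0 := Nat.cast_ne_zero.2 Nat.card_pos.ne'
  have h4 : χ 1 ≠ 0 := Characters.Core.isIrr_apply_one_ne_zero hχ
  field_simp at h2
  simpa only [mul_comm, _root_.mul_eq_zero, _root_.Nat.card_eq_fintype_card, _root_.MulZeroClass.mul_zero, _root_.Nat.cast_eq_zero, _root_.Fintype.card_ne_zero, _root_.false_or] using h2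

end alg

variable {I W Y : Type} [Fintype I] [DecidableEq I] [Group W] [Finite W] [Group Y] [Fintype Y]
  {M : CoxeterMatrix I} {cs : CoxeterSystem M W} {A : I → I → ℤ} {h : IsCartan M A} {p : ℕ} {T : Subgroup Y}
  {n : I → Y} {X : (I → ℤ) → Subgroup Y} {R : RGD cs h p T n X} {F : Type} [Field F] [Fintype F] {l : I}
  {Φ : S2 F →* Y} {AT : I → I → ℤ} {hT : IsCartan M AT} {J W' : Type} [Fintype J] [DecidableEq J] [Group W']
  {M' : CoxeterMatrix J} {cs' : CoxeterSystem M' W'} {A' : J → J → ℤ} {h' : IsCartan M' A'} {β : J → I → ℤ}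
  {w : J → W} {i : J → I} {g : J → Y}

theorem T_le_LJ (l : I) : T ≤ LJ cs h T X {l} := le_sup_left

/-- **the principal series** -/
theorem count1 (N : Nd R l Φ) : Nat.card {χ // Om (eU cs h X) χ} = k0 (NN cs R.nsys) := by
  have key := count_dat (PS.dat R N.top N.comm) (MonoidHom.id _) Function.surjective_id
    (fun z hz => by rw [show z = 1 from hz]; exact ⟨map_one _, rfl⟩) (fun a ha h1 => ?_) (fun a => ?_) ?_
  · rwa [PS.dat_t, coe_one, ta_one] at key
  · have ht := (piN_eq_one R).1 ha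
    rw [PS.dat_t, ta_t R ht, coeff_dl_mul, mul_one]
    refine coeff_av_off _ fun hu => h1 (Subtype.ext ?_)
    obtain ⟨k, hk⟩ := RGD.isPGroup_Upos R ⟨_, inv_mem_iff.1 hu⟩
    have h2 := Nat.dvd_gcd (orderOf_dvd_natCard T ht) (orderOf_dvd_of_pow_eq_one (congrArg Subtype.val hk))
    rwa [(R.tcop.pow_right k).gcd_eq_one, Nat.dvd_one, orderOf_eq_one_iff] at h2
  · rw [PS.dat_t, PS.dat_t, ta, ta, sr_mul, sr_mul, sr_dl, eU, sr_av, mul_assoc]
    rfl
  · rw [PS.dat_t, coe_one, ta_one]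
    exact av_ne _

theorem coeff_eV (N : Nd R l Φ) (hΦ : Function.Injective Φ) (a : Al (S2 F)) (s : S2 F) :
    (eV cs h X l * mp Φ a).coeff (Φ s) = (Nat.card (VV cs h X l) : ℂ)⁻¹ * a.coeff s := by
  classical
  induction a using al_induction with
  | hd t =>
    rw [mp_dl, coeff_mul_dl, ← map_inv, ← map_mul]
    by_cases e : t = s
    · rw [e, mul_inv_cancel, map_one, eV, coeff_av_one]
      simp only [dl, _root_.Nat.card_eq_fintype_card, _root_.MonoidAlgebra.of_apply, _root_.MonoidAlgebra.coeff_single, _root_.Finsupp.single_eq_same, _root_.mul_one]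
    · rw [eV, coeff_av_off _ fun hv => e ?_]
      · simp only [dl, e, _root_.Nat.card_eq_fintype_card, _root_.MonoidAlgebra.of_apply, _root_.MonoidAlgebra.coeff_single, _root_.ne_eq, _root_.not_false_eq_true, _root_.Finsupp.single_eq_of_ne', _root_.MulZeroClass.mul_zero]
      · have := hΦ ((eq_one_of_mem_LJ_of_mem_VJ R (N.phi_mem _) (VV_eq (cs := cs) (h := h) (X := X) l ▸ hv)).trans
          (map_one Φ).symm)
        rw [mul_inv_eq_one] at this
        exact this.symm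
  | ha a b ha hb => simp only [map_add, mul_add, MonoidAlgebra.coeff_add, Finsupp.add_apply, ha, hb]
  | hs c a ha =>
    simp only [map_smul, mul_smul_comm, MonoidAlgebra.coeff_smul, Finsupp.smul_apply, ha, smul_eq_mul]
    ring

theorem coeff_eV_off (N : Nd R l Φ) (a : Al (S2 F)) {y : Y} (hy : y ∈ LJ cs h T X {l}) (h0 : ∀ s, Φ s ≠ y) :
    (eV cs h X l * mp Φ a).coeff y = 0 := by
  induction a using al_induction with
  | hd t =>
    rw [mp_dl, coeff_mul_dl, eV, coeff_av_off _ fun hv => h0 t ?_]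
    exact (mul_inv_eq_one.1 (eq_one_of_mem_LJ_of_mem_VJ R (mul_mem hy (inv_mem (N.phi_mem t)))
      (VV_eq (cs := cs) (h := h) (X := X) l ▸ hv))).symm
  | ha a b ha hb => simp only [map_add, mul_add, MonoidAlgebra.coeff_add, Finsupp.add_apply, ha, hb, add_zero]
  | hs c a ha => simp only [map_smul, mul_smul_comm, MonoidAlgebra.coeff_smul, Finsupp.smul_apply, ha, smul_zero]

theorem eV_mp_ne (N : Nd R l Φ) (hΦ : Function.Injective Φ) {a : Al (S2 F)} (ha : a ≠ 0) :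
    eV cs h X l * mp Φ a ≠ 0 := fun e => by
  have : Fintype (S2 F) := Fintype.ofFinite _
  refine ha (al_ext fun s => ?_)
  have h1 := coeff_eV N hΦ a s
  rw [e] at h1
  exact (mul_eq_zero.1 h1.symm).resolve_left (inv_ne_zero (card_ne _))

theorem center_S2 {s : S2 F} (hs : s ∈ center (S2 F)) : s = 1 ∨ s = ng F := by
  have h1 := mem_center_iff.1 hs (SL2.x 1)
  have h2 := mem_center_iff.1 hs SL2.wel
  have a1 := congrArg SL2.e00 h1
  have a2 := congrArg SL2.e01 h1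
  have a3 := congrArg SL2.e00 h2
  have a4 := SL2.det_eq s
  simp only [SL2.mul00, SL2.mul01, SL2.x00, SL2.x01, SL2.x10, SL2.x11, SL2.wel00, SL2.wel01, SL2.wel10] at a1 a2 a3
  have b1 : SL2.e10 s = 0 := by linear_combination a1
  have b2 : SL2.e11 s = SL2.e00 s := by linear_combination a2
  have b3 : SL2.e01 s = 0 := by linear_combination a3 - b1
  rw [b2, b3, zero_mul, sub_zero, mul_self_eq_one_iff] at a4
  rcases a4 with a4 | a4
  · exact Or.inl (SL2.ext4 a4 b3 b1 (b2.trans a4))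
  · exact Or.inr (SL2.ext4 a4 b3 b1 ((b2.trans a4).trans (by rw [SL2.tor11]; simp)))

variable (G : C3.Gd R hT l Φ cs' h' β w i g)

/-- the relative normaliser as a subgroup -/
def N2 : Subgroup Y := ((MonoidHom.snd W' Y).comp G.Np.subtype).range

/-- **the second series** -/
theorem count2 (hΦ : Function.Injective Φ) {f : Al (S2 F)} {φ : Multiplicative F →* ℂˣ} (C : Cusp f φ) (h0 : f ≠ 0)
    (hs : ad (mp Φ f) = mp Φ f) (hz : dl (ng F) * f = f) :
    Nat.card {χ // Om (eV cs h X l * mp Φ f) χ} = kk (N2 G) (zpowers (Φ (ng F))) 1 := by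
  have := G.finite_Np
  let z : G.Np := G.kt (G.nd.tor (-1)) tor_neg_mem
  have hc : z ∈ center G.Np := mem_center_iff.2 fun a =>
    Subtype.ext (Prod.ext ((mul_one _).trans (one_mul _).symm) (mem_CS.1 a.2.2 _).symm)
  have : (zpowers z).Normal :=
    ⟨fun a ha b => by rwa [mem_center_iff.1 (zpowers_le.2 hc ha) b, mul_inv_cancel_right]⟩
  have hz2 : z * z = 1 := Subtype.ext (Prod.ext (mul_one _) (by
    show Φ (ng F) * Φ (ng F) = 1
    rw [← map_mul, ng_mul_ng, map_one]))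
  have hm : ∀ a, a ∈ zpowers z ↔ a = 1 ∨ a = z := fun a => mem_zp2 hz2
  have key := count_dat (G.dat C) (QuotientGroup.mk' (zpowers z)) (QuotientGroup.mk'_surjective _)
    (fun a ha => ?_) (fun a ha h1 => ?_) (fun a => ?_) ?_
  · rw [Gd.dat_t, Gd.tt_one] at key
    rw [key, k0_quot _ (QuotientGroup.mk'_surjective _), QuotientGroup.ker_mk', N2, MonoidHom.range_eq_map]
    refine Eq.symm (kk_map ((MonoidHom.snd W' Y).comp G.Np.subtype) (fun a _ => ?_) fun _ _ _ => rfl)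
    rw [hm, mem_zp2 (by rw [← map_mul, ng_mul_ng, map_one])]
    refine or_congr ⟨fun e => ?_, fun e => by rw [e, map_one]⟩ ⟨fun e => ?_, fun e => by rw [e]; rfl⟩
    · exact Subtype.ext (Prod.ext (G.eq_one_of_mem_P (by rw [show a.1.2 = 1 from e]; exact one_mem _)) e)
    · exact Subtype.ext (Prod.ext (G.eq_one_of_mem_P (by rw [show a.1.2 = _ from e]; exact G.phi_mem_P _)) e)
  · rcases (hm a).1 ((QuotientGroup.eq_one_iff a).1 ha) with rfl | rfl
    · exact ⟨map_one _, rfl⟩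
    · refine ⟨rfl, ?_⟩
      rw [Gd.dat_t, Gd.dat_t, Gd.tt_one, Gd.tt]
      show _ * dl (Φ (ng F)) * _ * _ = _
      rw [mul_assoc (eV _ _ _ _), dl_comm_eV (G.nd.norm _), ← mul_assoc, eV_mul_eV, mul_assoc, ← mp_dl, ← map_mul, hz]
  · have ht := G.mem_T ha
    rw [Gd.dat_t, Gd.tt, ← t_comm_eV R ht, mul_assoc (dl _), eV_mul_eV, mul_assoc, coeff_dl_mul, mul_one]
    refine coeff_eV_off G.nd f (T_le_LJ l (inv_mem ht)) fun s e => h1 ((QuotientGroup.eq_one_iff a).2 ((hm a).2 ?_))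
    have h2 : s⁻¹ ∈ center (S2 F) := mem_center_iff.2 fun t => hΦ (by
      rw [map_mul, map_mul, map_inv, e, inv_inv, mem_CS.1 a.2.2])
    have h3 : a.1.2 = Φ s⁻¹ := by rw [map_inv, e, inv_inv]
    rcases center_S2 h2 with h4 | h4
    · exact Or.inl (Subtype.ext (Prod.ext ha (by rw [h3, h4, map_one]; rfl)))
    · exact Or.inr (Subtype.ext (Prod.ext ha (by rw [h3, h4]; rfl)))
  · have h1 : ad (eV cs h X l) = eV cs h X l := sr_av _
    rw [Gd.dat_t, Gd.dat_t, Gd.tt, Gd.tt, sr_mul, sr_mul, sr_mul, hs, h1, sr_dl, ← mul_assoc, ← mul_assoc,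
      G.nd.mp_comm, mul_assoc (eV _ _ _ _), ← cs_comm (inv_mem a.2.2), mul_assoc (eV _ _ _ _), mul_assoc (dl _),
      G.nd.mp_comm]
    simp only [mul_assoc]
    rfl
  · rw [Gd.dat_t, Gd.tt_one]
    exact eV_mp_ne G.nd hΦ h0

include G in
/-- the series are disjoint -/
theorem dis {f b : Al (S2 F)} {φ : Multiplicative F →* ℂˣ} (C : Cusp f φ) (hb : ∀ s, f * dl s * b = 0) (z : Y) :
    eV cs h X l * mp Φ f * dl z * (eV cs h X l * mp Φ b) = 0 := by
  obtain ⟨v, hz⟩ := (mem_GG R).1 (G.nd.top ▸ mem_top z)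
  obtain ⟨a, ha, s, k, hk, u, hu, rfl⟩ := G.cell_dec hz
  obtain ⟨c, hc, x, hx, rfl⟩ := exists_vx R l hu
  obtain ⟨s', rfl⟩ := (G.nd.mem x).1 hx
  have e1 : eV cs h X l * mp Φ f * dl (a * Φ (SL2.x s) * k * (c * Φ (SL2.x s'))) * (eV cs h X l * mp Φ b) =
      eV cs h X l * (mp Φ f * dl (Φ (SL2.x s)) * dl k * eV cs h X l) * (dl (Φ (SL2.x s')) * mp Φ b) := by
    rw [dl_mul, dl_mul, dl_mul, dl_mul]
    calc _ = (eV cs h X l * mp Φ f * dl a) * dl (Φ (SL2.x s)) * dl k * (dl c * (dl (Φ (SL2.x s')) * eV cs h X l)) *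
          mp Φ b := by simp only [mul_assoc]
      _ = _ := by
        rw [← G.nd.mp_comm, mul_assoc (mp Φ f), eV_mul_dl ha, G.nd.mp_comm, dl_comm_eV (G.nd.norm _),
          ← mul_assoc (dl c), dl_mul_eV hc]
        simp only [mul_assoc]
  rw [e1]
  by_cases hv : rep cs h v (sr l) = sr l ∨ rep cs h v (sr l) = -sr l
  · obtain ⟨a, s'', rfl, -⟩ := G.rep_dec hk hv
    have e2 : mp Φ f * dl (Φ (SL2.x s)) * dl a.1.2 = dl a.1.2 * (mp Φ f * dl (Φ (SL2.x s))) := by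
      rw [← mp_dl, ← map_mul, cs_comm a.2.2]
    have e3 : mp Φ f * dl (Φ (SL2.x s)) * dl (Φ s'') * eV cs h X l * (dl (Φ (SL2.x s')) * mp Φ b) = 0 := by
      rw [← mp_dl, ← mp_dl, ← mp_dl, ← map_mul, ← map_mul, G.nd.mp_comm, mul_assoc, ← map_mul, ← map_mul, ← mul_assoc,
        mul_assoc f, mul_assoc f, ← dl_mul, ← dl_mul, hb, map_zero, mul_zero]
    rw [dl_mul, ← mul_assoc (mp Φ f * _), e2, mul_assoc, mul_assoc (dl a.1.2), mul_assoc (dl a.1.2),
      mul_assoc (dl a.1.2), e3, mul_zero, mul_zero]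
  · rw [not_or] at hv
    rw [G.nd.kill C _ hk hv.1 hv.2, mul_zero, zero_mul]

end Cfsg.Agent.MK.P

private theorem dce_9267aab41560 : _root_.True := by
  try have : _root_.True := by simp only [_root_.Cfsg.Agent.MK.P.N2.eq_1]
  try have : _root_.True := by simp only [_root_.Cfsg.Agent.ODD.PS.C3.VV.congr_simp]
  try have : _root_.True := by simp only [_root_.Cfsg.Agent.MK.Y.Sc.eq_1]
  try have : _root_.True := by simp only [_root_.Cfsg.Agent.H684.OQ.eU.eq_1]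
  exact _root_.True.intro
end

-- part: MK/P/GB2
section
prune_inst 0x200028044b6202000000000222007e329a000000000f040044400c0005c804200d002620a49000080a0a0c54403c00481054008040000000020004000118000088800000b148a00000001f001000000000000000000000000000000000000004000000000
set_option linter.all false
open scoped Cfsg.Agent.FastGrp

/-!
# MK-P: the count for a root group datum of type `C` (helper36)

* `par2` : the parity of the degree of a character of `SL₂(q)`, `q ≡ 3 mod 4`;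
* `k0_even`, `k0_odd` : `k0 Y = k0 N`, `k0 Y = k0 N + 2 k`.
-/

set_option autoImplicit false
set_option linter.unusedSectionVars false

namespace Cfsg.Agent.MK.P

open Cfsg Subgroup Cfsg.Agent.MK.T Cfsg.Agent.H684.OQ Cfsg.Agent.ODD Cfsg.Agent.ODD.PS
  Cfsg.Agent.ODD.PS.C3 Cfsg.Agent.H670 Cfsg.Agent.H670.RankOne Cfsg.Agent.ODD.C3.Q Cfsg.Agent.Characters.Core
open CoxeterSystem Cfsg.Agent.ChevalleyStructure.CoxeterGeom Cfsg.Agent.Tits.Roots Cfsg.Agent.Tits.Core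
  Cfsg.Agent.Nodes.Reps Cfsg.Agent.Nodes.BNOf Cfsg.Agent.Nodes.Bruhat Cfsg.Agent.Nodes.StabComb
  Cfsg.Agent.Nodes.LeviDec
open Cfsg.Agent.MK.Y (sr_mul)

local notation "ad" => Cfsg.Agent.MK.Y.sr

section sl2

variable {F : Type} [Field F] [Fintype F]

/-- a cuspidal character of odd degree with its idempotent -/
structure Cu (ψ : IrrCharacter (S2 F)) (φ : Multiplicative F →* ℂˣ) : Prop where
  odd : Odd (charDegree (ψ : S2 F → ℂ))
  cusp : Cusp (fc ψ φ) φ
  one : lin (ψ : S2 F → ℂ) (eph φ) = 1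

/-- **the parity in `SL₂(q)`** -/
theorem par2 (hq : Fintype.card F % 4 = 3) : ∃ (ψ₁ ψ₂ : IrrCharacter (S2 F)) (φ₁ φ₂ : Multiplicative F →* ℂˣ),
    ψ₁ ≠ ψ₂ ∧ Cu ψ₁ φ₁ ∧ Cu ψ₂ φ₂ ∧ ∀ θ : S2 F → ℂ, IsCharacter _ θ → ∀ d d₀ d₁ d₂ : ℕ, θ 1 = d →
      lin θ (eph 1 * av (1 : (SL2.data F).T →* ℂˣ)) = d₀ → lin θ (fc ψ₁ φ₁) = d₁ → lin θ (fc ψ₂ φ₂) = d₂ →
      (Odd d ↔ Odd (d₀ + d₁ + d₂)) := by
  classical
  have := finite_irr (G := S2 F)
  have : Fintype (IrrCharacter (S2 F)) := Fintype.ofFinite _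
  have : Fintype (S2 F) := Fintype.ofFinite _
  have hnu : ¬ IsSquare (-1 : F) := fun h => FiniteField.isSquare_neg_one_iff.1 h hq
  obtain ⟨h, hh, hodd⟩ : ∃ h, Fintype.card F = 2 * h + 1 ∧ Odd h :=
    ⟨Fintype.card F / 2, by omega, by rw [Nat.odd_iff]; omega⟩
  have ex : ∀ t, SL2.N (-1 : F) t = 1 → ∃ ψ : IrrCharacter (S2 F), SL2.ty (-1) ψ = t := fun t ht => by
    obtain ⟨a, ha⟩ := Finset.card_pos.1 (lt_of_lt_of_eq one_pos ht.symm)
    exact ⟨a, (Finset.mem_filter.1 ha).2⟩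
  obtain ⟨-, -, -, -, c5, -, c7, c8⟩ := SL2.counts hnu hh
  obtain ⟨St, hSt⟩ := ex _ c5
  obtain ⟨ψ₁, h1⟩ := ex _ c7
  obtain ⟨ψ₂, h2⟩ := ex _ c8
  have hT := SL2.ty_triv (nu := (-1 : F)) (neg_ne_zero.2 one_ne_zero)
  have dS : charDegree (St : S2 F → ℂ) = Fintype.card F := by rw [PS.S2.deg_ty hnu St hh, hSt, hh]; ring
  have oS : Odd (charDegree (St : S2 F → ℂ)) := by rw [dS, hh]; exact odd_two_mul_add_one h
  have oT : Odd (charDegree ((SL2.triv : IrrCharacter (S2 F)) : S2 F → ℂ)) := by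
    rw [PS.S2.deg_ty hnu _ hh, hT]
    exact odd_one
  have o1 : Odd (charDegree (ψ₁ : S2 F → ℂ)) := by rw [PS.S2.deg_ty hnu _ hh, h1]; simpa using hodd
  have o2 : Odd (charDegree (ψ₂ : S2 F → ℂ)) := by rw [PS.S2.deg_ty hnu _ hh, h2]; simpa using hodd
  have cu : ∀ (ψ : IrrCharacter (S2 F)) (c : F), Odd (charDegree (ψ : S2 F → ℂ)) → (SL2.data F).n ψ 0 = 0 →
      (SL2.data F).n ψ c = 1 → Cu ψ (psiHom c) := fun ψ c ho e0 hc => by
    have e1 : lin (ψ : S2 F → ℂ) (eph (psiHom c)) = 1 := by rw [lin_eph, Data.cf_eq_n, hc, Nat.cast_one]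
    exact ⟨ho, cusp_fc ψ e1 (by rw [← psiHom_zero, lin_eph, Data.cf_eq_n, e0, Nat.cast_zero]), e1⟩
  have c1 := cu ψ₁ 1 o1 (congrArg Prod.fst h1) (congrArg (fun p => p.2.1) h1)
  have c2 := cu ψ₂ (-1) o2 (congrArg Prod.fst h2) (congrArg (fun p => p.2.2) h2)
  refine ⟨ψ₁, ψ₂, _, _, fun e => ?_, c1, c2, fun θ hθ d d₀ d₁ d₂ e e₀ e₁ e₂ => ?_⟩
  · rw [e, h2] at h1
    exact absurd h1 (by decide)
  obtain ⟨m, rfl⟩ := exists_nat_comb hθ
  have k0 : d₀ = m St + m SL2.triv := by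
    have h3 := (SL2.eq_ind_sub_one St.2 (by rw [Blocks.Basic.irr_one_eq_charDegree St.2, dS])).2.2
    rw [lin_borel (isCharacter_isClassFunction hθ), ← sub_add_cancel ((SL2.data F).ind 1) 1, ← h3,
      classInner_add_right, classInner_sum_nsmul_irr] at e₀
    have h4 := classInner_sum_nsmul_irr m SL2.triv
    exact Nat.cast_injective (R := ℂ) (by rw [← e₀, Nat.cast_add, ← h4]; rfl)
  have k1 : ∀ {ψ : IrrCharacter (S2 F)} {φ : Multiplicative F →* ℂˣ} {k : ℕ}, Cu ψ φ →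
      lin (∑ ψ : IrrCharacter (S2 F), m ψ • (ψ : S2 F → ℂ)) (fc ψ φ) = k → k = m ψ := fun {ψ φ k} c e => by
    rw [lin_comb, Finset.sum_eq_single ψ (fun χ _ hχ => by rw [fc, lin_cen_ne hχ, mul_zero])
      fun k => absurd (Finset.mem_univ _) k, fc, lin_cen_self, c.one, mul_one] at e
    exact_mod_cast e.symm
  have k2 : d = ∑ ψ : IrrCharacter (S2 F), m ψ * charDegree (ψ : S2 F → ℂ) := by
    rw [Finset.sum_apply] at e
    simp only [Pi.smul_apply, nsmul_eq_mul, fun ψ : IrrCharacter (S2 F) => Blocks.Basic.irr_one_eq_charDegree ψ.2] at e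
    exact_mod_cast e.symm
  have k3 : ∀ {χ : IrrCharacter (S2 F)} {t : ℕ × ℕ × ℕ}, Odd (charDegree (χ : S2 F → ℂ)) → SL2.ty (-1) χ = t →
      ∀ ψ, ψ = χ ↔ SL2.ty (-1) ψ = t := fun ho ht ψ =>
    ⟨fun e => e ▸ ht, fun e => PS.S2.eq_of_ty hnu ho (e.trans ht.symm)⟩
  have k4 : ∀ ψ : IrrCharacter (S2 F), (charDegree (ψ : S2 F → ℂ) : ZMod 2) = (if ψ = St then 1 else 0) +
      (if ψ = SL2.triv then 1 else 0) + (if ψ = ψ₁ then 1 else 0) + if ψ = ψ₂ then 1 else 0 := fun ψ => by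
    simp only [k3 oS hSt, k3 oT hT, k3 o1 h1, k3 o2 h2]
    rw [PS.S2.deg_ty hnu ψ hh, Nat.cast_add, Nat.cast_mul, hodd.natCast_zmod_two, one_mul]
    have ht := SL2.ty_mem hnu ψ
    generalize SL2.ty (-1) ψ = t at ht
    simp only [SL2.tys, Finset.mem_insert, Finset.mem_singleton] at ht
    rcases ht with rfl | rfl | rfl | rfl | rfl | rfl | rfl | rfl <;> decide
  rw [← ZMod.natCast_eq_one_iff_odd, ← ZMod.natCast_eq_one_iff_odd, k0, k1 c1 e₁, k1 c2 e₂, k2, Nat.cast_sum]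
  simp only [Nat.cast_mul, k4, mul_add, Finset.sum_add_distrib, mul_ite, mul_one, mul_zero, Finset.sum_ite_eq',
    Finset.mem_univ, if_true, Nat.cast_add]

namespace Cu

variable {ψ ψ' : IrrCharacter (S2 F)} {φ φ' : Multiplicative F →* ℂˣ} (c : Cu ψ φ)

include c

theorem ne : fc ψ φ ≠ 0 := fun e => by
  have h := c.one
  rw [← lin_cen_self, ← fc, e, map_zero] at h
  exact zero_ne_one h

omit c in
theorem orth (h : ψ ≠ ψ') (s : S2 F) : fc ψ φ * dl s * fc ψ' φ' = 0 := by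
  have h1 : cen (ψ : S2 F → ℂ) * cen (ψ' : S2 F → ℂ) = 0 := H992.HT.idem_eq_zero (cen_idem ψ (cen_mul_cen ψ')) fun χ => by
    rw [← lin_eq]
    by_cases e : χ = ψ
    · rw [e, lin_cen_self, ← mul_one (cen _), lin_cen_ne h]
    · exact lin_cen_ne e _
  rw [fc, fc, mul_assoc (cen _), ← mul_assoc _ (cen (ψ' : S2 F → ℂ)), mul_assoc (cen _), ← cen_comm ψ', ← mul_assoc, h1,
    zero_mul, zero_mul]

omit c in
theorem ng_mul (h : (ψ : S2 F → ℂ) (ng F) = (ψ : S2 F → ℂ) 1) : dl (ng F) * fc ψ φ = fc ψ φ := by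
  have := Fintype.ofFinite (S2 F)
  rw [fc, ← mul_assoc, cen_def, mul_smul_comm, Finset.mul_sum]
  congr 2
  refine Fintype.sum_equiv (Equiv.mulLeft (ng F)) _ _ fun s => ?_
  rw [mul_smul_comm, ← dl_mul, Equiv.coe_mulLeft, mul_inv_rev, inv_eq_of_mul_eq_one_right ng_mul_ng,
    mem_center_iff.1 ng_mem, Red.apply_mul_of_ker (isIrr_isCharacter ψ.2) h]

end Cu

end sl2

theorem odd_iff_of_ev {z : ℂ} {d k : ℕ} (hz : Lev.Ev (z - d)) (hk : z = k) : Odd d ↔ Odd k := by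
  have h1 := H381.OQ.two_dvd_of (m := (k : ℤ) - d) hz (by push_cast; rw [← hk]; ring)
  rw [Nat.odd_iff, Nat.odd_iff]
  omega

theorem par_av {Y : Type} [Group Y] [Finite Y] {P : Subgroup Y} (hP : Odd (Nat.card P)) {χ : Y → ℂ}
    (hχ : IsCharacter Y χ) (h : Lev.Ev (∑ᶠ u : P, χ u - χ 1)) {d : ℕ} (hd : lin χ (av (P := P) 1) = d) :
    Odd (charDegree χ) ↔ Odd d := by
  have := Fintype.ofFinite P
  rw [Red.apply_one hχ] at h
  rw [odd_iff_of_ev h (k := Nat.card P * d), Nat.odd_mul, and_iff_right hP]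
  rw [Nat.cast_mul, ← hd, ← one_mul (av _), ← mul_one (1 * _), lin_av, smul_eq_mul,
    mul_inv_cancel_left₀ (card_ne _), finsum_eq_sum_of_fintype]
  exact Finset.sum_congr rfl fun u _ => by simp [lin_dl]

theorem card_or {α : Type} {p q : α → Prop} [Finite {a // p a}] [Finite {a // q a}] (h : ∀ a, p a → ¬ q a) :
    Nat.card {a // p a ∨ q a} = Nat.card {a // p a} + Nat.card {a // q a} := by
  classical
  rw [← Nat.card_sum]
  exact Nat.card_congr (subtypeOrEquiv p q (by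
    rw [disjoint_iff]
    funext a
    exact propext ⟨fun h' => h a h'.1 h'.2, False.elim⟩))

variable {m : ℕ} {W Y : Type} [Group W] [Finite W] [Group Y] [Fintype Y]
  {cs : CoxeterSystem (CoxeterMatrix.B (m + 1)) W} {p : ℕ} {T : Subgroup Y}
  {n : Fin (m + 1) → Y} {X : (Fin (m + 1) → ℤ) → Subgroup Y} {F : Type} [Field F] [Fintype F]
  {R : RGD cs (Nodes.TypeC.isCartan (m + 1)) p T n X} {Φ : S2 F →* Y} {gg : Fin (m + 1) → Y}

local notation "hC" => Nodes.TypeC.isCartan (m + 1)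

/-- **even rank** -/
theorem k0_even (S : Sp R Φ gg) (hP : Par cs X) (hp : p.Prime) (hp2 : p ≠ 2) (hm : Even (m + 1)) :
    k0 Y = k0 (NN cs R.nsys) := by
  rw [← count1 S.nd]
  refine Nat.card_congr (Equiv.subtypeEquivRight fun χ => and_congr_right fun hχ => ?_)
  have hc := isIrr_isCharacter hχ
  obtain ⟨d, hd⟩ := lin_idem hc (eU_mul_eU (cs := cs) (h := hC) (X := X))
  rw [par_av (odd_U R hp hp2) hc ((hP χ hc).1 hm) hd]
  exact ⟨fun h => ⟨d, h, hd⟩, fun ⟨d', h, hd'⟩ => by rwa [Nat.cast_injective (R := ℂ) (hd.symm.trans hd')]⟩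

/-- an element which exchanges the first coordinates in pairs -/
def Sw (R : RGD cs hC p T n X) (Φ : S2 F →* Y) : Prop :=
  ∃ y ∈ NN cs R.nsys, y ∈ CS Φ ∧ y * y ∈ T ∧ ∃ t ∈ T, t ∈ CS Φ ∧ y⁻¹ * t * y = Φ (ng F) * t

theorem mp_avT (Φ : S2 F →* Y) : mp Φ (av (1 : (SL2.data F).T →* ℂˣ)) = av (P := (Φ.comp SL2.tor).range) 1 :=
  mp_av Φ (P := (SL2.data F).T) (Q := (Φ.comp SL2.tor).range) fun _ =>
    ⟨fun ⟨u, hu⟩ => ⟨_, ⟨u, rfl⟩, hu⟩, by rintro ⟨_, ⟨u, rfl⟩, hu⟩; exact ⟨u, hu⟩⟩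

theorem eU_comm_av (S : Sp R Φ gg) :
    eU cs hC X * av (P := (Φ.comp SL2.tor).range) 1 = av (P := (Φ.comp SL2.tor).range) 1 * eU cs hC X := by
  rw [← mp_avT Φ]
  have := Fintype.ofFinite (SL2.data F).T
  rw [av_def, map_smul, map_sum, mul_smul_comm, smul_mul_assoc, Finset.mul_sum, Finset.sum_mul]
  refine congrArg _ (Finset.sum_congr rfl ?_)
  rintro ⟨_, u, rfl⟩ -
  rw [map_smul, mp_dl, mul_smul_comm, smul_mul_assoc, dl_t_comm_eU R (S.nd.tor u)]

/-- the weights which are not trivial on the torus of the last node -/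
theorem par_U (S : Sp R Φ gg) (h4 : Fintype.card F % 4 = 3) (hs : Sw R Φ) {χ : Y → ℂ} (hχ : IsCharacter Y χ) {d d₀ : ℕ}
    (hd : lin χ (eU cs hC X) = d) (h0 : lin χ (eU cs hC X * av (P := (Φ.comp SL2.tor).range) 1) = d₀) :
    Odd d ↔ Odd d₀ := by
  obtain ⟨y, hy, hy1, hy2, t, ht, ht1, ht2⟩ := hs
  obtain ⟨v, hv⟩ := mem_NN.1 hy
  have N := S.nd
  have hk : Rp cs R.nsys (v * cs.simple (Fin.last m)) (y * Φ SL2.wel) := hv.mul N.wel
  have hw : ∀ ν : (PS.dat R N.top N.comm).Wt, ∃ lam, ν = wt R N.top N.comm lam := fun ν =>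
    ⟨ν.comp (kerT R N.top N.comm).symm.toMonoidHom, MonoidHom.ext fun t => by simp [wt]⟩
  have hcm := eU_comm_av S
  obtain ⟨d₁, hd₁⟩ := lin_idem hχ (e := eU cs hC X * (1 - av (P := (Φ.comp SL2.tor).range) 1)) (by
    rw [mul_sub, mul_one, mul_sub, sub_mul, sub_mul, eU_mul_eU, ← mul_assoc, eU_mul_eU, mul_assoc (eU _ _ _), ← hcm,
      ← mul_assoc, eU_mul_eU, ← mul_assoc, mul_assoc (eU _ _ _), ← hcm, ← mul_assoc, eU_mul_eU, mul_assoc, av_mul_av,
      sub_self, sub_zero])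
  have h1 : d = d₀ + d₁ := Nat.cast_injective (R := ℂ) (by
    rw [Nat.cast_add, ← hd, ← h0, ← hd₁, ← map_add, ← mul_add, add_sub_cancel, mul_one])
  have conj1 : ∀ u, (y * Φ SL2.wel)⁻¹ * Φ (SL2.tor u) * (y * Φ SL2.wel) = Φ (SL2.tor u⁻¹) := fun u => by
    have h1 := congrArg Φ (SL2.wel_mul_tor u⁻¹)
    rw [inv_inv, map_mul, map_mul] at h1
    rw [mul_assoc, ← mul_assoc (Φ _), mem_CS.1 hy1, mul_assoc, ← h1]
    group
  suffices h2 : ¬ Odd d₁ by
    rw [h1, Nat.odd_add, iff_true_intro (Nat.not_odd_iff_even.1 h2), iff_true]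
  intro h2
  obtain ⟨ν, h3, h5, -⟩ := exists_fix_odd (PS.dat R N.top N.comm) hχ (a := ⟨_, mem_NN.2 ⟨_, hk⟩⟩)
    ((piN_eq_one R).2 (by
      show y * Φ SL2.wel * (y * Φ SL2.wel) ∈ T
      rw [mul_assoc, ← mul_assoc (Φ _), mem_CS.1 hy1, ← mul_assoc, ← mul_assoc, mul_assoc (y * y)]
      exact mul_mem hy2 (Rp.mem_of_one (cs.simple_mul_simple_self (Fin.last m) ▸ N.wel.mul N.wel))))
    (fun ν => ¬ ∀ u, ν ((kerT R N.top N.comm).symm ⟨_, N.tor u⟩) = 1) (fun ν hν h => hν fun u => by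
      rw [← h u⁻¹, AH.Dat.act_apply]
      refine congrArg ν (Subtype.ext (Subtype.ext ?_))
      exact ((conj1 u⁻¹).trans (by rw [inv_inv]; rfl)).symm)
    (z := 1 - av (P := (Φ.comp SL2.tor).range) 1) (fun ν hν => by
      obtain ⟨lam, rfl⟩ := hw ν
      obtain ⟨u, hu⟩ := not_forall.1 hν
      rw [E_wt, mul_sub, mul_one, sub_eq_self]
      have h1 : (((lam ⟨_, N.tor u⟩ : ℂˣ) : ℂ) - 1) •
          (H684.OQ.eB R lam * av (P := (Φ.comp SL2.tor).range) 1) = 0 := by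
        rw [sub_smul, one_smul, ← smul_mul_assoc, ← eB_mul_t R lam (N.tor u), mul_assoc,
          C3.dl_mul_av_one (P := (Φ.comp SL2.tor).range) (u := Φ (SL2.tor u)) ⟨u, rfl⟩, sub_self]
      exact (smul_eq_zero.1 h1).resolve_left fun h2 => hu (Units.val_eq_one.1 (sub_eq_zero.1 h2))) (fun ν hν => by
      obtain ⟨lam, rfl⟩ := hw ν
      rw [E_wt, mul_sub, mul_one, sub_eq_zero]
      refine (mul_av_eq _ ?_).symm
      rintro ⟨_, u, rfl⟩
      exact (eB_mul_t R lam (N.tor u)).trans (congrArg (fun c : ℂˣ => (c : ℂ) • _) (not_not.1 hν u)))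
    (by rw [PS.dat_t, Subgroup.coe_one, ta_one]; exact ⟨d₁, h2, hd₁⟩)
  obtain ⟨lam, rfl⟩ := hw ν
  have h6 := (mem_Nl R N.top N.comm).1 h5
  have h7 : ∀ u, lam ⟨_, N.tor (u * u)⟩ = 1 := fun u => by
    have h8 := h6 _ (N.tor u) (conj_T' R hk (N.tor u))
    have h9 : lam ⟨_, N.tor (u * u)⟩ * lam ⟨_, N.tor u⁻¹⟩ = lam ⟨_, N.tor u⟩ := by
      rw [← map_mul]
      refine congrArg lam (Subtype.ext ?_)
      show Φ _ * Φ _ = Φ _
      rw [← map_mul, ← map_mul, mul_inv_cancel_right]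
    rw [h8, show (⟨_, conj_T' R hk (N.tor u)⟩ : T) = ⟨_, N.tor u⁻¹⟩ from Subtype.ext (conj1 u)] at h9
    exact mul_eq_right.1 h9
  have h8 : lam ⟨_, N.tor (-1)⟩ = 1 := by
    have h9 := h6 t ht (conj_T' R hk ht)
    rw [show (⟨_, conj_T' R hk ht⟩ : T) = ⟨_, N.tor (-1)⟩ * ⟨t, ht⟩ from Subtype.ext (by
      show (y * Φ SL2.wel)⁻¹ * t * (y * Φ SL2.wel) = Φ (ng F) * t
      rw [mul_inv_rev, mul_assoc, mul_assoc, ← mul_assoc t, ← mul_assoc y⁻¹, ← mul_assoc y⁻¹, ht2,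
        ← mem_CS.1 (mul_mem tor_neg_mem ht1), inv_mul_cancel_left]), map_mul] at h9
    exact mul_eq_right.1 h9.symm
  refine h3 fun u => ?_
  show lam ⟨_, N.tor u⟩ = 1
  have hnu : ¬ IsSquare (-1 : F) := fun h => FiniteField.isSquare_neg_one_iff.1 h h4
  have sq : ∀ u : Fˣ, IsSquare (u : F) → lam ⟨_, N.tor u⟩ = 1 := by
    rintro u ⟨r, hr⟩
    have hr0 : r ≠ 0 := fun e => u.ne_zero (by rw [hr, e, mul_zero])
    rw [show u = Units.mk0 r hr0 * Units.mk0 r hr0 from Units.ext hr]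
    exact h7 _
  by_cases hu : IsSquare (u : F)
  · exact sq u hu
  · classical
    have h9 : IsSquare ((-1 * u : Fˣ) : F) := by
      rw [← quadraticChar_one_iff_isSquare (Units.ne_zero _), Units.val_mul, map_mul,
        quadraticChar_neg_one_iff_not_isSquare.2 hu, Units.val_neg, Units.val_one,
        quadraticChar_neg_one_iff_not_isSquare.2 hnu]
      rfl
    have h10 := sq _ h9
    rwa [show (⟨_, N.tor (-1 * u)⟩ : T) = ⟨_, N.tor (-1)⟩ * ⟨_, N.tor u⟩ from Subtype.ext (by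
      show Φ _ = Φ _ * Φ _
      rw [map_mul, map_mul]), map_mul, h8, one_mul] at h10

/-- **odd rank** -/
theorem k0_odd (S : Sp R Φ gg) (hP : Par cs X) (hp : p.Prime) (hp2 : p ≠ 2) (h4 : Fintype.card F % 4 = 3)
    (hm : Odd (m + 1)) (hs : Sw R Φ) (hΦ : Function.Injective Φ) (hz : ∀ χ, OI (S2 F) χ → χ (ng F) = χ 1) :
    k0 Y = k0 (NN cs R.nsys) + 2 * kk (N2 S.gd) (zpowers (Φ (ng F))) 1 := by
  obtain ⟨ψ₁, ψ₂, φ₁, φ₂, hne, c₁, c₂, hpar⟩ := par2 h4
  have N := S.nd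
  have cnt : ∀ {ψ : IrrCharacter (S2 F)} {φ : Multiplicative F →* ℂˣ}, Cu ψ φ →
      Nat.card {χ // Om (eV cs hC X (Fin.last m) * mp Φ (fc ψ φ)) χ} = kk (N2 S.gd) (zpowers (Φ (ng F))) 1 :=
    fun {ψ φ} c => count2 S.gd hΦ c.cusp c.ne (by
      have e : φ = (φ.comp (MulEquiv.ofBijective _ N.xl_bij).symm.toMonoidHom).comp N.xl :=
        MonoidHom.ext fun r => congrArg φ ((MulEquiv.ofBijective _ N.xl_bij).symm_apply_apply r).symm
      have h1 : ad (mp Φ (eph φ)) = mp Φ (eph φ) := by rw [e, N.mp_eph, sr_av]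
      rw [fc, map_mul, sr_mul, h1, sr_mp_cen Φ (isIrr_isCharacter ψ.2), ← map_mul, ← map_mul, cen_comm])
      (Cu.ng_mul (hz _ ⟨ψ.2, c.odd⟩))
  have fin : ∀ e : Al Y, Finite {χ // Om e χ} := fun e => H.finite_sub fun _ h => h.1
  have ne : ∀ {e : Al Y} {χ : Y → ℂ}, Om e χ → lin χ e ≠ 0 := fun ⟨_, d, hd, h⟩ => by
    rw [h]
    exact Nat.cast_ne_zero.2 hd.pos.ne'
  have d1 : ∀ {ψ : IrrCharacter (S2 F)} {φ : Multiplicative F →* ℂˣ}, Cu ψ φ → ∀ χ, IsIrrCharacter Y χ →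
      lin χ (eV cs hC X (Fin.last m) * mp Φ (fc ψ φ)) * lin χ (eU cs hC X) = 0 := fun c χ hχ => by
    rw [← eV_mul_eph N]
    exact lin_mul_eq_zero hχ (dis S.gd c.cusp c.cusp.cusp)
  have d2 : ∀ χ, IsIrrCharacter Y χ → lin χ (eV cs hC X (Fin.last m) * mp Φ (fc ψ₁ φ₁)) *
      lin χ (eV cs hC X (Fin.last m) * mp Φ (fc ψ₂ φ₂)) = 0 := fun χ hχ =>
    lin_mul_eq_zero hχ (dis S.gd c₁.cusp (Cu.orth hne))
  have := fin (eU cs hC X)
  have := fin (eV cs hC X (Fin.last m) * mp Φ (fc ψ₁ φ₁))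
  have := fin (eV cs hC X (Fin.last m) * mp Φ (fc ψ₂ φ₂))
  have : Finite {χ // Om (eV cs hC X (Fin.last m) * mp Φ (fc ψ₁ φ₁)) χ ∨
      Om (eV cs hC X (Fin.last m) * mp Φ (fc ψ₂ φ₂)) χ} := H.finite_sub fun _ h => h.elim (·.1) (·.1)
  rw [← count1 N, two_mul]
  nth_rewrite 1 [← cnt c₁]
  rw [← cnt c₂, ← card_or fun χ h h' => mul_ne_zero (ne h) (ne h') (d2 χ h.1), ← card_or fun χ h h' =>
    h'.elim (fun h' => mul_ne_zero (ne h') (ne h) (d1 c₁ χ h.1)) fun h' => mul_ne_zero (ne h') (ne h) (d1 c₂ χ h.1)]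
  refine Nat.card_congr (Equiv.subtypeEquivRight fun χ => ?_)
  rw [Om, Om, Om, ← and_or_left, ← and_or_left]
  refine and_congr_right fun hχ => ?_
  have hc := isIrr_isCharacter hχ
  have idem : ∀ {f : Al (S2 F)}, f * f = f → ∃ d : ℕ, lin χ (eV cs hC X (Fin.last m) * mp Φ f) = d := fun {f} hf =>
    lin_idem hc (by rw [mul_assoc, ← mul_assoc (mp Φ f), N.mp_comm, ← mul_assoc, ← mul_assoc, eV_mul_eV, mul_assoc,
      ← map_mul, hf])
  obtain ⟨dV, hV⟩ := lin_idem hc (eV_mul_eV (cs := cs) (h := hC) (X := X) (l := Fin.last m))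
  obtain ⟨dU, hU⟩ := lin_idem hc (eU_mul_eU (cs := cs) (h := hC) (X := X))
  obtain ⟨d₁, h₁⟩ := idem c₁.cusp.idem
  obtain ⟨d₂, h₂⟩ := idem c₂.cusp.idem
  obtain ⟨d₀, h₀⟩ := lin_idem hc (e := eU cs hC X * av (P := (Φ.comp SL2.tor).range) 1) (by
    rw [mul_assoc, ← mul_assoc (av _), ← eU_comm_av S, ← mul_assoc, ← mul_assoc, eU_mul_eU, mul_assoc, av_mul_av])
  have h5 := hpar _ (isCharacter_corner Φ hc (e := eV cs hC X (Fin.last m)) (av_mul_av _) (eV_comm N)) dV d₀ d₁ d₂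
    (by rw [map_one, dl_one, mul_one, hV]) (by rw [lin_mp, map_mul (mp Φ), ← mul_assoc, eV_mul_eph N, mp_avT, h₀])
    (by rw [lin_mp, h₁]) (by rw [lin_mp, h₂])
  have h6 := par_U S h4 hs hc hU h₀
  have h7 : Odd (Nat.card (VV cs hC X (Fin.last m))) :=
    (odd_U R hp hp2).of_dvd_nat (card_dvd_of_le (V_le_U (Fin.last m)))
  have e1 := d1 c₁ χ hχ
  have e2 := d1 c₂ χ hχ
  have e3 := d2 χ hχ
  rw [par_av h7 hc ((hP χ hc).2 hm) hV, h5]
  simp only [hU, h₁, h₂, Nat.cast_inj, ← Nat.cast_mul, Nat.cast_eq_zero, mul_eq_zero, exists_eq_right'] at e1 e2 e3 ⊢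
  simp only [Nat.odd_iff] at h6 ⊢
  omega

end Cfsg.Agent.MK.P

private theorem dce_4fdd8b72c4b9 : _root_.True := by
  try have : _root_.True := by simp only [_root_.Cfsg.Agent.MK.P.Om.eq_1]
  exact _root_.True.intro
end

-- part: MK/P/GD1
section
prune_inst 0x4010000
set_option linter.all false
open scoped Cfsg.Agent.FastGrp

/-!
# MK-P: the counts for the monomial groups (helper36)

* `N1 F` : the monomial subgroup of `SL₂(F)`; `Q4 z` : four linear characters, two of them trivial on `z`;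
* `kw_even`, `kw_odd`, `exists_even`, `exists_odd` : the counts for wreath products.
-/

set_option autoImplicit false
set_option linter.unusedSectionVars false

namespace Cfsg.Agent.MK.P

open Cfsg Subgroup Equiv Cfsg.Agent.MK.T Cfsg.Agent.ODD Cfsg.Agent.ODD.PS.C3 Cfsg.Agent.H670.SL2

/-- four characters of odd degree, two of them trivial on `z` -/
structure Q4 {A : Type} [Group A] (z : A) : Prop where
  cen : z ∈ center A
  one : ∀ χ, OI A χ → χ 1 = 1 ∧ χ z * χ z = 1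
  four : k0 A = 4
  two : Nat.card {χ : {χ : A → ℂ // OI A χ} // χ.1 z = 1} = 2

section dic

variable {A U : Type} [Group A] [Finite A] [CommGroup U]

theorem kk_index (M : Subgroup A) [M.Normal] {j : ℕ} (h : M.index = 2 ^ j) (hc : IsMulCommutative (A ⧸ M)) :
    kk ⊤ M 1 = 2 ^ j := by
  rw [← QuotientGroup.ker_mk' M, ← k0_quot _ (QuotientGroup.mk'_surjective M), k0_two (IsPGroup.of_card h), ab,
    commutator_eq_bot, index_bot]
  exact h

theorem q4_of (τ : U →* A) (hτ : Function.Injective τ) {w : A} {ν : U} (hw : w ∉ τ.range)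
    (h1 : ∀ a, a * w ∈ τ.range ∨ a ∈ τ.range) (h2 : ∀ u, w * τ u = τ u⁻¹ * w) (hν : ν * ν = 1) (h3 : ¬ IsSquare ν)
    (h4 : ∀ u, IsSquare (u * ν) ∨ IsSquare u) : Q4 (τ ν) := by
  have := two_prime
  have sq : ∀ u : U, u ∈ (powMonoidHom 2 : U →* U).range ↔ IsSquare u := fun u =>
    ⟨fun ⟨v, hv⟩ => ⟨v, by rw [← hv, powMonoidHom_apply, pow_two]⟩, fun ⟨v, hv⟩ => ⟨v, by rw [hv, powMonoidHom_apply, pow_two]⟩⟩
  have iL : τ.range.index = 2 := index_eq_two_iff_exists_notMem_and.2 ⟨w, hw, h1⟩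
  have iK : ((powMonoidHom 2 : U →* U).range.map τ).index = 2 ^ 2 := by
    rw [index_map_of_injective _ hτ, iL, index_eq_two_iff_exists_notMem_and.2
      ⟨ν, fun h => h3 ((sq ν).1 h), fun u => by rw [sq, sq]; exact h4 u⟩]
    rfl
  have cj : ∀ a u, a * τ u * a⁻¹ = τ u ∨ a * τ u * a⁻¹ = τ u⁻¹ := fun a u => by
    rcases h1 a with ⟨v, hv⟩ | ⟨v, rfl⟩
    · right
      rw [eq_mul_inv_of_mul_eq hv.symm, mul_assoc (τ v), inv_mul_eq_of_eq_mul (b := τ u) (c := τ u⁻¹ * w⁻¹)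
        (by rw [← mul_assoc, h2, inv_inv, mul_inv_cancel_right]), mul_inv_rev, inv_inv, mul_assoc, mul_assoc,
        inv_mul_cancel_left, ← map_inv τ v, ← map_mul, ← map_mul, mul_inv_cancel_comm_assoc]
    · left
      rw [← map_inv, ← map_mul, ← map_mul, mul_inv_cancel_comm]
  have nL : τ.range.Normal := normal_of_index_eq_two iL
  have nK : ((powMonoidHom 2 : U →* U).range.map τ).Normal := ⟨by
    rintro _ ⟨u, hu, rfl⟩ a
    rcases cj a u with h | h <;> rw [h]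
    exacts [⟨u, hu, rfl⟩, ⟨u⁻¹, inv_mem hu, rfl⟩]⟩
  have lin : ∀ χ, OI A χ → ∃ f : A →* ℂˣ, χ = fun g => (f g : ℂ) := fun χ hχ => by
    have h5 := H142.McKayCount.charDegree_dvd_index τ.range (by
      rintro _ ⟨u, rfl⟩ _ ⟨v, rfl⟩
      rw [← map_mul, mul_comm, map_mul]) ⟨χ, hχ.1⟩
    rw [iL] at h5
    refine Characters.Linear.exists_hom_of_isIrrCharacter hχ.1 ?_
    rcases (Nat.dvd_prime Nat.prime_two).1 h5 with h6 | h6
    · exact (Red.apply_one (Characters.Core.isIrr_isCharacter hχ.1)).trans (by rw [show charDegree χ = 1 from h6, Nat.cast_one])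
    · exact absurd hχ.2 (by rw [show charDegree χ = 2 from h6]; decide)
  have tr : ∀ (f : A →* ℂˣ) u, IsSquare u → f (τ u) = 1 := by
    rintro f _ ⟨u, rfl⟩
    have h5 := congrArg f (h2 u)
    rw [map_mul, map_mul, mul_comm, mul_left_inj, map_inv, map_inv, eq_inv_iff_mul_eq_one] at h5
    rw [map_mul, map_mul, h5]
  refine ⟨mem_center_iff.2 fun a => ?_, fun χ hχ => ?_, ?_, ?_⟩
  · refine mul_inv_eq_iff_eq_mul.1 ((cj a ν).elim id fun h => ?_)
    rwa [inv_eq_of_mul_eq_one_right hν] at h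
  · obtain ⟨f, rfl⟩ := lin χ hχ
    exact ⟨by simp, by rw [← Units.val_mul, ← map_mul, ← map_mul, hν, map_one, map_one, Units.val_one]⟩
  · rw [show 4 = 2 ^ 2 from rfl, ← kk_index _ iK (IsPGroup.isMulCommutative_of_card_eq_prime_sq iK), kk_top, k0_eq_of]
    rintro χ hχ _ ⟨u, hu, rfl⟩
    obtain ⟨f, rfl⟩ := lin χ hχ
    simp [tr f u ((sq u).1 hu)]
  · have := isCyclic_of_prime_card (α := A ⧸ τ.range) (p := 2) iL
    rw [← pow_one 2, ← kk_index τ.range iL inferInstance, kk_top]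
    refine Nat.card_congr ((subtypeSubtypeEquivSubtypeInter _ fun χ : A → ℂ => χ (τ ν) = 1).trans
      (subtypeEquivRight fun χ => and_congr_right fun hχ => ?_))
    obtain ⟨f, rfl⟩ := lin χ hχ
    simp only [map_one, Units.val_one, Pi.one_apply, mul_one, Units.val_eq_one]
    refine ⟨?_, fun h => h _ ⟨ν, rfl⟩⟩
    rintro h _ ⟨u, rfl⟩
    refine (h4 u).elim (fun h5 => ?_) (tr f u)
    have h6 := tr f _ h5
    rwa [map_mul, map_mul, h, mul_one] at h6

end dic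

section sl2

variable {F : Type} [Field F]

theorem wel_mul_wel : (wel : S2 F) * wel = ng F := by
  refine ext4 ?_ ?_ ?_ ?_ <;> simp [mul00, mul01, mul10, mul11, wel00, wel01, wel10, wel11, tor00, tor01, tor10, tor11]

/-- the monomial subgroup -/
def N1 (F : Type) [Field F] : Subgroup (S2 F) where
  carrier := {s | ∃ u, s = tor u ∨ s = tor u * wel}
  one_mem' := ⟨1, Or.inl (map_one _).symm⟩
  mul_mem' := by
    rintro _ _ ⟨u, rfl | rfl⟩ ⟨v, rfl | rfl⟩
    · exact ⟨u * v, Or.inl (map_mul _ _ _).symm⟩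
    · exact ⟨u * v, Or.inr (by rw [map_mul, mul_assoc])⟩
    · exact ⟨u * v⁻¹, Or.inr (by rw [mul_assoc, wel_mul_tor, map_mul, mul_assoc])⟩
    · exact ⟨u * (v⁻¹ * -1), Or.inl (by
        rw [mul_assoc, ← mul_assoc wel, wel_mul_tor, mul_assoc, wel_mul_wel, map_mul, map_mul])⟩
  inv_mem' := by
    rintro _ ⟨u, rfl | rfl⟩
    · exact ⟨u⁻¹, Or.inl (map_inv _ _).symm⟩
    · refine ⟨-u, Or.inr (inv_eq_of_mul_eq_one_right ?_)⟩
      rw [mul_assoc, ← mul_assoc wel, wel_mul_tor, mul_assoc, wel_mul_wel, ← map_mul, ← map_mul]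
      simp

theorem tor_mem (u : Fˣ) : tor u ∈ N1 F := ⟨u, Or.inl rfl⟩

theorem wel_mem : wel ∈ N1 F := ⟨1, Or.inr (by rw [map_one, one_mul])⟩

theorem x_not_mem : x 1 ∉ N1 F := by
  rintro ⟨u, h | h⟩
  · exact one_ne_zero (congrArg e01 h)
  · have h1 := congrArg e00 h
    rw [mul00, x00, wel00, tor01, mul_zero, zero_mul, add_zero] at h1
    exact one_ne_zero h1

/-- `-1` -/
def z1 (F : Type) [Field F] : N1 F := ⟨ng F, tor_mem _⟩

theorem sq_cases [Fintype F] {a b : Fˣ} (ha : ¬ IsSquare a) (hb : ¬ IsSquare b) :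
    IsSquare (a * b) := by
  classical
  have h : ∀ u : Fˣ, IsSquare u ↔ IsSquare (u : F) := fun u => ⟨fun h => h.map (Units.coeHom F), fun ⟨r, hr⟩ =>
    ⟨Units.mk0 r fun e => u.ne_zero (by rw [hr, e, mul_zero]), Units.ext hr⟩⟩
  rw [h] at ha hb ⊢
  rw [← quadraticChar_one_iff_isSquare (Units.ne_zero _), Units.val_mul, map_mul,
    quadraticChar_neg_one_iff_not_isSquare.2 ha, quadraticChar_neg_one_iff_not_isSquare.2 hb]
  rfl

theorem q4 [Fintype F] (h4 : Fintype.card F % 4 = 3) : Q4 (z1 F) := by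
  have h1 : ¬ IsSquare (-1 : Fˣ) := fun h => FiniteField.isSquare_neg_one_iff.1 (by simpa using h.map (Units.coeHom F)) h4
  refine q4_of (tor.codRestrict (N1 F) tor_mem) (fun a b h => tor_inj (congrArg Subtype.val h)) (w := ⟨wel, wel_mem⟩)
    (ν := -1) (fun ⟨u, hu⟩ => ?_) ?_ (fun u => Subtype.ext (wel_mul_tor u)) (by simp) h1 fun u => ?_
  · exact zero_ne_one (congrArg (fun s : N1 F => e01 s.1) hu)
  · rintro ⟨_, u, rfl | rfl⟩
    · exact Or.inr ⟨u, rfl⟩
    · exact Or.inl ⟨u * -1, Subtype.ext (by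
        show tor _ = tor u * wel * wel
        rw [mul_assoc, wel_mul_wel, map_mul])⟩
  · by_cases h : IsSquare u
    exacts [Or.inr h, Or.inl (sq_cases h h1)]

end sl2

section fam

variable {ι S S' : Type}

theorem iv_congr (T : Subgroup (Perm ι)) (e : S ≃ S') :
    Nat.card {μ : ι → S // Iv T μ} = Nat.card {μ : ι → S' // Iv T μ} :=
  Nat.card_congr (subtypeEquiv (arrowCongr (Equiv.refl ι) e) fun _ =>
    forall_congr' fun _ => forall_congr' fun _ => forall_congr' fun _ => e.apply_eq_iff_eq.symm)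

theorem iv_snoc {m : ℕ} (T : Subgroup (Perm (Fin m))) (p : S → Prop) :
    Nat.card {μ : Fin (m + 1) → S // Iv (T.map (eP m)) μ ∧ p (μ (Fin.last m))} =
      Nat.card {μ : Fin m → S // Iv T μ} * Nat.card {s // p s} := by
  rw [← Nat.card_prod]
  refine Nat.card_congr ⟨fun μ => (⟨fun i => μ.1 i.castSucc, fun t ht i => ?_⟩, ⟨_, μ.2.2⟩),
    fun y => ⟨Fin.lastCases y.2.1 y.1.1, ?_, ?_⟩, fun μ => Subtype.ext (funext fun i => ?_), fun y => ?_⟩
  · exact (congrArg μ.1 (eP_cast t i)).symm.trans (μ.2.1 _ ⟨t, ht, rfl⟩ _)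
  · rintro _ ⟨t, ht, rfl⟩ i
    induction i using Fin.lastCases with
    | last => rw [eP_last]
    | cast i => simp only [eP_cast, Fin.lastCases_castSucc, y.1.2 t ht i]
  · simpa only [Fin.lastCases_last] using y.2.2
  · induction i using Fin.lastCases <;> simp
  · exact Prod.ext (Subtype.ext (funext fun i => by simp)) (Subtype.ext (by simp))

end fam

/-- `T` contains an involution without fixed points -/
def Fr {ι : Type} (T : Subgroup (Perm ι)) : Prop := ∃ τ ∈ T, (∀ i, τ (τ i) = i) ∧ ∀ i, τ i ≠ i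

section cnt

variable {A ι : Type} [Group A] [Finite A] [Fintype ι] {z : A} (q : Q4 z) {T : Subgroup (Perm ι)}

include q

theorem Q4.equiv : Nonempty ({χ : A → ℂ // OI A χ} ≃ Fin 4) :=
  haveI := finite_oi' (G := A)
  ⟨Finite.equivFinOfCardEq q.four⟩

theorem Q4.prod (hT : Fr T) {θ : ι → {χ : A → ℂ // OI A χ}} (h : Iv T θ) : ∏ i, (θ i).1 z = 1 := by
  obtain ⟨τ, hτ, h1, h2⟩ := hT
  exact Finset.prod_involution (fun i _ => τ i) (fun i _ => by rw [h τ hτ, (q.one _ (θ i).2).2]) (fun i _ _ => h2 i)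
    (fun _ _ => Finset.mem_univ _) fun i _ => h1 i

theorem Q4.prod_one (θ : ι → {χ : A → ℂ // OI A χ}) : ∏ i, (θ i).1 1 = 1 :=
  Finset.prod_eq_one fun i _ => (q.one _ (θ i).2).1

theorem kw_even (h2 : W2) (hT : IsPGroup 2 T) (hf : Fr T) : kw z T = c4 T := by
  obtain ⟨e⟩ := q.equiv
  rw [h2 A ι z T hT, c4, ← iv_congr T e]
  exact congrArg (· * ab T) (Nat.card_congr (subtypeEquivRight fun θ =>
    and_iff_left_of_imp fun h => by rw [q.prod hf h, q.prod_one]))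

theorem kw_odd (h2 : W2) {m : ℕ} {T : Subgroup (Perm (Fin m))} (hT : IsPGroup 2 T) (hf : Fr T) :
    kw z (T.map (eP m)) + 2 * kw z T = c4 (T.map (eP m)) := by
  obtain ⟨e⟩ := q.equiv
  have h3 := iv_snoc T fun _ : Fin 4 => True
  have h4 := iv_snoc T fun χ : {χ : A → ℂ // OI A χ} => χ.1 z = 1
  simp only [and_true] at h3
  rw [Nat.card_congr (subtypeUnivEquiv fun _ => trivial), Nat.card_fin] at h3
  rw [kw_even q h2 hT hf, h2 A _ z _ (hT.map _), c4, c4, h3, ← ab_congr (equivMapOfInjective T _ (eP_injective m)),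
    Nat.card_congr (subtypeEquivRight (q := fun θ => Iv (T.map (eP m)) θ ∧ (θ (Fin.last m)).1 z = 1) fun θ =>
      and_congr_right fun h => ?_), h4, q.two, iv_congr T e]
  · ring
  · rw [q.prod_one, Fin.prod_univ_castSucc, q.prod hf (θ := fun i => θ i.castSucc) fun t ht i =>
      (congrArg θ (eP_cast t i)).symm.trans (h _ ⟨t, ht, rfl⟩ _), one_mul]

end cnt

theorem rev_ne {m : ℕ} (hm : Even m) (i : Fin m) : i.rev ≠ i := fun h => by
  have h1 := congrArg Fin.val h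
  have := i.2
  obtain ⟨r, hr⟩ := hm
  rw [Fin.val_rev] at h1
  omega

theorem exists_even {m : ℕ} (hm : Even m) : ∃ T : Sylow 2 (Perm (Fin m)), Fr (T : Subgroup (Perm (Fin m))) := by
  have h1 : (Fin.revPerm : Perm (Fin m)) * Fin.revPerm = 1 := Equiv.ext Fin.rev_rev
  obtain ⟨T, hT⟩ := IsPGroup.exists_le_sylow (p := 2) (P := zpowers (Fin.revPerm : Perm (Fin m))) fun a => ⟨1, Subtype.ext (by
    rcases (mem_zp2 h1).1 a.2 with h | h <;> simp [h, pow_two, h1])⟩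
  exact ⟨T, _, hT (mem_zpowers _), Fin.rev_rev, rev_ne hm⟩

theorem exists_odd {m : ℕ} (hm : Even m) (T : Sylow 2 (Perm (Fin m))) :
    ∃ T' : Sylow 2 (Perm (Fin (m + 1))), (T' : Subgroup _) = (T : Subgroup _).map (eP m) := by
  have := two_prime
  refine exists_sylow (T.isPGroup'.map _) ?_
  have h1 := (eP m).range.card_mul_index
  rw [← Nat.card_congr (MonoidHom.ofInjective (eP_injective m)).toEquiv, Nat.card_perm, Nat.card_perm, Nat.card_fin,
    Nat.card_fin, Nat.factorial_succ, mul_comm, Nat.mul_left_inj (Nat.factorial_ne_zero m)] at h1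
  rw [index_map_of_injective _ (eP_injective m), h1]
  exact (Nat.not_even_iff_odd.1 fun h => T.not_dvd_index (even_iff_two_dvd.1 h)).mul hm.add_one

end Cfsg.Agent.MK.P

private theorem dce_458b7997f88e : _root_.True := by
  try have : _root_.True := by simp only [_root_.Cfsg.Agent.MK.P.c4.eq_1]
  exact _root_.True.intro
end

-- part: MK/P/GD2
section
prune_inst 0x4000220502620200001c001220205ed7970000b2004c04018cc4004004c08e48288100603450111812108c55003d000000000030402000000a0008000b180080080302029248a10ca40018000000010000000000000000000000000000000000004010000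
set_option linter.all false
open scoped Cfsg.Agent.FastGrp

/-!
# MK-P: the monomial group of `PSp_{2k}(F)` (helper36)

* `sg1`, `dg` : elements of the base group; `jN k` : the monomial group; `NN_eq`, `N2_eq`, `sw`;
* `av_fld` : the field automorphisms fix the data.
-/

set_option autoImplicit false
set_option linter.unusedSectionVars false

namespace Cfsg.Agent.MK.P

open Cfsg Subgroup Equiv Cfsg.Agent.MK.T Cfsg.Agent.ODD Cfsg.Agent.ODD.PS.C3 Cfsg.Agent.ODD.C3 Cfsg.Agent.H670.SL2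
open CoxeterSystem Cfsg.Agent.ChevalleyStructure.CoxeterGeom Cfsg.Agent.Tits.Roots Cfsg.Agent.Tits.Core
  Cfsg.Agent.Nodes.Reps Cfsg.Agent.Nodes.BNOf
open Cfsg.Agent.ClassicalGeometry.SympBasic Cfsg.Agent.ClassicalGeometry.SympGamma Cfsg.Agent.TitsThree
  Cfsg.Agent.TitsThree.WittWeyl Cfsg.Agent.TitsThree.SpIdent Cfsg.Agent.Nodes Cfsg.Agent.Nodes.WittRoot
  Cfsg.Agent.Nodes.WittRGD
open SemidirectProduct (inl inr)

section gen

variable {I W Y : Type} [Fintype I] [DecidableEq I] [Group W] [Finite W] [Group Y] [Fintype Y]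
  {M : CoxeterMatrix I} {cs : CoxeterSystem M W} {A : I → I → ℤ} {h : IsCartan M A} {p : ℕ} {T : Subgroup Y}
  {n : I → Y} {X : (I → ℤ) → Subgroup Y} {R : RGD cs h p T n X} {F : Type} [Field F] [Fintype F] {l : I}
  {Φ : S2 F →* Y} {AT : I → I → ℤ} {hT : IsCartan M AT} {J W' : Type} [Fintype J] [DecidableEq J] [Group W']
  {M' : CoxeterMatrix J} {cs' : CoxeterSystem M' W'} {A' : J → J → ℤ} {h' : IsCartan M' A'} {β : J → I → ℤ}
  {w : J → W} {i : J → I} {g : J → Y}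

theorem mem_N2 (G : PS.C3.Gd R hT l Φ cs' h' β w i g) {y : Y} : y ∈ N2 G ↔ y ∈ NN cs R.nsys ∧ y ∈ CS Φ := by
  refine ⟨fun ⟨a, ha⟩ => ha ▸ ⟨⟨_, a.2.1⟩, a.2.2⟩, fun ⟨⟨v, hv⟩, hc⟩ => ?_⟩
  have h1 : ∀ u ∈ X (sr l), y * u * y⁻¹ = u := fun u hu => by
    obtain ⟨s, rfl⟩ := (G.nd.mem u).1 hu
    rw [← PS.C3.mem_CS.1 hc, mul_inv_cancel_right]
  have h4 : X (rep cs h v (sr l)) ≤ X (sr l) := fun u hu => by
    have h2 := R.conj_mem' hv ((isRoot_sr cs h l).act v) hu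
    rw [rep_inv_apply] at h2
    have h3 := h1 _ h2
    rwa [← h3, show y * (y⁻¹ * u * y) * y⁻¹ = u by group] at h2
  obtain ⟨u, rfl⟩ := G.sb.stab v (OppDec.X_injective R ((isRoot_sr cs h l).act v) (isRoot_sr cs h l)
    (le_antisymm h4 fun u hu => h1 u hu ▸ R.conj_mem hv (isRoot_sr cs h l) hu))
  exact ⟨⟨(u, y), hv, hc⟩, rfl⟩

end gen

section wr

variable {A ι : Type} [Group A] [DecidableEq ι]

/-- the element `s` at the place `l` -/
def sg1 (l : ι) : A →* Wr A ι := inl.comp (MonoidHom.mulSingle (fun _ => A) l)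

theorem sg1_self (l : ι) (s : A) : (sg1 l s).left l = s := Pi.mulSingle_eq_same _ _

theorem sg1_ne {l i : ι} (h : i ≠ l) (s : A) : (sg1 l s).left i = 1 := Pi.mulSingle_eq_of_ne h _

theorem sg1_right (l : ι) (s : A) : (sg1 l s).right = 1 := rfl

theorem mul_sg1 (w : Wr A ι) (l : ι) (s : A) :
    w * sg1 l s = sg1 (w.right l) (w.left (w.right l) * s * (w.left (w.right l))⁻¹) * w := by
  refine SemidirectProduct.ext (funext fun i => ?_) (by simp only [sg1_right, _root_.SemidirectProduct.mul_right, _root_.mul_one, _root_.map_mul, _root_.map_inv, _root_.SemidirectProduct.inv_right, _root_.inv_one, _root_.one_mul])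
  rw [mul_left, mul_left, sg1_right, inv_one, Perm.one_apply]
  by_cases h : i = w.right l
  · rw [h, Perm.inv_def, symm_apply_apply, sg1_self, sg1_self, inv_mul_cancel_right]
  · rw [sg1_ne h, sg1_ne fun e => h (by rw [← e, Perm.inv_def, apply_symm_apply]), one_mul, mul_one]

end wr

variable {F : Type} [Field F] {k : ℕ}

local notation "TT" => WittModel.T (KInstSp.model k F)

theorem jI_sg1 (l : Fin k) (s : S2 F) : jI k (sg1 l s) = P0 l s := by
  refine Subtype.ext (ext_b fun ⟨i, b⟩ => ?_)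
  by_cases h : i = l
  · subst h
    cases b
    · rw [P0_f, jI_apply, frame_b_false, jv_f, sg1_right, Perm.one_apply, sg1_self, frame_b_true]
    · rw [P0_e, jI_apply, frame_b_true, jv_e, sg1_right, Perm.one_apply, sg1_self, frame_b_false]
  · rw [P0_ne l s h, jI_apply]
    cases b
    · rw [frame_b_false, jv_f, sg1_right, Perm.one_apply, sg1_ne h]
      exact (congrArg₂ _ (zero_smul _ _) (one_smul _ _)).trans (zero_add _)
    · rw [frame_b_true, jv_e, sg1_right, Perm.one_apply, sg1_ne h]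
      exact (congrArg₂ _ (one_smul _ _) (zero_smul _ _)).trans (add_zero _)

theorem Phi_eq (l : Fin k) (s : S2 F) : Phi l s = jP k (sg1 l s) := congrArg toPSp (jI_sg1 l s).symm

/-- the diagonal elements -/
def dg (a : Fin k → Fˣ) : Wr (S2 F) (Fin k) := inl fun i => tor (a i)

theorem ev_dg (a : Fin k → Fˣ) : PW.Ev (frame k F) (jI k (dg a)).1 fun z => if z.2 then a z.1 else (a z.1)⁻¹ := by
  rintro ⟨i, b⟩
  rw [jI_apply]
  cases b
  · exact (jv_f _ i).trans ((congrArg (· + _) (zero_smul _ _)).trans (zero_add _))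
  · exact (jv_e _ i).trans ((congrArg (_ + ·) (zero_smul _ _)).trans (add_zero _))

theorem mem_TT {t : PSp k F} : t ∈ TT ↔ ∃ a, jP k (dg a) = t := by
  refine ⟨?_, ?_⟩
  · rintro ⟨t, ht, rfl⟩
    obtain ⟨l, hl⟩ := PW.exists_ev (show Mono (frame k F) t.1 id from ht.2)
    refine ⟨fun i => l (i, true), congrArg toPSp (Subtype.ext (ev_ext (ev_dg _) hl fun ⟨i, b⟩ => ?_))⟩
    cases b
    · exact (hl.opp (fun _ => rfl) t.2 (i, true)).symm
    · rfl
  · rintro ⟨a, rfl⟩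
    exact mem_map_of_mem _ (mem_subgroupOf.2 ⟨(jI k (dg a)).2, (ev_dg a).mono⟩)

theorem mono_inr (π : Perm (Fin k)) : Mono (frame k F) (jI k (inr π)).1 fun z => (π z.1, z.2) := by
  rintro ⟨i, b⟩
  refine ⟨1, one_ne_zero, ?_⟩
  rw [jI_apply]
  cases b
  · exact (jv_f _ i).trans ((congrArg (· + _) (zero_smul _ _)).trans (zero_add _))
  · exact (jv_e _ i).trans ((congrArg (_ + ·) (zero_smul _ _)).trans (add_zero _))

/-- the monomial group -/
noncomputable def jN (k : ℕ) (F : Type) [Field F] : Wr (N1 F) (Fin k) →* PSp k F :=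
  (jP k).comp (mapW (Fin k) (N1 F).subtype)

theorem mem_jN {y : PSp k F} : y ∈ (jN k F).range ↔ ∃ w : Wr (S2 F) (Fin k), (∀ i, w.left i ∈ N1 F) ∧ jP k w = y :=
  ⟨fun ⟨w, h⟩ => ⟨_, fun i => (w.left i).2, h⟩, fun ⟨w, h1, h⟩ => ⟨⟨fun i => ⟨_, h1 i⟩, w.right⟩, h⟩⟩

theorem jP_eq {v w : Wr (S2 F) (Fin k)} : jP k v = jP k w ↔ v = w ∨ v = w * dz (Fin k) (ng F) := by
  rw [← inv_mul_eq_one, ← map_inv, ← map_mul, jP_eq_one, ← inv_mem_iff, mul_inv_rev, inv_inv,
    mem_zp2 (SemidirectProduct.ext ((by exact funext fun _ => ng_mul_ng)) (mul_one _)), inv_mul_eq_one, inv_mul_eq_iff_eq_mul, eq_comm]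

theorem mul_dz (w : Wr (S2 F) (Fin k)) (i : Fin k) : (w * dz (Fin k) (ng F)).left i = w.left i * ng F := rfl

theorem jN_eq_one {w : Wr (N1 F) (Fin k)} : jN k F w = 1 ↔ w ∈ zpowers (dz (Fin k) (z1 F)) := by
  rw [jN, MonoidHom.comp_apply, jP_eq_one, ← mem_map_iff_mem (mapW_injective (N1 F).subtype_injective),
    MonoidHom.map_zpowers]
  rfl

theorem jN_ne (l : Fin k) : (jN k F).range ≠ ⊤ := fun h => by
  obtain ⟨w, h1, h2⟩ := mem_jN.1 (h ▸ mem_top (jP k (sg1 l (x 1))))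
  have h3 := h1 l
  rcases jP_eq.1 h2 with rfl | rfl
  · exact x_not_mem (sg1_self l (x (1 : F)) ▸ h3)
  · rw [mul_dz, sg1_self, mul_mem_cancel_right (tor_mem _)] at h3
    exact x_not_mem h3

theorem ng_ne (h2 : (2 : F) ≠ 0) : ng F ≠ 1 := fun h => h2 (by
  have h1 : ((-1 : Fˣ) : F) = 1 := congrArg e00 h
  rw [Units.val_neg, Units.val_one] at h1
  linear_combination -h1)

theorem Phi_injective (h2 : (2 : F) ≠ 0) {l i : Fin k} (h : i ≠ l) : Function.Injective (Phi (F := F) l) :=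
  (injective_iff_map_eq_one _).2 fun s hs => by
    rcases jP_eq.1 ((Phi_eq l s).symm.trans (hs.trans (map_one _).symm)) with e | e
    · rw [← sg1_self l s, e]
      rfl
    · have h1 := congrFun (congrArg SemidirectProduct.left e) i
      rw [sg1_ne h, one_mul] at h1
      exact absurd h1.symm (ng_ne h2)

section rgd

variable [Fintype F] (p : ℕ) [Fact p.Prime] [CharP F p] {W : Type} [Group W] [Finite W]

theorem rp_swap (cs : CoxeterSystem (CoxeterMatrix.B k) W) {i : Fin k} (hi : (i : ℕ) + 1 < k) :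
    Rp cs (rgdS k F p cs).nsys (cs.simple i) (jP k (inr (swap i ⟨i + 1, hi⟩))) := by
  have h1 := tor_of_mono WittU.amb_Sp (jI k (inr (swap i ⟨i + 1, hi⟩))).2 (nn_mem WittU.amb_Sp (adm (1 : F)) i)
    ((mono_inr _).congr fun ⟨j, s⟩ => by
      by_cases h2 : j = i
      · rw [h2, TypeC.sg_up hi, swap_apply_left]
      by_cases h3 : j = ⟨i + 1, hi⟩
      · rw [h3, TypeC.sg_down hi, swap_apply_right]
      · rw [TypeC.sg_of_ne h2 fun h => h3 (Fin.ext h), swap_apply_of_ne_of_ne h2 h3])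
    (mono_nn (p0 := adm 1) one_ne_zero i)
  have h2 := (rp_of_mem (cs := cs) (hN := (rgdS k F p cs).nsys) ((PW.mem_T (φ := toPSp) h1 :))).mul
    (rp_simple cs (rgdS k F p cs).nsys i)
  rw [one_mul] at h2
  convert h2 using 1
  rw [nS, jP_apply]
  erw [← map_mul]
  exact congrArg toPSp (Subtype.ext (inv_mul_cancel_right _ _).symm)

theorem rp_ex (cs : CoxeterSystem (CoxeterMatrix.B k) W) (i : Fin k) : ∃ w : Wr (S2 F) (Fin k),
    (∀ j, w.left j = 1 ∨ w.left j = wel) ∧ Rp cs (rgdS k F p cs).nsys (cs.simple i) (jP k w) := by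
  by_cases hi : (i : ℕ) + 1 < k
  · exact ⟨_, fun _ => Or.inl rfl, rp_swap p cs hi⟩
  · refine ⟨sg1 i wel, fun j => ?_, Phi_eq i (wel : S2 F) ▸ rp_wel p cs hi⟩
    by_cases h : j = i
    exacts [Or.inr (h ▸ sg1_self _ _), Or.inl (sg1_ne h _)]

variable {m : ℕ} (cs : CoxeterSystem (CoxeterMatrix.B (m + 1)) W)

theorem NN_eq : NN cs (rgdS (m + 1) F p cs).nsys = (jN (m + 1) F).range := by
  have hT : ∀ t ∈ WittModel.T (KInstSp.model (m + 1) F), t ∈ (jN (m + 1) F).range := fun t ht => by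
    obtain ⟨a, rfl⟩ := mem_TT.1 ht
    exact mem_jN.2 ⟨_, fun i => tor_mem _, rfl⟩
  refine le_antisymm ?_ ?_
  · rintro y ⟨v, hv⟩
    induction v using cs.simple_induction_right generalizing y with
    | one => exact hT _ hv.mem_of_one
    | mul_simple_right v i ih =>
      obtain ⟨w, h1, h2⟩ := rp_ex (F := F) p cs i
      have h3 := hv.mul h2.inv
      rw [mul_inv_cancel_right] at h3
      exact (mul_mem_cancel_right (inv_mem (mem_jN.2 ⟨w, fun j => (h1 j).elim (· ▸ one_mem _) (· ▸ wel_mem), rfl⟩))).1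
        (ih h3)
  · intro y hy
    obtain ⟨w, h1, rfl⟩ := mem_jN.1 hy
    have h2 : ∀ π : Perm (Fin (m + 1)), jP (m + 1) (inr π) ∈ NN cs (rgdS (m + 1) F p cs).nsys := fun π => by
      have h3 : π ∈ Submonoid.closure (Set.range fun i : Fin m => swap i.castSucc i.succ) :=
        Perm.mclosure_swap_castSucc_succ m ▸ Submonoid.mem_top π
      induction h3 using Submonoid.closure_induction with
      | mem _ h =>
        obtain ⟨i, rfl⟩ := h
        exact ⟨_, rp_swap p cs (i := i.castSucc) (by simp)⟩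
      | one => rw [map_one, map_one]; exact one_mem _
      | mul _ _ _ _ h4 h5 => rw [map_mul, map_mul]; exact mul_mem h4 h5
    rw [← w.inl_left_mul_inr_right, map_mul]
    refine mul_mem (pi_mem_of_mulSingle_mem (H := (NN cs (rgdS (m + 1) F p cs).nsys).comap ((jP (m + 1)).comp inl)) _
      fun i => ?_) (h2 _)
    have h3 : Phi (Fin.last m) (w.left i) ∈ NN cs (rgdS (m + 1) F p cs).nsys := by
      obtain ⟨u, h | h⟩ := h1 i <;> rw [h]
      · exact ⟨1, rp_of_mem (Phi_tor_mem _ u)⟩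
      · rw [map_mul]
        exact ⟨_, (rp_of_mem (Phi_tor_mem _ u)).mul (rp_wel p cs (by simp))⟩
    have h4 := mul_sg1 (inr (swap (Fin.last m) i)) (Fin.last m) (w.left i)
    rw [SemidirectProduct.right_inr, swap_apply_left, SemidirectProduct.left_inr, Pi.one_apply, one_mul, inv_one,
      mul_one] at h4
    have h5 := mul_mem (h2 (swap (Fin.last m) i)) h3
    rwa [Phi_eq, ← map_mul, h4, map_mul, mul_mem_cancel_right (h2 _)] at h5

end rgd

theorem mem_cs {Y : Type} [Group Y] {Φ : S2 F →* Y} {y : Y} : y ∈ CS Φ ↔ ∀ s, Φ s * y = y * Φ s :=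
  ⟨fun h s => h _ ⟨s, rfl⟩, by rintro h _ ⟨s, rfl⟩; exact h s⟩

theorem emb_cs {m : ℕ} (w : Wr (S2 F) (Fin m)) : jP (m + 1) (emb _ m w) ∈ CS (Phi (F := F) (Fin.last m)) :=
  mem_cs.2 fun s => by
    rw [Phi_eq, ← map_mul, ← map_mul, mul_sg1, emb_right, eP_last, emb_last, one_mul, inv_one, mul_one]

theorem exists_emb {A : Type} [Group A] {m : ℕ} {w : Wr A (Fin (m + 1))} (h1 : w.right (Fin.last m) = Fin.last m)
    (h2 : w.left (Fin.last m) = 1) : ∃ v, emb A m v = w := by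
  have h3 : ∀ i : Fin m, w.right i.castSucc ≠ Fin.last m := fun i h =>
    (Fin.castSucc_lt_last i).ne (w.right.injective (h.trans h1.symm))
  refine ⟨⟨fun i => w.left i.castSucc, Equiv.ofBijective (fun i => (w.right i.castSucc).castPred (h3 i))
    (Finite.injective_iff_bijective.1 fun i j h => Fin.castSucc_injective _ (w.right.injective
      (Fin.castPred_inj.1 h)))⟩, SemidirectProduct.ext (funext fun i => ?_) (Equiv.ext fun i => ?_)⟩
  · induction i using Fin.lastCases with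
    | last => rw [emb_last, h2]
    | cast i => rw [emb_cast]
  · induction i using Fin.lastCases with
    | last => rw [emb_right, eP_last, h1]
    | cast i => rw [emb_right, eP_cast]; rfl

theorem cs_cases [Fintype F] (h2 : (2 : F) ≠ 0) {l i : Fin k} (hi : i ≠ l) {w : Wr (S2 F) (Fin k)}
    (h : jP k w ∈ CS (Phi (F := F) l)) : w.right l = l ∧ (w.left l = 1 ∨ w.left l = ng F) := by
  have key : ∀ s : S2 F, s ≠ 1 → s ≠ ng F → w.right l = l ∧ w.left l * s * (w.left l)⁻¹ = s := fun s h3 h4 => by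
    have h5 := mem_cs.1 h s
    rw [Phi_eq, ← map_mul, ← map_mul, mul_sg1, map_mul, map_mul, mul_left_inj] at h5
    rcases jP_eq.1 h5 with e | e
    · have h6 := congrFun (congrArg SemidirectProduct.left e) l
      rw [sg1_self] at h6
      by_cases h7 : l = w.right l
      · rw [← h7, sg1_self] at h6
        exact ⟨h7.symm, h6.symm⟩
      · exact absurd (h6.trans (sg1_ne h7 _)) h3
    · by_cases h7 : l = w.right l
      · have h6 := congrFun (congrArg SemidirectProduct.left e) i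
        rw [mul_dz, ← h7, sg1_ne hi, sg1_ne hi, one_mul] at h6
        exact absurd h6.symm (ng_ne h2)
      · have h6 := congrFun (congrArg SemidirectProduct.left e) l
        rw [mul_dz, sg1_self, sg1_ne h7, one_mul] at h6
        exact absurd h6 h4
  refine ⟨(key (x 1) (fun e => x_not_mem (e ▸ one_mem _)) fun e => x_not_mem ⟨-1, Or.inl e⟩).1,
    center_S2 (mem_center_iff.2 fun s => ?_)⟩
  by_cases h3 : s = 1
  · rw [h3, one_mul, mul_one]
  by_cases h4 : s = ng F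
  · rw [h4, mem_center_iff.1 ng_mem]
  · exact (mul_inv_eq_iff_eq_mul.1 (key s h3 h4).2).symm

theorem range_emb [Fintype F] (h2 : (2 : F) ≠ 0) {m : ℕ} (i : Fin m) {y : PSp (m + 1) F} :
    y ∈ ((jN (m + 1) F).comp (emb _ m)).range ↔ y ∈ (jN (m + 1) F).range ∧ y ∈ CS (Phi (F := F) (Fin.last m)) := by
  refine ⟨?_, ?_⟩
  · rintro ⟨w, rfl⟩
    refine ⟨⟨_, rfl⟩, ?_⟩
    convert emb_cs (mapW _ (N1 F).subtype w) using 1
    refine congrArg (jP (m + 1)) (SemidirectProduct.ext (funext fun j => ?_) rfl)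
    induction j using Fin.lastCases with
    | last => rw [mapW_left, emb_last, emb_last, map_one]
    | cast j => rw [mapW_left, emb_cast, emb_cast, mapW_left]
  · rintro ⟨⟨w, rfl⟩, h⟩
    obtain ⟨h3, h4 | h4⟩ := cs_cases h2 (Fin.castSucc_lt_last i).ne h
    · obtain ⟨v, rfl⟩ := exists_emb (w := w) h3 (Subtype.ext h4)
      exact ⟨v, rfl⟩
    · obtain ⟨v, hv⟩ := exists_emb (w := w * dz _ (z1 F)) ((DFunLike.congr_fun (mul_one w.right) _).trans h3)
        (Subtype.ext ((congrArg (· * ng F) h4).trans ng_mul_ng))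
      exact ⟨v, by rw [MonoidHom.comp_apply, hv, map_mul, jN_eq_one.2 (mem_zpowers _), mul_one]⟩

theorem emb_mem (h2 : (2 : F) ≠ 0) {m : ℕ} (w : Wr (N1 F) (Fin m)) :
    jN (m + 1) F (emb _ m w) ∈ zpowers (Phi (Fin.last m) (ng F)) ↔ w ∈ zpowers (dz (Fin m) (z1 F)) := by
  have hz : z1 F * z1 F = 1 := Subtype.ext ng_mul_ng
  have h0 : ∀ n, dz (Fin n) (z1 F) * dz (Fin n) (z1 F) = 1 := fun n =>
    SemidirectProduct.ext (funext fun _ => hz) (mul_one _)
  have h1 : ∀ v : Wr (N1 F) (Fin m), jN (m + 1) F (emb _ m v) = 1 → v = 1 := fun v h => by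
    rcases (mem_zp2 (h0 _)).1 (jN_eq_one.1 h) with e | e
    · refine SemidirectProduct.ext (funext fun j => ?_) (eP_injective m ?_)
      · rw [← emb_cast, e]
        rfl
      · rw [← emb_right, e]
        exact (map_one _).symm
    · exact absurd (congrArg Subtype.val ((emb_last v).symm.trans (congrFun (congrArg SemidirectProduct.left e) _))).symm
        (ng_ne h2)
  have h3 : jN (m + 1) F (emb _ m (dz _ (z1 F))) = Phi (Fin.last m) (ng F) := by
    rw [Phi_eq]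
    refine jP_eq.2 (Or.inr (SemidirectProduct.ext (funext fun j => ?_) ((map_one (eP m)).trans (mul_one _).symm)))
    induction j using Fin.lastCases with
    | last => rw [mapW_left, emb_last, mul_dz, sg1_self, ng_mul_ng, map_one]
    | cast j => rw [mapW_left, emb_cast, mul_dz, sg1_ne (Fin.castSucc_lt_last j).ne, one_mul]; rfl
  rw [← h3, ← MonoidHom.comp_apply, ← MonoidHom.comp_apply, ← MonoidHom.map_zpowers,
    mem_map_iff_mem ((injective_iff_map_eq_one _).2 h1)]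

theorem sw [Fintype F] (p : ℕ) [Fact p.Prime] [CharP F p] {W : Type} [Group W] [Finite W] {m : ℕ}
    (cs : CoxeterSystem (CoxeterMatrix.B (m + 1)) W) [Fintype (PSp (m + 1) F)] (hm : Even m) :
    Sw (rgdS (m + 1) F p cs) (Phi (F := F) (Fin.last m)) := by
  have h1 : emb (S2 F) m (inr Fin.revPerm) * emb (S2 F) m (inr Fin.revPerm) = 1 := by
    rw [← map_mul, ← map_mul, show (Fin.revPerm : Perm (Fin m)) * Fin.revPerm = 1 from Equiv.ext Fin.rev_rev, map_one,
      map_one]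
  let a : Fin m → Fˣ := fun i => if i < i.rev then -1 else 1
  have h2 : dg (Fin.lastCases 1 a) = emb (S2 F) m (dg a) := SemidirectProduct.ext (funext fun j => by
    induction j using Fin.lastCases with
    | last => rw [emb_last, dg, SemidirectProduct.left_inl, Fin.lastCases_last, map_one]
    | cast j => rw [emb_cast, dg, SemidirectProduct.left_inl, Fin.lastCases_castSucc]; rfl) (map_one (eP m)).symm
  refine ⟨jP _ (emb _ m (inr Fin.revPerm)), ?_, emb_cs _, by rw [← map_mul, h1, map_one]; exact one_mem _,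
    jP _ (emb _ m (dg a)), mem_TT.2 ⟨_, by rw [h2]⟩, emb_cs _, ?_⟩
  · rw [NN_eq]
    refine mem_jN.2 ⟨_, fun j => ?_, rfl⟩
    induction j using Fin.lastCases with
    | last => exact emb_last (A := S2 F) _ ▸ one_mem _
    | cast j => exact emb_cast (A := S2 F) _ j ▸ one_mem _
  · rw [Phi_eq, ← map_inv, inv_eq_of_mul_eq_one_right h1, ← map_mul, ← map_mul, ← map_mul, ← map_mul, ← map_mul]
    refine jP_eq.2 (Or.inr (SemidirectProduct.ext (funext fun j => ?_) ?_))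
    · rw [mul_dz, mul_left, sg1_right, inv_one, Perm.one_apply]
      induction j using Fin.lastCases with
      | last => rw [emb_last, emb_last, sg1_self, mul_one, ng_mul_ng]
      | cast j =>
        rw [emb_cast, emb_cast, sg1_ne (Fin.castSucc_lt_last j).ne, one_mul]
        show 1 * tor (a j.rev) * 1 = tor (a j) * tor (-1)
        rw [one_mul, mul_one, ← map_mul]
        refine congrArg tor ?_
        simp only [a, Fin.rev_rev]
        rcases lt_or_gt_of_ne (rev_ne hm j) with h | h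
        · rw [if_pos h, if_neg h.not_gt, one_mul]
        · rw [if_pos h, if_neg h.not_gt, neg_mul_neg, one_mul]
    · show eP m (Fin.revPerm * 1 * Fin.revPerm) = 1 * eP m 1 * 1
      rw [mul_one, mul_one, one_mul]
      exact congrArg _ (Equiv.ext Fin.rev_rev)

/-! ### field automorphisms -/

section fld

variable (σ : F ≃+* F)

theorem frob_b (z : Fin k × Bool) : frobPerm k σ ((frame k F).b z) = (frame k F).b z := by
  obtain ⟨i, b⟩ := z
  funext j
  cases b <;> simp only [frobPerm_apply, e, f, Pi.single_apply, _root_.Cfsg.Agent.TitsThree.SpIdent.frame_b_false, _root_.MonoidWithZeroHom.map_ite_one_zero, _root_.Cfsg.Agent.TitsThree.SpIdent.frame_b_true]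

theorem frob_h (v : Fin k ⊕ Fin k → F) (z : Fin k × Bool) :
    (_root_.Cfsg.Agent.TitsThree.SpIdent.form k F).h (frobPerm k σ v) ((frame k F).b z) = σ ((_root_.Cfsg.Agent.TitsThree.SpIdent.form k F).h v ((frame k F).b z)) := by
  conv_lhs => rw [← frob_b σ z]
  exact ((isSemi_frobPerm σ).2.2 _ _).trans (one_mul _)

theorem fld_X {y z : Fin k × Bool} (h : y.1 ≠ z.1) (t : F) :
    fld k F σ (toPSp ⟨(frame k F).X y z t, (frame k F).isIso_X _ _ _⟩) =
      toPSp ⟨(frame k F).X y z (σ t), (frame k F).isIso_X _ _ _⟩ := by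
  refine fld_toPSp σ fun v => funext fun j => ?_
  have h1 := fun z => congrFun (frob_b (k := k) σ z) j
  have h2 : σ ((frame k F).η z) = (frame k F).η z := by
    unfold WittFrame.Frame.η
    split_ifs <;> simp only [_root_.Cfsg.Agent.TitsThree.SpIdent.form_ε, _root_.RingEquiv.map_neg_one, _root_.map_one]
  simp only [frobPerm_apply] at h1
  show (frame k F).X y z (σ t) _ j = σ ((frame k F).X y z t v j)
  rw [X_apply _ h, X_apply _ h, frob_h, frob_h]
  simp only [Pi.sub_apply, Pi.add_apply, Pi.smul_apply, smul_eq_mul, map_sub, map_add, map_mul, h1, h2, frobPerm_apply,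
    WittFrame.Frame.sc, form_σ, form_ε, map_neg, map_inv₀, map_one]

theorem fld_Z (z : Fin k × Bool) (c : F) (h1 : (frame k F).Z z (adm c) ∈ isos (_root_.Cfsg.Agent.TitsThree.SpIdent.form k F))
    (h2 : (frame k F).Z z (adm (σ c)) ∈ isos (_root_.Cfsg.Agent.TitsThree.SpIdent.form k F)) : fld k F σ (toPSp ⟨_, h1⟩) = toPSp ⟨_, h2⟩ := by
  refine fld_toPSp σ fun v => funext fun j => ?_
  have h3 := congrFun (frob_b (k := k) σ z) j
  have h4 : ∀ c : F, (adm c : (frame k F).Adm).w = 0 := fun _ => rfl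
  have h5 : ∀ c : F, (adm c : (frame k F).Adm).c = c := fun _ => rfl
  simp only [frobPerm_apply] at h3
  show (frame k F).Z z (adm (σ c)) _ j = σ ((frame k F).Z z (adm c) v j)
  rw [Z_apply, Z_apply, frob_h, h4, h4, h5, h5, Siegel.HForm.zero_right, Siegel.HForm.zero_right]
  simp only [Pi.sub_apply, Pi.add_apply, Pi.smul_apply, smul_eq_mul, map_add, map_mul, h3, frobPerm_apply,
    mul_zero, zero_mul, Pi.zero_apply, add_zero, sub_zero]

theorem fld_mapX (y : Fin k → ℤ) (u : PSp k F) (hu : u ∈ WittModel.X (KInstSp.model k F) y) :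
    fld k F σ u ∈ WittModel.X (KInstSp.model k F) y := by
  obtain ⟨g, hg, h, rfl⟩ := (WittModel.mem_X _).1 hu
  by_cases h0 : ∃ a b, TypeC.Ok a b ∧ TypeC.ee y = TypeC.wt a + TypeC.wt b
  · obtain ⟨a, b, h1, h2⟩ := h0
    refine (WittModel.mem_X _).2 ?_
    rw [rg_eq _ h1 h2] at h ⊢
    rcases h1 with h1 | rfl
    · rw [PG_ne _ h1] at h ⊢
      obtain ⟨t, rfl⟩ := h
      exact ⟨_, _, ⟨_, rfl⟩, fld_X σ h1 t⟩
    · rw [PG_self] at h ⊢
      obtain ⟨q, rfl⟩ := h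
      obtain ⟨c, rfl⟩ : ∃ c, q = adm c := ⟨_, eq_adm q⟩
      exact ⟨_, (KInstSp.model k F).hZ _ _, ⟨_, rfl⟩, fld_Z σ a c hg _⟩
  · have h1 : rg (frame k F) y ≤ ⊥ := iSup_le fun q => (h0 ⟨_, _, q.2⟩).elim
    obtain rfl : g = 1 := h1 h
    rwa [show (KInstSp.model k F).φ ⟨1, hg⟩ = 1 from (map_one _ : _), map_one, ← map_one (KInstSp.model k F).φ]

theorem fld_Phi (l : Fin k) (s : S2 F) : fld k F σ (Phi l s) = Phi l (f2 F σ s) := by
  rw [Phi_eq, Phi_eq, fld_jP]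
  refine congrArg (jP k) (SemidirectProduct.ext (funext fun i => ?_) rfl)
  rw [mapW_left]
  by_cases h : i = l
  · rw [h, sg1_self, sg1_self]
    rfl
  · rw [sg1_ne h, sg1_ne h, map_one]

theorem xs_ne {i : Fin k} (hi : (i : ℕ) + 1 < k) : xs i (1 : F) ≠ 1 := fun h => by
  obtain ⟨c, -, hc⟩ := exists_smul_of_toPSp_eq_one h
  have h1 := congrFun ((X_apply_neg _ (H69.OQ.nx_ne hi) (1 : F)).symm.trans (hc _)) (.inr i)
  have h2 : WittFrame.neg (TypeC.nx i) = (⟨i + 1, hi⟩, true) := by unfold TypeC.nx; rw [dif_pos hi]; rfl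
  rw [h2] at h1
  simp [e, Fin.ext_iff] at h1

theorem av_fld [Fintype F] (p : ℕ) [Fact p.Prime] [CharP F p] {W : Type} [Group W] [Finite W]
    (cs : CoxeterSystem (CoxeterMatrix.B k) W) [Finite (PSp k F)] (l : Fin k)
    (h : ∀ χ, OI (S2 F) χ → ∀ s, χ (f2 F σ s) = χ s) : Av (rgdS k F p cs) (Phi l) (fld k F σ) where
  sqT t ht := by
    obtain ⟨a, rfl⟩ := mem_TT.1 ht
    have h1 : ∀ u : Fˣ, ∃ r, u⁻¹ * Units.map σ.toMonoidHom u = r * r := fun u => by
      by_cases h2 : IsSquare u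
      · exact h2.inv.mul (h2.map _)
      · refine sq_cases (by rwa [isSquare_inv]) fun h3 => h2 ?_
        have h4 := h3.map (Units.map σ.symm.toMonoidHom)
        rwa [show Units.map σ.symm.toMonoidHom (Units.map σ.toMonoidHom u) = u from Units.ext (σ.symm_apply_apply _)] at h4
    choose r hr using h1
    refine ⟨_, mem_TT.2 ⟨fun i => r (a i), rfl⟩, ?_⟩
    rw [fld_jP, ← map_mul, ← map_mul]
    refine congrArg (jP k) (SemidirectProduct.ext (funext fun i => ?_) (by simp [dg, mapW_right]))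
    show f2 F σ (tor (a i)) = tor (a i) * (tor (r (a i)) * tor (r (a i)))
    rw [← map_mul, ← hr, ← map_mul, mul_inv_cancel_left]
    exact ext4 rfl (map_zero σ) (map_zero σ) rfl
  mapX := fld_mapX σ
  mapn i := by
    obtain ⟨w, h1, h2⟩ := rp_ex (F := F) p cs i
    refine ⟨_, h2, (fld_jP σ w).trans (congrArg (jP k) (SemidirectProduct.ext (funext fun j => ?_) rfl))⟩
    rw [mapW_left]
    rcases h1 j with e | e <;> rw [e]
    · exact map_one _
    · exact ext4 (map_zero σ) (map_one σ) ((map_neg σ 1).trans (congrArg _ (map_one σ))) (map_zero σ)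
  pt i := by
    by_cases hi : (i : ℕ) + 1 < k
    · refine ⟨fun a ha b hb => ?_, _, (mem_X_short hi _).2 ⟨1, rfl⟩, xs_ne hi, ?_⟩
      · obtain ⟨s, rfl⟩ := (mem_X_short hi a).1 ha
        obtain ⟨t, rfl⟩ := (mem_X_short hi b).1 hb
        rw [← xs_add, ← xs_add, add_comm]
      · exact (fld_X σ (H69.OQ.nx_ne hi) 1).trans (by rw [map_one]; rfl)
    · refine ⟨fun a ha b hb => ?_, _, (mem_X_last hi _).2 ⟨1, rfl⟩, fun e => one_ne_zero (Phi_x_inj i 1 e), ?_⟩
      · obtain ⟨s, rfl⟩ := (mem_X_last hi a).1 ha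
        obtain ⟨t, rfl⟩ := (mem_X_last hi b).1 hb
        rw [← map_mul, ← map_mul]
        exact congrArg _ (((data F).X_add s t).symm.trans ((congrArg x (add_comm s t)).trans ((data F).X_add t s)))
      · exact (fld_Phi σ i _).trans (congrArg _ (ext4 (map_one σ) (map_one σ) (map_zero σ) (map_one σ)))
  sl2 := ⟨f2 F σ, fld_Phi σ l, h⟩

end fld

end Cfsg.Agent.MK.P

private theorem dce_fbcf64caf844 : _root_.True := by
  try have : _root_.True := by simp only [_root_.Cfsg.Agent.MK.P.jN.eq_1]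
  try have : _root_.True := by simp only [_root_.Cfsg.Agent.MK.P.dg.eq_1]
  exact _root_.True.intro
end

-- part: MK/P/GS
section
prune_inst 0x4010000
set_option linter.all false
open scoped Cfsg.Agent.FastGrp

/-!
# MK-P: the global side (helper36)

**`gs : W1 → W2 → S4 → GS`**.
-/

set_option autoImplicit false
set_option linter.unusedSectionVars false

namespace Cfsg.Agent.MK.P

open Cfsg Subgroup Equiv Cfsg.Agent.MK.T Cfsg.Agent.ODD Cfsg.Agent.ODD.PS.C3 Cfsg.Agent.ODD.C3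

theorem kk_kw {A ι Y : Type} [Group A] [Finite A] [Fintype ι] [Group Y] [Finite Y] (h1 : W1) {z : A} (hz : z ∈ center A)
    (ih : IH (Nat.card Y)) (f : Wr A ι →* Y) (hf : f.range ≠ ⊤) {Z : Subgroup Y}
    (h : ∀ w, f w ∈ Z ↔ w ∈ zpowers (dz ι z)) (T : Sylow 2 (Perm ι)) : kk f.range Z 1 = kw z (T : Subgroup (Perm ι)) := by
  have := finite_Wr (A := A) (ι := ι)
  rw [← h1 A ι z T _ hz ih, kw, WT, comap_top, MonoidHom.range_eq_map]
  · exact kk_map f (fun w _ => h w) fun _ _ _ => rfl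
  · refine (index_antitone (h := show f.ker ≤ _ from fun w hw => (h w).1 (hw ▸ one_mem Z))).trans_lt ?_
    rw [index_ker]
    exact (card_le_card_group _).lt_of_ne fun e => hf (eq_top_of_card_eq _ e)

/-- **the global side** -/
theorem gs (h1 : W1) (h2 : W2) (h4 : S4) : GS := by
  intro F _ _ k hq hk
  obtain ⟨m, rfl⟩ : ∃ m, k = m + 1 := ⟨k - 1, by omega⟩
  have hF : Odd (Fintype.card F) := by rw [Nat.odd_iff]; omega
  obtain ⟨p, _, _, hp2, -⟩ := PW.exists_char F hF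
  have := PW.finB (m + 1)
  have := PW.finB m
  have : Finite (PSp (m + 1) F) := inferInstance
  have := Fintype.ofFinite (PSp (m + 1) F)
  obtain ⟨γ, hγ⟩ := IsCyclic.exists_generator (α := Fˣ)
  have S := sp_Phi p (CoxeterMatrix.B (m + 1)).toCoxeterSystem (F := F) hγ
  have hP := parS m F _ (CoxeterMatrix.B (m + 1)).toCoxeterSystem hq
  have q := q4 hq
  have t2 : (2 : F) ≠ 0 := fun h => hp2 ((Nat.prime_dvd_prime_iff_eq Fact.out Nat.prime_two).1
    ((CharP.cast_eq_zero_iff F p 2).1 (by exact_mod_cast h)))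
  refine ⟨fun ih => ?_, fun σ χ hχ => fix_av S hP hq (av_fld σ p _ _ fun ψ hψ => ((h4 F hq).2 ψ hψ).2 σ) hχ.1 hχ.2⟩
  have a1 : ∀ T : Sylow 2 (Perm (Fin (m + 1))), k0 (jN (m + 1) F).range = kw (z1 F) (T : Subgroup (Perm (Fin (m + 1)))) :=
    fun T => (kk_bot _ (l := 1) rfl).symm.trans (kk_kw h1 q.cen ih _ (jN_ne 0) (fun _ => jN_eq_one) T)
  rcases Nat.even_or_odd (m + 1) with hm | hm
  · obtain ⟨T, hT⟩ := exists_even hm
    exact ⟨T, by rw [k0_even S hP Fact.out hp2 hm, NN_eq, a1 T, kw_even q h2 T.isPGroup' hT]⟩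
  · have hm' : Even m := by simpa [Nat.odd_add_one] using hm
    obtain ⟨T, hT⟩ := exists_even hm'
    obtain ⟨T', hT'⟩ := exists_odd hm' T
    have i : Fin m := ⟨0, by omega⟩
    have a2 : N2 S.gd = ((jN (m + 1) F).comp (emb _ m)).range :=
      Subgroup.ext fun y => by rw [mem_N2, NN_eq, range_emb t2 i]
    have a3 := kk_kw h1 q.cen ih ((jN (m + 1) F).comp (emb _ m)) (fun e => jN_ne (F := F) (0 : Fin (m + 1))
      (eq_top_iff.2 fun y _ => ((range_emb t2 i).1 (e ▸ mem_top y)).1)) (emb_mem t2) T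
    exact ⟨T', by rw [k0_odd S hP Fact.out hp2 hq hm (sw p _ hm') (Phi_injective t2 (Fin.castSucc_lt_last i).ne)
      fun χ hχ => ((h4 F hq).2 χ hχ).1, NN_eq, a1 T', a2, a3, hT', kw_odd q h2 T.isPGroup' hT]⟩

end Cfsg.Agent.MK.P

private theorem dce_b4916f3e112b : _root_.True := by
  try have : _root_.True := by simp only [_root_.Cfsg.Agent.MK.P.kw.eq_1]
  try have : _root_.True := by simp only [_root_.Cfsg.Agent.MK.P.WT.eq_1]
  exact _root_.True.intro
end

-- part: MK/A/Loc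
section
set_option linter.all false
open scoped Cfsg.Agent.FastGrp

/-!
# MK, alternating groups: the equality for `S_n` and `A_n`, `7 ≤ n` (helper42)

* `m0_sym`, `m0_alt` : from Young subgroups and the wreath product `S_r ≀ 2` with the induction hypothesis;
* `smS_alt` : the small row of the simple group.
-/

set_option autoImplicit false
set_option maxHeartbeats 400000

namespace Cfsg.Agent.MK.A

open Cfsg Subgroup Equiv Cfsg.Agent.MK.T Cfsg.Agent.QTNorm

theorem odd_choose : ∀ k l : ℕ, l < 2 ^ k → Odd ((2 ^ k + l).choose l)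
  | 0, l, h => by
    obtain rfl : l = 0 := by omega
    simp
  | k + 1, l, h => by
    have := two_prime
    have h1 := Choose.choose_modEq_choose_mod_mul_choose_div_nat (n := 2 ^ (k + 1) + l) (k := l) (p := 2)
    rw [show (2 ^ (k + 1) + l) % 2 = l % 2 by rw [pow_succ]; omega,
      show (2 ^ (k + 1) + l) / 2 = 2 ^ k + l / 2 by rw [pow_succ]; omega, Nat.choose_self, one_mul] at h1
    exact Nat.odd_iff.2 (Eq.trans h1 (Nat.odd_iff.1 (odd_choose k (l / 2) (by rw [pow_succ] at h; omega))))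

theorem three_le_choose {k l : ℕ} (h0 : l ≠ 0) (h : l < 2 ^ k) : 3 ≤ (2 ^ k + l).choose l := by
  have h1 := Nat.odd_iff.1 (odd_choose k l h)
  have h2 : (2 ^ k + l).choose l ≠ 1 := fun e => by
    rcases Nat.choose_eq_one_iff.1 e with h3 | h3 <;> omega
  omega

theorem choose_two {k : ℕ} (hk : k ≠ 0) : ∃ m, Odd m ∧ 3 ≤ m ∧ (2 ^ k + 2 ^ k).choose (2 ^ k) = 2 * m := by
  have h1 : 1 < 2 ^ k := Nat.one_lt_two_pow hk
  refine ⟨_, odd_choose k (2 ^ k - 1) (by omega), three_le_choose (by omega) (by omega), ?_⟩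
  obtain ⟨l, hl⟩ : ∃ l, 2 ^ k = l + 1 := ⟨2 ^ k - 1, by omega⟩
  rw [hl, Nat.add_sub_cancel, ← add_assoc, Nat.choose_succ_succ', two_mul, Nat.choose_symm_add]

variable {β γ : Type} [Fintype β] [DecidableEq β] [Fintype γ] [DecidableEq γ]

theorem selfN_perm : SelfN (Perm β) := fun P => (H799.SymSyl.normalizer_perm P).le

theorem selfN_alt (h : 6 ≤ Fintype.card β) : SelfN (alternatingGroup β) := fun P => (H799.SymSyl.normalizer_alt h P).le

theorem index_alt' (h : 2 ≤ Fintype.card β) : (alternatingGroup β).index = 2 :=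
  have : Nontrivial β := Fintype.one_lt_card_iff_nontrivial.1 h
  alternatingGroup.index_eq_two

theorem card_alt' (h : 2 ≤ Fintype.card β) : Nat.card (Perm β) = 2 * Nat.card (alternatingGroup β) := by
  rw [← index_alt' h, index_mul_card]

omit [DecidableEq β] [DecidableEq γ] in
theorem card_young : Nat.card (Perm (β ⊕ γ)) =
    (Fintype.card β + Fintype.card γ).choose (Fintype.card γ) * Nat.card (Perm β × Perm γ) := by
  rw [Nat.card_prod, Nat.card_perm, Nat.card_perm, Nat.card_perm, Nat.card_sum, ← mul_assoc, Nat.card_eq_fintype_card,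
    Nat.card_eq_fintype_card, Nat.add_choose_mul_factorial_mul_factorial]

theorem k0_alt_fin : k0 (alternatingGroup β) = k0 (alternatingGroup (Fin (Fintype.card β))) :=
  k0_congr (Fintype.equivFin β).altCongrHom

variable (β γ) in
/-- the even elements of the Young subgroup -/
def Hf : Subgroup (Perm β × Perm γ) := (alternatingGroup (β ⊕ γ)).comap (Perm.sumCongrHom β γ)

variable (β γ) in
/-- their embedding -/
def jf : Hf β γ →* alternatingGroup (β ⊕ γ) := (Perm.sumCongrHom β γ).subgroupComap _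

theorem jf_inj : Function.Injective (jf β γ) := fun _ _ h =>
  Subtype.ext (Perm.sumCongrHom_injective (congrArg Subtype.val h))

theorem mem_Hf (x : Perm β × Perm γ) : x ∈ Hf β γ ↔ (x.1 ∈ alternatingGroup β ↔ x.2 ∈ alternatingGroup γ) := by
  show Perm.sign (Perm.sumCongr x.1 x.2) = 1 ↔ (Perm.sign x.1 = 1 ↔ Perm.sign x.2 = 1)
  rw [Perm.sign_sumCongr]
  rcases Int.units_eq_one_or (Perm.sign x.1) with h | h <;> rcases Int.units_eq_one_or (Perm.sign x.2) with h' | h' <;>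
    rw [h, h'] <;> decide

theorem card_Hf (h : 2 ≤ Fintype.card β) : Nat.card (Perm β × Perm γ) = 2 * Nat.card (Hf β γ) := by
  rw [← index_half (index_alt' h) (mem_Hf (γ := γ)), index_mul_card]

section gen

variable {k : ℕ} (hβ : Fintype.card β = 2 ^ k) (h0 : Fintype.card γ ≠ 0) (hγ : Fintype.card γ < 2 ^ k)
  (ih : IH (Nat.card (alternatingGroup (β ⊕ γ))))

include hβ h0 hγ ih

theorem m0_sym_gen : M0 (Perm (β ⊕ γ)) := by
  have h1 := card_young (β := β) (γ := γ)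
  rw [hβ] at h1
  refine m0_of_odd ih selfN_perm _ Perm.sumCongrHom_injective (odd_choose _ _ hγ) h1 ?_ ?_
  · have h2 := three_le_choose h0 hγ
    have h3 : 0 < Nat.card (Perm β × Perm γ) := Nat.card_pos
    rw [card_alt' (by rw [Fintype.card_sum]; omega)] at h1
    nlinarith
  · rw [k0_prod]
    exact (ko_step hγ (by rw [Fintype.card_sum, hβ])).trans (congrArg (· * _) (ko_pow hβ).symm)

theorem m0_alt_of (h6 : 6 ≤ Fintype.card (β ⊕ γ)) (h : k0 (alternatingGroup (β ⊕ γ)) = k0 (Hf β γ)) :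
    M0 (alternatingGroup (β ⊕ γ)) := by
  have h1 := card_young (β := β) (γ := γ)
  rw [hβ, card_alt' (by omega), card_Hf (by omega), mul_left_comm] at h1
  have h2 := Nat.eq_of_mul_eq_mul_left two_pos h1
  refine m0_of_odd ih (selfN_alt h6) _ jf_inj (odd_choose _ _ hγ) h2 ?_ h
  have h3 := three_le_choose h0 hγ
  have h4 : 0 < Nat.card (Hf β γ) := Nat.card_pos
  nlinarith

theorem m0_alt_gen (h2 : 2 ≤ Fintype.card γ) (h6 : 6 ≤ Fintype.card (β ⊕ γ)) : M0 (alternatingGroup (β ⊕ γ)) := by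
  refine m0_alt_of hβ h0 hγ ih h6 (Nat.eq_of_mul_eq_mul_left two_pos ?_)
  rw [k0_half (index_alt' (by omega)) (index_alt' h2) mem_Hf, k0_alt_fin, Fintype.card_sum, hβ]
  refine (ko_alt_gen h2 hγ).trans ((ko_step hγ (Fintype.card_fin _)).trans ?_)
  exact congrArg (· * _) (ko_pow hβ).symm

end gen

theorem m0_alt_one {k : ℕ} (hβ : Fintype.card β = 2 ^ (k + 2)) (h1 : Fintype.card γ = 1)
    (ih : IH (Nat.card (alternatingGroup (β ⊕ γ)))) (h6 : 6 ≤ Fintype.card (β ⊕ γ)) :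
    M0 (alternatingGroup (β ⊕ γ)) := by
  have h2 : 1 < 2 ^ (k + 2) := Nat.one_lt_two_pow (by omega)
  have : Subsingleton γ := Fintype.card_le_one_iff_subsingleton.1 h1.le
  refine m0_alt_of hβ (by omega) (by omega) ih h6 ?_
  let e : Hf β γ ≃* alternatingGroup β :=
    { toFun := fun x => ⟨x.1.1, ((mem_Hf _).1 x.2).2 (Subsingleton.elim 1 x.1.2 ▸ one_mem _)⟩
      invFun := fun x => ⟨(x.1, 1), (mem_Hf _).2 (iff_of_true x.2 (one_mem _))⟩
      left_inv := fun x => Subtype.ext (Prod.ext rfl (Subsingleton.elim _ _))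
      right_inv := fun _ => rfl
      map_mul' := fun _ _ => rfl }
  rw [k0_congr e, k0_alt_fin, k0_alt_fin (β := β)]
  exact (ko_alt_pow (ε := 1) le_rfl (by rw [Fintype.card_sum, hβ, h1])).trans (ko_alt_pow (ε := 0) zero_le_one hβ).symm

section pw

variable (β) in
/-- the flip -/
def fl : Perm (β ⊕ β) := Equiv.sumComm β β

omit [Fintype β] [DecidableEq β] in
theorem fl_sq : fl β * fl β = 1 := by
  ext x
  cases x <;> rfl

omit [Fintype β] [DecidableEq β] in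
theorem fl_conj (a b : Perm β) : Perm.sumCongr b a = fl β * Perm.sumCongr a b * (fl β)⁻¹ := by
  ext x
  cases x <;> rfl

omit [Fintype β] [DecidableEq β] in
theorem fl_ne [Nonempty β] (a b : Perm β) : Perm.sumCongr a b ≠ fl β := fun h =>
  Sum.inl_ne_inr (Equiv.congr_fun h (Sum.inl (Classical.arbitrary β)))

theorem fl_mem (h : Even (Fintype.card β)) : fl β ∈ alternatingGroup (β ⊕ β) := by
  have : IsEmpty (Function.fixedPoints (fl β)) := ⟨by
    rintro ⟨x | x, hx⟩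
    · exact Sum.inr_ne_inl hx
    · exact Sum.inl_ne_inr hx⟩
  rw [Perm.mem_alternatingGroup, Perm.sign_of_pow_two_eq_one (by rw [pow_two, fl_sq]), Fintype.card_sum,
    Fintype.card_eq_zero (α := Function.fixedPoints (fl β)), Nat.sub_zero, ← two_mul, Nat.mul_div_cancel_left _ two_pos, h.neg_one_pow]

variable {k : ℕ} (hβ : Fintype.card β = 2 ^ (k + 1)) (ih : IH (Nat.card (alternatingGroup (β ⊕ β))))

include hβ ih

theorem m0_sym_pow : M0 (Perm (β ⊕ β)) := by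
  have h0 : 1 < 2 ^ (k + 1) := Nat.one_lt_two_pow (by omega)
  have : Nonempty β := Fintype.card_pos_iff.1 (by omega)
  obtain ⟨W, h1, h2⟩ := exists_ext (Perm.sumCongrHom β β) Perm.sumCongrHom_injective (s := fl β)
    (fun ⟨x, hx⟩ => fl_ne _ _ hx) (fl_sq (β := β) ▸ one_mem _) (α := MulEquiv.prodComm) fun x => fl_conj _ _
  obtain ⟨m, h3, h4, h5⟩ := choose_two (k := k + 1) (by omega)
  have h6 := card_young (β := β) (γ := β)
  rw [hβ, h5, mul_comm 2, mul_assoc, ← h1] at h6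
  refine m0_of_odd ih selfN_perm W.subtype W.subtype_injective h3 h6 ?_ ?_
  · have h7 : 0 < Nat.card W := Nat.card_pos
    rw [card_alt' (by rw [Fintype.card_sum]; omega)] at h6
    nlinarith
  · rw [h2, f0_flip fun _ => rfl]
    refine (ko_pow (k := k + 2) (by rw [Fintype.card_sum, hβ]; ring)).trans ?_
    rw [show k0 (Perm β) = 2 ^ (k + 1) from ko_pow hβ]
    ring

theorem m0_alt_pow (h6 : 6 ≤ Fintype.card (β ⊕ β)) : M0 (alternatingGroup (β ⊕ β)) := by
  have h0 : 1 < 2 ^ (k + 1) := Nat.one_lt_two_pow (by omega)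
  have : Nonempty β := Fintype.card_pos_iff.1 (by omega)
  have he : Even (Fintype.card β) := by
    rw [hβ, pow_succ]
    exact (even_two).mul_left _
  let α : MulAut (Hf β β) := res (Hf β β) MulEquiv.prodComm fun x => by
    rw [mem_Hf, mem_Hf]
    exact Iff.comm
  obtain ⟨W, h1, h2⟩ := exists_ext (jf β β) jf_inj (s := ⟨fl β, fl_mem he⟩)
    (fun ⟨x, hx⟩ => fl_ne _ _ (congrArg Subtype.val hx)) ⟨1, Subtype.ext (by rw [map_one]; exact fl_sq.symm)⟩ (α := α)
    fun x => Subtype.ext (fl_conj _ _)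
  obtain ⟨m, h3, h4, h5⟩ := choose_two (k := k + 1) (by omega)
  have h7 := card_young (β := β) (γ := β)
  rw [hβ, h5, card_alt' (by omega), card_Hf (by omega), ← h1, mul_assoc] at h7
  have h8 := Nat.eq_of_mul_eq_mul_left two_pos h7
  refine m0_of_odd ih (selfN_alt h6) W.subtype W.subtype_injective h3 h8 ?_ ?_
  · have h9 : 0 < Nat.card W := Nat.card_pos
    nlinarith
  · rw [h2, f0_half (index_alt' (by omega)) mem_Hf fun _ => rfl, k0_alt_fin]
    refine (ko_alt_pow (k := k) (ε := 0) zero_le_one (by rw [Fintype.card_sum, hβ]; ring)).trans ?_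
    rw [show k0 (Perm β) = 2 ^ (k + 1) from ko_pow hβ]
    ring

end pw

/-- **the equality for `S_n` and `A_n`** -/
theorem m0_both {n : ℕ} (hn : 6 ≤ n) (ih : IH (Nat.card (alternatingGroup (Fin n)))) :
    M0 (Perm (Fin n)) ∧ M0 (alternatingGroup (Fin n)) := by
  have key : ∀ a b : ℕ, n = a + b → (IH (Nat.card (alternatingGroup (Fin a ⊕ Fin b))) → 6 ≤ Fintype.card (Fin a ⊕ Fin b) →
      M0 (Perm (Fin a ⊕ Fin b)) ∧ M0 (alternatingGroup (Fin a ⊕ Fin b))) →
      M0 (Perm (Fin n)) ∧ M0 (alternatingGroup (Fin n)) := by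
    rintro a b rfl h
    have h1 := h (Nat.card_congr (finSumFinEquiv (m := a) (n := b)).altCongrHom.toEquiv ▸ ih)
      (by rw [Fintype.card_sum, Fintype.card_fin, Fintype.card_fin]; exact hn)
    exact ⟨h1.1.congr finSumFinEquiv.permCongrHom, h1.2.congr finSumFinEquiv.altCongrHom⟩
  obtain ⟨k, l, h1, h2⟩ := exists_split (n := n) (by omega)
  obtain ⟨k, rfl⟩ : ∃ j, k = j + 2 := ⟨k - 2, by
    rcases k with _ | _ | k <;> omega⟩
  by_cases h0 : l = 0
  · exact key (2 ^ (k + 1)) (2 ^ (k + 1)) (by rw [h2, h0]; ring) fun ih h6 =>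
      ⟨m0_sym_pow (Fintype.card_fin _) ih, m0_alt_pow (Fintype.card_fin _) ih h6⟩
  refine key _ _ h2 fun ih h6 => ⟨m0_sym_gen (Fintype.card_fin _) (by rwa [Fintype.card_fin])
    (by rwa [Fintype.card_fin]) ih, ?_⟩
  by_cases h3 : l = 1
  · exact m0_alt_one (Fintype.card_fin _) (by rwa [Fintype.card_fin]) ih h6
  · exact m0_alt_gen (Fintype.card_fin _) (by rwa [Fintype.card_fin]) (by rwa [Fintype.card_fin]) ih
      (by rw [Fintype.card_fin]; omega) h6

theorem index_inn {n : ℕ} (hn : 4 ≤ n) (h6 : n ≠ 6) :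
    (MulAut.conj : alternatingGroup (Fin n) →* MulAut (alternatingGroup (Fin n))).range.index = 2 := by
  have hZ : center (alternatingGroup (Fin n)) = ⊥ := alternatingGroup.center_eq_bot (by simpa using hn)
  have h1 := (MulAut.conj : alternatingGroup (Fin n) →* MulAut (alternatingGroup (Fin n))).range.index_mul_card
  rw [← Nat.card_eq_of_bijective _ (S2119.result n hn h6), card_alt' (by rw [Fintype.card_fin]; omega),
    ← Nat.card_congr (MonoidHom.ofInjective (conj_inj hZ)).toEquiv] at h1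
  exact Nat.eq_of_mul_eq_mul_right Nat.card_pos h1

/-- **the small row of `A_n`, `7 ≤ n`** -/
theorem smS_alt {n : ℕ} (hn : 7 ≤ n) : S.SmS (alternatingGroup (Fin n)) := fun ih =>
  have h := m0_both (by omega) ih
  sm_of_two (alternatingGroup.center_eq_bot (by simpa using (by omega : 4 ≤ n))) (index_inn (by omega) (by omega)) ih h.2
    (h.1.congr (MulEquiv.ofBijective _ (S2119.result n (by omega) (by omega))))

end Cfsg.Agent.MK.A
end

-- part: MK/A/Row
section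
set_option linter.all false
open scoped Cfsg.Agent.FastGrp

/-!
# MK: the row of the alternating groups (helper42)

* `row_alt` : from the small step and the row of the linear groups (for `A₅ ≅ L₂(5)`, `A₆ ≅ L₂(9)`).
-/

set_option autoImplicit false
set_option maxHeartbeats 400000

namespace Cfsg.Agent.MK.A

open Cfsg Subgroup Cfsg.Agent.ODD

/-- **the alternating groups** -/
theorem row_alt (hs : StepSm) (hp : Row PslO) : Row fun S _ => IsAlternating S := by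
  intro X _ _ c Γ s
  obtain ⟨n, hn, ⟨e⟩⟩ := c.fam
  by_cases h5 : n = 5
  · subst h5
    have : Fact (Nat.Prime 5) := ⟨Nat.prime_five⟩
    obtain ⟨f⟩ := S0253.result (F := ZMod 5) (ZMod.card 5)
    exact hp X ⟨c.qs, c.odd, ZMod 5, inferInstance, inferInstance, 2, by rw [ZMod.card]; decide, le_rfl,
      fun _ => by rw [ZMod.card]; decide, ⟨e.trans f.symm⟩⟩ Γ s
  by_cases h6 : n = 6
  · subst h6
    have : Fact (Nat.Prime 3) := ⟨Nat.prime_three⟩
    have := Fintype.ofFinite (GaloisField 3 2)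
    have h9 : Fintype.card (GaloisField 3 2) = 9 := by
      rw [← Nat.card_eq_fintype_card, GaloisField.card 3 2 two_ne_zero]
      rfl
    obtain ⟨f⟩ := S0254.result h9
    exact hp X ⟨c.qs, c.odd, GaloisField 3 2, inferInstance, inferInstance, 2, by rw [h9]; decide, le_rfl,
      fun _ => by rw [h9]; decide, ⟨e.trans f.symm⟩⟩ Γ s
  by_cases h7 : n = 7
  · subst h7
    exact S.gd_of_three hs c s ⟨e⟩ (k := 1) (S2116.result 7 (Or.inr rfl)) dvd_rfl (smS_alt le_rfl) smC_seven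
  · exact S.gd_of_mb hs c s ⟨e⟩ (k := 1) (Cv.mb_alt (by omega) h6 h7) (smS_alt (by omega))

/-- the triple cover of `L₂(9)` -/
theorem gd_three_six (hs : StepSm) {X : Type} [Group X] [Finite X] {Γ : Subgroup (MulAut X)} (s : Sit X Γ)
    {F : Type} [Field F] [Fintype F] (hF : Fintype.card F = 9)
    (e : X ⧸ center X ≃* Matrix.ProjectiveSpecialLinearGroup (Fin 2) F) (hZ : Nat.card (center X) = 3) : Gd X Γ := by
  obtain ⟨f⟩ := S0254.result hF
  exact S.gd_of_card hs s (e.trans f) hZ smC_six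

end Cfsg.Agent.MK.A
end

-- part: MK/Two/Ext
section
set_option linter.all false
open scoped Cfsg.Agent.FastGrp

/-!
# MK, characteristic two: `extBox` (helper62)

* `Ext.ext_sylow` : an invariant irreducible character which extends for all subgroups of prime power order extends;
* `Ext.exists_fixed` : an invariant linear constituent with a multiplicity prime to `r`;
* `extBox`.
-/

set_option autoImplicit false
set_option maxHeartbeats 400000

namespace Cfsg.Agent.MK.Two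

open Cfsg Subgroup Cfsg.Agent.Characters.Core Cfsg.Agent.MK.E
open scoped ComplexConjugate

namespace Ext

/-- **Sylow-wise extension to a semidirect product** -/
theorem ext_sylow {H P : Type} [Group H] [Group P] [Finite H] [Finite P] {φ : P →* MulAut H} {θ : H → ℂ}
    (hθ : IsIrrCharacter H θ) (hinv : ∀ p x, θ (φ p x) = θ x)
    (h : ∀ r : ℕ, r.Prime → ∀ R : Subgroup P, IsPGroup r R → ExS (φ.comp R.subtype) θ) :
    ∃ Θ : H ⋊[φ] P → ℂ, IsIrrCharacter _ Θ ∧ ∀ x, Θ (SemidirectProduct.inl x) = θ x := by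
  have := finite_sd (φ := φ)
  have := normal_NS (φ := φ)
  have h0 : IsIrrCharacter (NS φ) (θ ∘ lf) := isIrr_comp lf lf_surj hθ
  obtain ⟨d, -, hd⟩ := isIrr_apply_one h0
  obtain ⟨χ, hχ, hr⟩ := CharactersDeep.ExtGroup.extends_of_local (NS φ) (θ ∘ lf) h0
    (inv_NS (isIrr_isClassFunction hθ) hinv) d hd fun r hr => by
      have := Fact.mk hr
      obtain ⟨R⟩ : Nonempty (Sylow r P) := inferInstance
      obtain ⟨Θ, hΘ, h1⟩ := h r hr R R.isPGroup'
      let Q : Subgroup (H ⋊[φ] P) := (R : Subgroup P).comap SemidirectProduct.rightHom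
      have hle : NS φ ≤ Q := fun g hg => by
        have h2 : SemidirectProduct.rightHom g = 1 := hg
        rw [mem_comap, h2]
        exact one_mem _
      let κ : Q →* H ⋊[φ.comp (R : Subgroup P).subtype] (R : Subgroup P) :=
        MonoidHom.mk' (fun g => ⟨g.1.left, ⟨g.1.right, g.2⟩⟩) fun _ _ => rfl
      have h3 : ∀ n : NS φ, Θ (κ ⟨n, hle n.2⟩) = (θ ∘ lf) n := fun n => by
        have h2 : n.1.right = 1 := n.2
        rw [Function.comp, ← h1]
        exact congrArg Θ (SemidirectProduct.ext rfl (Subtype.ext h2))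
      refine Or.inl ⟨Q, hle, fun g => Θ (κ g), ?_, ?_, h3⟩
      · rw [index_comap_of_surjective _ SemidirectProduct.rightHom_surjective]
        exact ((Nat.Prime.coprime_iff_not_dvd hr).2 R.not_dvd_index).symm
      · refine isIrr_of_comp (inclusion hle) (isCharacter_comp κ hΘ) ?_
        exact (funext h3 : (fun n : NS φ => Θ (κ ⟨n, hle n.2⟩)) = _) ▸ h0
  exact ⟨χ, hχ, fun x => hr ⟨SemidirectProduct.inl x, rfl⟩⟩

theorem finite_lin {V : Type} [Group V] [Finite V] : Finite (V →* ℂˣ) := by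
  have := finite_irr (G := V)
  refine Finite.of_injective (fun l : V →* ℂˣ => (⟨_, Characters.Linear.isIrrCharacter_hom l⟩ : IrrCharacter V))
    fun a b e => MonoidHom.ext fun v => Units.ext ?_
  exact congrFun (congrArg Subtype.val e) v

theorem inner_lin {V : Type} [Group V] [Fintype V] (a b : V →* ℂˣ) [Decidable (a = b)] :
    classInner (fun v => (a v : ℂ)) (fun v => (b v : ℂ)) = if a = b then 1 else 0 := by
  split_ifs with h
  · rw [h]
    exact classInner_irr_self (Characters.Linear.isIrrCharacter_hom b)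
  · exact classInner_irr_ne (Characters.Linear.isIrrCharacter_hom a) (Characters.Linear.isIrrCharacter_hom b)
      fun e => h (MonoidHom.ext fun v => Units.ext (congrFun e v))

/-- the action on the linear characters -/
@[reducible] def act {V R : Type} [Group V] [Group R] (σ : R →* MulAut V) : MulAction R (V →* ℂˣ) where
  smul φ l := l.comp (σ φ⁻¹).toMonoidHom
  one_smul l := MonoidHom.ext fun v => by
    change l (σ 1⁻¹ v) = l v
    rw [inv_one, map_one, MulAut.one_apply]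
  mul_smul φ ψ l := MonoidHom.ext fun v => by
    change l (σ (φ * ψ)⁻¹ v) = l (σ ψ⁻¹ (σ φ⁻¹ v))
    rw [mul_inv_rev, map_mul, MulAut.mul_apply]

/-- **an invariant linear constituent with a multiplicity prime to `r`** -/
theorem exists_fixed {V R : Type} [Group V] [Fintype V] [Group R] {r : ℕ} (hr : r.Prime) (hR : IsPGroup r R)
    (σ : R →* MulAut V) {X : V → ℂ} (hX : IsCharacter V X) (hXi : ∀ φ v, X (σ φ v) = X v) {n : Type} [Fintype n]
    (c : n → ℤ) (l : n → (V →* ℂˣ)) (f : V → ℂ) (hf : ∀ v, f v = ∑ i, c i * (l i v : ℂ))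
    (hfi : ∀ φ v, f (σ φ v) = f v) (h1 : Complex.normSq (classInner X f) = 1) :
    ∃ (lam : V →* ℂˣ) (m : ℕ), (∀ φ v, lam (σ φ v) = lam v) ∧ classInner X (fun v => (lam v : ℂ)) = m ∧ ¬ r ∣ m := by
  classical
  have := Fact.mk hr
  have := finite_lin (V := V)
  have := Fintype.ofFinite (V →* ℂˣ)
  let _ := act σ
  have hs : ∀ (φ : R) (a : V →* ℂˣ) (v : V), (φ • a) v = a (σ φ⁻¹ v) := fun _ _ _ => rfl
  have hI : ∀ g : V → ℂ, (∀ φ v, g (σ φ v) = g v) → ∀ (φ : R) (a : V →* ℂˣ),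
      classInner g (fun v => ((φ • a) v : ℂ)) = classInner g fun v => (a v : ℂ) := fun g hg φ a => by
    rw [← Characters.Clifford.classInner_comp_mulEquiv (σ φ⁻¹) g fun v => (a v : ℂ)]
    congr 1
    exact funext fun v => (hg φ⁻¹ v).symm
  choose m hm using fun a : V →* ℂˣ => classInner_isNat hX (Characters.Linear.isCharacter_hom a)
  let c' : (V →* ℂˣ) → ℤ := fun a => ∑ i with l i = a, c i
  have hf' : f = ∑ i, (c i : ℂ) • fun v => (l i v : ℂ) := by
    funext v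
    rw [hf]
    simp
  have hc : ∀ a : V →* ℂˣ, classInner f (fun v => (a v : ℂ)) = c' a := fun a => by
    rw [hf', classInner_sum_left]
    simp only [classInner_smul_left, inner_lin, c', Finset.sum_filter]
    push_cast
    refine Finset.sum_congr rfl fun i _ => ?_
    split_ifs <;> simp
  have h2 : classInner X f = (∑ a, c' a * m a : ℤ) := by
    rw [hf', classInner_sum_right]
    simp only [classInner_smul_right, hm, c', Finset.sum_mul]
    rw [← Finset.sum_fiberwise (s := Finset.univ) (g := l)]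
    push_cast
    refine Finset.sum_congr rfl fun a _ => Finset.sum_congr rfl fun i hi => ?_
    rw [(Finset.mem_filter.1 hi).2]
    simp
  obtain ⟨z, hz⟩ := Blocks.OrbitSum.sum_eq_sum_fixed_add_smul hR (fun a : V →* ℂˣ => c' a * m a) fun φ a => by
    have e1 : c' (φ • a) = c' a := by exact_mod_cast (hc _).symm.trans ((hI f hfi φ a).trans (hc a))
    have e2 : m (φ • a) = m a := by exact_mod_cast (hm _).symm.trans ((hI X hXi φ a).trans (hm a))
    simp only [e1, e2]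
  by_contra hno
  have h3 : (r : ℤ) ∣ ∑ a, c' a * m a := by
    rw [hz]
    refine dvd_add (Finset.dvd_sum fun a ha => Dvd.dvd.mul_left ?_ _) ⟨z, by simp⟩
    by_contra h4
    refine hno ⟨a, m a, fun φ v => ?_, hm a, fun h5 => h4 (Int.natCast_dvd_natCast.2 h5)⟩
    have h5 := (Finset.mem_filter.1 ha).2 φ⁻¹
    rw [← inv_inv φ, ← hs, h5]
  rw [h2, Complex.normSq_intCast] at h1
  have h4 : (∑ a, c' a * m a) * (∑ a, c' a * m a) = 1 := by exact_mod_cast h1
  have h5 : (r : ℤ) ∣ 1 := h4 ▸ h3.mul_left _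
  exact hr.one_lt.ne' (Nat.dvd_one.1 (Int.natCast_dvd_natCast.1 h5))

end Ext

/-- **extension to a semidirect product** -/
theorem extBox : ExtBox := by
  intro E Φ V _ _ _ _ _ _ ρ σ j hj hσ Ψ hΨ hinv n _ c l f hf hfi h1
  refine Ext.ext_sylow hΨ hinv fun r hr R hR => ?_
  have := Fintype.ofFinite V
  have := Fintype.ofFinite j.range
  rw [ip_eq] at h1
  obtain ⟨lam, m, h2, h3, h4⟩ := Ext.exists_fixed hr hR (σ.comp R.subtype) (isCharacter_comp j (isIrr_isCharacter hΨ))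
    (fun φ v => by
      change Ψ (j (σ φ v)) = Ψ (j v)
      rw [hσ, hinv]) c l f hf (fun φ v => hfi φ v) h1
  let e : V ≃* j.range := MonoidHom.ofInjective hj
  have he : ∀ v, (e v : E) = j v := fun _ => rfl
  have hU : ∀ p : R, ∀ u ∈ j.range, (ρ.comp R.subtype) p u ∈ j.range := by
    rintro p _ ⟨v, rfl⟩
    exact ⟨σ p v, hσ p v⟩
  refine exS_lin hr hR hΨ (fun p x => hinv p x) j.range hU (lam.comp e.symm.toMonoidHom) (fun p u => ?_) (m := m) ?_ h4
  · obtain ⟨v, rfl⟩ := e.surjective u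
    have h5 : (⟨(ρ.comp R.subtype) p (e v), hU p (e v) (e v).2⟩ : j.range) = e (σ p v) := Subtype.ext (hσ p v).symm
    rw [h5]
    simpa using h2 p v
  · rw [← h3, ← Characters.Clifford.classInner_comp_mulEquiv e]
    congr 1
    funext v
    simp

end Cfsg.Agent.MK.Two
end
end
end
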