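import Cfsg.Agent.MK.T.D_m3
import Cfsg.Agent.GAL.C2.Cd
import Cfsg.Agent.GAL.Two.Kp
import Cfsg.Agent.MK.Y.CoreI_m3
import Cfsg.Agent.H672.Ext
import Cfsg.Agent.ODD.PW.Rows_m3
import Cfsg.Agent.MK.T.A
import Cfsg.Agent.ClassicalGeometry.SympGamma
import Cfsg.Agent.H158.PronFrame
import Cfsg.Agent.H158.PronSp
import Cfsg.Agent.FastGrp
import Cfsg.Agent.Prune
set_option linter.all false

section
prune_inst 0x7ffdfef939a84ddfffff7e3ff6d7cff9d4e2afffe6dff94bffe0e9bfaf9f230269e52b850deb58ff1e77601414b87803fb7eceffe06bdc7ffffd5ff41ffbee0fe5f73509519c88b40f386ffe83f07f8e6f3fffffffffffffffffffffffffffbeffbffbfeffff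

-- part: MK/Two/Defs
section
prune_inst 0x4010000
set_option linter.all false

/-!
# MK, characteristic two: the interface (helper58)

Plan: `notes/MK/two.md`.

* `Bo U T B D` : a Borel subgroup `B = U T` with coordinates `D`; `Js`, `TJ` : the label of a character of `B`;
  `fl lam = ∏ (1 - lam i)`;
* `Fr ι U T B D Φ R` : `X` is normal in `K = X T`, `Φ` is a group of automorphisms of `K`, `R` relates the characters of odd
  degree of `K` and `B`;
* `CF Λ Ω` : an equivariant bijection for all characters of odd degree with the extension property;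
* the boxes `BorBox`, `TiBox`, `AbBox`, `ExtBox`, `AdjBox`, `SpBox`, `DescBox` (finite groups), `RelBox`, `GenBox`, `BoxT`,
  `BoxS` (algebraic groups).
-/

set_option autoImplicit false
set_option maxHeartbeats 400000

namespace Cfsg.Agent.MK.Two

open Cfsg Subgroup Cfsg.Agent.H40.OC Cfsg.Agent.H672
open Cfsg.Agent.DL Cfsg.Agent.DL.PP Cfsg.Agent.ODD.C2 Cfsg.Agent.Tits.Roots Cfsg.Agent.GAL.C2
open scoped ComplexConjugate

/-! ### finite groups -/

section fin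

variable {X K I : Type} [Group X] [Group K]

/-- the scalar product -/
noncomputable def ip {H : Type} [Group H] [Finite H] (φ ψ : H → ℂ) : ℂ :=
  letI := Fintype.ofFinite H
  classInner φ ψ

theorem ip_eq {H : Type} [Group H] [Fintype H] (φ ψ : H → ℂ) : ip φ ψ = classInner φ ψ := by
  unfold ip
  congr 1
  exact Subsingleton.elim _ _

/-- a Borel subgroup -/
structure Bo (U T B : Subgroup K) (D : I → Subgroup K) : Prop where
  sys : Sys U T D
  two : IsPGroup 2 U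
  odd : Odd (Nat.card T)
  comm : ∀ s ∈ T, ∀ t ∈ T, s * t = t * s
  mem : ∀ b, b ∈ B ↔ ∃ u ∈ U, ∃ t ∈ T, b = u * t
  hn : ∀ f : U →* ℂˣ, ∀ u : U, (∀ i, (u : K) ∈ D i) → f u = 1
  lam : ∃ lam, Lam U D lam

theorem Bo.uB {U T B : Subgroup K} {D : I → Subgroup K} (h : Bo U T B D) : U ≤ B :=
  fun u hu => (h.mem u).2 ⟨u, hu, 1, one_mem _, (mul_one u).symm⟩

theorem Bo.tB {U T B : Subgroup K} {D : I → Subgroup K} (h : Bo U T B D) : T ≤ B :=
  fun t ht => (h.mem t).2 ⟨1, one_mem _, t, ht, (one_mul t).symm⟩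

/-- the coordinates on which `ψ` is not trivial -/
def Js (U B : Subgroup K) (D : I → Subgroup K) (ψ : B → ℂ) : Set I :=
  {i | ∃ u : B, (u : K) ∈ U ∧ (∀ j, j ≠ i → (u : K) ∈ D j) ∧ ψ u ≠ ψ 1}

/-- the elements of `T` which act trivially on the coordinates in `J` -/
def TJ (U T : Subgroup K) (D : I → Subgroup K) (J : Set I) : Set K :=
  {t | t ∈ T ∧ ∀ i ∈ J, ∀ u ∈ U, u⁻¹ * (t * u * t⁻¹) ∈ D i}

/-- the virtual character `∑ (-1) ^ |J| psi lam J` -/
noncomputable def fl [Fintype I] {U : Subgroup K} (lam : I → (U →* ℂˣ)) : U → ℂ := fun u => ∏ i, (1 - (lam i u : ℂ))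

/-- the frame -/
structure Fr (ι : X →* K) (U T B : Subgroup K) (D : I → Subgroup K) (Φ : Subgroup (MulAut K))
    (R : (K → ℂ) → (B → ℂ) → Prop) : Prop where
  bo : Bo U T B D
  inj : Function.Injective ι
  nrm : ι.range.Normal
  uX : U ≤ ι.range
  spl : ∀ k, ∃ x, ∃ t ∈ T, k = ι x * t
  ti : ∀ u ∈ U, (∀ i, u ∉ D i) → ∀ g, g⁻¹ * u * g ∈ U → g ∈ B
  mr : ∀ [Fintype U] (χ : K → ℂ), OI K χ → Complex.normSq (mr U D χ) = 1
  cen : ∀ t ∈ TJ U T D Set.univ, t ∈ center K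
  zX : ∀ z ∈ center X, ι z ∈ center K
  cX : ∀ b ∈ B, (∀ x, b * ι x = ι x * b) → b ∈ center K
  φX : ∀ φ ∈ Φ, ∀ x, φ (ι x) ∈ ι.range
  φU : ∀ φ ∈ Φ, ∀ u ∈ U, φ u ∈ U
  φT : ∀ φ ∈ Φ, ∀ t ∈ T, φ t ∈ T
  φD : ∀ φ ∈ Φ, ∃ σ : Equiv.Perm I, ∀ i, ∀ u ∈ U, φ u ∈ D (σ i) ↔ u ∈ D i
  fa : ∀ φ ∈ Φ, ∀ b ∈ B, (∀ x, φ (ι x) = b * ι x * b⁻¹) → φ = 1
  ex : ∀ ψ, OI B ψ → ∃ χ, OI K χ ∧ R χ ψ
  un : ∀ χ ψ ψ', OI K χ → OI B ψ → OI B ψ' → R χ ψ → R χ ψ' → ψ = ψ'
  aut : ∀ φ ∈ Φ, ∀ χ ψ ψ', OI K χ → OI B ψ → R χ ψ → (∀ b b' : B, (b' : K) = φ b → ψ' b = ψ b') →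
    R (fun g => χ (φ g)) ψ'
  tw : ∀ β : K →* ℂˣ, (∀ x, β (ι x) = 1) → ∀ χ ψ, OI K χ → OI B ψ → R χ ψ →
    R (fun g => β g * χ g) fun b => β b * ψ b
  cz : ∀ χ ψ, OI K χ → OI B ψ → R χ ψ → ∀ z : B, (z : K) ∈ center K → χ z * ψ 1 = ψ z * χ 1

/-- `Λ` consists of the automorphisms of `X` which are induced by `B Φ` -/
def IsL (ι : X →* K) (B : Subgroup K) (Φ : Subgroup (MulAut K)) (Λ : Subgroup (MulAut X)) : Prop :=
  ∀ α, α ∈ Λ ↔ ∃ b ∈ B, ∃ φ ∈ Φ, ∀ x, ι (α x) = b * φ (ι x) * b⁻¹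

/-- `ExtOn` with a finite group -/
def ExtF (Λ S : Subgroup (MulAut X)) (θ : X → ℂ) (ψ : In Λ → ℂ) : Prop :=
  ∃ (A : Type) (_ : Group A) (_ : Finite A) (j : X × In Λ →* A) (t : S →* A) (Ψ : A → ℂ), IsIrrCharacter A Ψ ∧
    (∀ x y, Ψ (j (x, y)) = θ x * conj (ψ y)) ∧
    (∀ (α : S) (x : X) (y y' : In Λ), (y' : X) = α.1 y → t α * j (x, y) = j (α.1 x, y') * t α) ∧
    ∀ (y : In Λ) (h : MulAut.conj (y : X) ∈ S), t ⟨_, h⟩ = j (y, y)

/-- `CD` for all characters of odd degree -/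
structure CF (Λ : Subgroup (MulAut X)) (Ω : (X → ℂ) → In Λ → ℂ) : Prop where
  bij : Set.BijOn Ω {θ | OI X θ} {ψ | OI (In Λ) ψ}
  cen : ∀ θ, OI X θ → ∀ z : In Λ, (z : X) ∈ center X → θ z * Ω θ 1 = Ω θ z * θ 1
  eqv : ∀ θ, OI X θ → ∀ (α : Λ) (y : In Λ), Ω (fun x => θ (α.1 x)) y = Ω θ (rs Λ α y)
  ext : ∀ θ, OI X θ → ExtF Λ (St Λ θ) θ (Ω θ)

end fin

/-- **the characters of the Borel subgroup** -/
def BorBox : Prop :=
  ∀ {K I : Type} [Group K] [Finite K] [Fintype I] {U T B : Subgroup K} {D : I → Subgroup K} (h : Bo U T B D),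
    (∀ ψ, OI B ψ → ∃ μ : T →* ℂˣ, ∀ t : T, (t : K) ∈ TJ U T D (Js U B D ψ) → ψ ⟨t, h.tB t.2⟩ = μ t * ψ 1) ∧
    (∀ ψ ψ', OI B ψ → OI B ψ' → Js U B D ψ = Js U B D ψ' →
      (∀ t : B, (t : K) ∈ TJ U T D (Js U B D ψ) → ψ t * ψ' 1 = ψ' t * ψ 1) → ψ = ψ') ∧
    ∀ lam, Lam U D lam →
      (∀ ψ, OI B ψ → ∀ J : Finset I, ((J : Set I) = Js U B D ψ →
        ip (ψ ∘ inclusion h.uB) (fun u => (psi lam J u : ℂ)) = 1) ∧ ((J : Set I) ≠ Js U B D ψ →
        ip (ψ ∘ inclusion h.uB) (fun u => (psi lam J u : ℂ)) = 0)) ∧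
      (∀ ψ, IsIrrCharacter B ψ → ∀ l : U →* ℂˣ, ip (ψ ∘ inclusion h.uB) (fun u => (l u : ℂ)) ≠ 0 → OI B ψ) ∧
      (∀ lam', Lam U D lam' → ∃ t ∈ T, ∀ i, ∀ u u' : U, (u' : K) = t * u * t⁻¹ → lam' i u = lam i u') ∧
      ∀ t ∈ T, ∀ i, (∀ u u' : U, (u' : K) = t * u * t⁻¹ → lam i u' = lam i u) → t ∈ TJ U T D {i}

/-- **the isometry** -/
def TiBox : Prop :=
  ∀ {H V : Type} [Group H] [Group V] [Finite H] [Finite V] (M : Subgroup H) (j : V →* M) (f : V → ℂ),
    (∀ v, f v ≠ 0 → ∀ (g : H) (v' : V), g⁻¹ * j v * g = j v' → g ∈ M) →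
    ∑ᶠ θ : IrrCharacter H, Complex.normSq (ip (fun v => (θ : H → ℂ) (j v)) f) =
      ∑ᶠ ψ : IrrCharacter M, Complex.normSq (ip (fun v => (ψ : M → ℂ) (j v)) f)

/-- **abelian quotients, multiplicity one** -/
def AbBox : Prop :=
  ∀ {H S : Type} [Group H] [Group S] [Finite H] [Finite S] (ι : S →* H), Function.Injective ι → ι.range.Normal →
    (∀ a b : H, (a * b)⁻¹ * (b * a) ∈ ι.range) → ∀ (χ : H → ℂ) (θ : S → ℂ), IsIrrCharacter H χ → IsIrrCharacter S θ →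
    ip (χ ∘ ι) θ = 1 → ∀ L : Subgroup H, (∀ g, g ∈ L ↔ ∀ s s', ι s' = g * ι s * g⁻¹ → θ s' = θ s) →
    (∃ η : L → ℂ, IsIrrCharacter L η ∧ (∀ s (g : L), (g : H) = ι s → η g = θ s) ∧ ip (χ ∘ L.subtype) η ≠ 0 ∧
      ∀ η' : L → ℂ, IsIrrCharacter L η' → (∀ s (g : L), (g : H) = ι s → η' g = θ s) →
        ip (χ ∘ L.subtype) η' ≠ 0 → η' = η) ∧
    ∀ β : H →* ℂˣ, (∀ s, β (ι s) = 1) → ((∀ g, β g * χ g = χ g) ↔ ∀ g ∈ L, β g = 1)

/-- **extension to a semidirect product** -/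
def ExtBox : Prop :=
  ∀ {E Φ V : Type} [Group E] [Group Φ] [Group V] [Finite E] [Finite Φ] [Finite V] (ρ : Φ →* MulAut E)
    (σ : Φ →* MulAut V) (j : V →* E), Function.Injective j → (∀ φ v, j (σ φ v) = ρ φ (j v)) →
    ∀ Ψ : E → ℂ, IsIrrCharacter E Ψ → (∀ φ e, Ψ (ρ φ e) = Ψ e) →
    ∀ {n : Type} [Fintype n] (c : n → ℤ) (l : n → (V →* ℂˣ)) (f : V → ℂ), (∀ v, f v = ∑ i, c i * (l i v : ℂ)) →
    (∀ φ v, f (σ φ v) = f v) → Complex.normSq (ip (Ψ ∘ j) f) = 1 →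
    ∃ Ψ' : E ⋊[ρ] Φ → ℂ, IsIrrCharacter _ Ψ' ∧ ∀ e, Ψ' (SemidirectProduct.inl e) = Ψ e

/-- **the complement can be chosen such that it fixes `fl lam`** -/
def AdjBox : Prop :=
  ∀ {X K I : Type} [Group X] [Group K] [Finite K] [Fintype I] {ι : X →* K} {U T B : Subgroup K} {D : I → Subgroup K}
    {Φ : Subgroup (MulAut K)} {R : (K → ℂ) → (B → ℂ) → Prop}, Fr ι U T B D Φ R → ∀ lam, Lam U D lam →
    ∃ Φ', Fr ι U T B D Φ' R ∧ (∀ Λ, IsL ι B Φ Λ → IsL ι B Φ' Λ) ∧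
      ∀ φ ∈ Φ', ∀ u u' : U, (u' : K) = φ u → fl lam u' = fl lam u

/-- **the bijection** -/
def SpBox : Prop :=
  ∀ {X K I : Type} [Group X] [Group K] [Finite K] [Fintype I] {ι : X →* K} {U T B : Subgroup K} {D : I → Subgroup K}
    {Φ : Subgroup (MulAut K)} {R : (K → ℂ) → (B → ℂ) → Prop}, Fr ι U T B D Φ R →
    ∀ Λ, IsL ι B Φ Λ → ∃ Ω, CF Λ Ω

/-- **descent to a central quotient and to a subgroup** -/
def DescBox : Prop :=
  ∀ {X' X : Type} [Group X'] [Group X] [Finite X'] (π : X' →* X), Function.Surjective π → π.ker ≤ center X' →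
    commutator X' = ⊤ → ∀ (Λ' : Subgroup (MulAut X')) (Ω : (X' → ℂ) → In Λ' → ℂ), CF Λ' Ω →
    ∀ Λ : Subgroup (MulAut X), (∀ α ∈ Λ, ∃ α' ∈ Λ', ∀ x, π (α' x) = α (π x)) → (∀ y, y ∈ In Λ' ↔ π y ∈ In Λ) →
    ∀ l, ∃ Ω', CD Λ l Ω'

/-! ### algebraic groups -/

/-- **the relation between the characters of `G^F` and `B^F`** -/
def RelBox : Prop :=
  ∀ {k : Type} [Field k] [CharP k 2] {Y : Type} [Group Y] {N : Type} [Fintype N] [DecidableEq N] {ρ : Y →* GL N k}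
    {F : MulAut Y} {G : Subgroup Y} [IsAlgClosed k] {D : Datum 2 ρ F G}, Good D →
    ∀ B : Subgroup (GF F G), Bo (UH D) (TH D) B (Do D) → ∃ R : (GF F G → ℂ) → (B → ℂ) → Prop,
    (∀ ψ, OI B ψ → ∃ χ, OI _ χ ∧ R χ ψ) ∧
    (∀ χ ψ ψ', OI _ χ → OI B ψ → OI B ψ' → R χ ψ → R χ ψ' → ψ = ψ') ∧
    (∀ α A π ε (h : Sym D α A π ε), ∀ χ ψ ψ', OI _ χ → OI B ψ → R χ ψ →
      (∀ b b' : B, (b' : GF F G) = h.au.aut b → ψ' b = ψ b') → R (fun g => χ (h.au.aut g)) ψ') ∧
    (∀ β : GF F G →* ℂˣ, (∀ g : GF F G, (g : Y) ∈ GAL.C2.Gd D → β g = 1) → (∀ g : GF F G, Uni.IsUni 2 (g : Y) → β g = 1) →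
      ∀ χ ψ, OI _ χ → OI B ψ → R χ ψ → R (fun g => β g * χ g) fun b => β b * ψ b) ∧
    ∀ χ ψ, OI _ χ → OI B ψ → R χ ψ → ∀ z : B, ((z : GF F G) : Y) ∈ Zc D → χ z * ψ 1 = ψ z * χ 1

/-- all situations are good -/
def GdA (X : Type) [Group X] : Prop := ∀ Γ : Subgroup (MulAut X), MK.Sit X Γ → MK.Gd X Γ

section alg

variable {k : Type} [Field k] [CharP k 2] {Y : Type} [Group Y] {N : Type} [Fintype N] [DecidableEq N]
  {ρ : Y →* GL N k} {F : MulAut Y} {G : Subgroup Y} [IsAlgClosed k] (D : Datum 2 ρ F G)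
  {X' S X : Type} [Group X'] [Group S] [Group X] (ι : X' →* Y) (pr : X' →* S) (π : X' →* X)

/-- the model: `X'` is a normal subgroup of `G^F`, `S = X' / Z(X')`, `X` is a central quotient of `X'`; the group of the
diagonal automorphisms has order at least `d` and `|Out S| ≤ d m` -/
structure Mo (d m : ℕ) : Prop where
  md : Md D ι pr
  zS : center S = ⊥
  perf : commutator X' = ⊤
  surj : Function.Surjective π
  ker : π.ker ≤ center X'
  dg : ∃ t ∈ GF F G, ∀ (i : ℕ) (x : X'), ∀ z ∈ Zc D, t ^ i = ι x * z → d ∣ i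
  card : Nat.card (MulAut S) ≤ Nat.card S * d * m

end alg

/-- **the generic theorem** -/
def GenBox : Prop :=
  ∀ {k : Type} [Field k] [CharP k 2] {Y : Type} [Group Y] {N : Type} [Fintype N] [DecidableEq N] {ρ : Y →* GL N k}
    {F : MulAut Y} {G : Subgroup Y} [IsAlgClosed k] {D : Datum 2 ρ F G} {X' S X : Type} [Group X'] [Group S] [Group X]
    [Finite X] {ι : X' →* Y} {pr : X' →* S} {π : X' →* X} {P : Type} [Fintype P] [Nonempty P] {d : ℕ},
    Mo D ι pr π d (Fintype.card P) →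
    ∀ {α : P → MulAut Y} {A : P → Matrix D.R D.R ℤ} {s : P → Equiv.Perm D.I} {ε : P → D.I → ℕ},
    (∀ p, Sym D (α p) (A p) (s p) (ε p)) → (∀ p x, α p (ι x) ∈ ι.range) →
    (∀ p p', ∃ p'', ∀ g ∈ GF F G, α p (α p' g) = α p'' g) →
    (∀ p p', (∀ y : D.I → k, FixT D.σ (fun i => D.ex (sr i)) y → ∀ i j, s p i = s p' j →
      y i ^ 2 ^ ε p i = y j ^ 2 ^ ε p' j) → p = p') → GdA X

/-- field automorphisms only: a cyclic group of order `n` -/
def BoxT : Prop :=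
  ∀ {k : Type} [Field k] [CharP k 2] {Y : Type} [Group Y] {N : Type} [Fintype N] [DecidableEq N] {ρ : Y →* GL N k}
    {F : MulAut Y} {G : Subgroup Y} [IsAlgClosed k] {D : Datum 2 ρ F G} {X' S X : Type} [Group X'] [Group S] [Group X]
    [Finite X] {ι : X' →* Y} {pr : X' →* S} {π : X' →* X} {d n : ℕ}, Mo D ι pr π d n →
    ∀ {φ : MulAut Y} {A : Matrix D.R D.R ℤ}, Sym D φ A 1 (fun _ => 1) → (∀ x, φ (ι x) ∈ ι.range) →
    (∀ g ∈ GF F G, (φ ^ n) g = g) →
    (∃ j, ∀ a : k, a ^ 2 ^ n = a → ∃ y, FixT D.σ (fun i => D.ex (sr i)) y ∧ y j = a) → GdA X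

/-- split groups: field automorphisms `φ` and representatives `ψ w` of the graph automorphisms -/
def BoxS : Prop :=
  ∀ {k : Type} [Field k] [CharP k 2] {Y : Type} [Group Y] {N : Type} [Fintype N] [DecidableEq N] {ρ : Y →* GL N k}
    {F : MulAut Y} {G : Subgroup Y} [IsAlgClosed k] {D : Datum 2 ρ F G} {X' S X : Type} [Group X'] [Group S] [Group X]
    [Finite X] {ι : X' →* Y} {pr : X' →* S} {π : X' →* X} {P : Type} [Fintype P] [Nonempty P] {d e : ℕ},
    Mo D ι pr π d (Fintype.card P * e) → Nonempty D.I → D.σ = 1 → (∀ i, D.ex (sr i) = e) →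
    ∀ {φ : MulAut Y} {A : Matrix D.R D.R ℤ}, Sym D φ A 1 (fun _ => 1) → (∀ x, φ (ι x) ∈ ι.range) →
    (∀ g ∈ GF F G, (φ ^ e) g = g) →
    ∀ {ψ : P → MulAut Y} {B : P → Matrix D.R D.R ℤ} {s : P → Equiv.Perm D.I} {ε : P → D.I → ℕ},
    (∀ p, Sym D (ψ p) (B p) (s p) (ε p)) → (∀ p x, ψ p (ι x) ∈ ι.range) → Function.Injective s →
    (∀ p, ∀ g ∈ GF F G, ψ p (φ g) = φ (ψ p g)) →
    (∀ p p', ∃ (p'' : P) (i : ℕ), ∀ g ∈ GF F G, ψ p (ψ p' g) = (φ ^ i) (ψ p'' g)) → GdA X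

/-- the two forms -/
structure Boxes : Prop where
  t : BoxT
  s : BoxS

end Cfsg.Agent.MK.Two
end

-- part: MK/Two/Box
section
set_option linter.all false
open scoped Cfsg.Agent.FastGrp

/-!
# MK, characteristic two: the two forms of the generic theorem (helper52)

* `boxT`, `boxS`, `boxes_of : GenBox → Boxes`.
-/

set_option autoImplicit false
set_option maxHeartbeats 400000
set_option linter.unusedSectionVars false

namespace Cfsg.Agent.MK.Two

open Cfsg Subgroup Cfsg.Agent.GAL.Two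
open Cfsg.Agent.DL Cfsg.Agent.DL.PP Cfsg.Agent.Tits.Roots Cfsg.Agent.GAL.C2

section

variable {k : Type} [Field k] [CharP k 2] [IsAlgClosed k]

theorem frob_inj {a b : k} {n : ℕ} (h : a ^ 2 ^ n = b ^ 2 ^ n) : a = b :=
  (iterateFrobenius k 2 n).injective h

theorem eq_of_pow_eq {i j n : ℕ} (hi : i < n) (hj : j < n) (h : ∀ a : k, a ^ 2 ^ n = a → a ^ 2 ^ i = a ^ 2 ^ j) :
    i = j := by
  wlog hij : i ≤ j generalizing i j
  · exact (this hj hi (fun a ha => (h a ha).symm) (by omega)).symm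
  obtain ⟨m, rfl⟩ := Nat.exists_eq_add_of_le' hij
  by_contra h1
  obtain ⟨y, h2, h3⟩ := exists_not_pow (k := k) (i := m) (n := n) (by omega) (by omega)
  exact h3 (frob_inj (n := i) (by rw [← pow_mul, ← pow_add, h y h2]))

variable {Y : Type} [Group Y] {N : Type} [Fintype N] [DecidableEq N]
  {ρ : Y →* GL N k} {F : MulAut Y} {G : Subgroup Y} {D : Datum 2 ρ F G}
  {X' S X : Type} [Group X'] [Group S] [Group X] {ι : X' →* Y} {pr : X' →* S} {π : X' →* X}

theorem Mo.ne_zero {d m : ℕ} (H : Mo D ι pr π d m) : m ≠ 0 := fun h => by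
  have := (md_cx H.md).finS
  have h1 := H.card
  rw [h, mul_zero] at h1
  exact absurd h1 (not_le.2 Nat.card_pos)

theorem pow_range {φ : MulAut Y} (h : ∀ x, φ (ι x) ∈ ι.range) (n : ℕ) (x : X') : (φ ^ n) (ι x) ∈ ι.range := by
  induction n with
  | zero => exact ⟨x, rfl⟩
  | succ n ih =>
    obtain ⟨y, hy⟩ := ih
    rw [pow_succ', MulAut.mul_apply, ← hy]
    exact h y

theorem pow_mod_apply {φ : MulAut Y} {n : ℕ} {g : Y} (h : (φ ^ n) g = g) (i : ℕ) : (φ ^ i) g = (φ ^ (i % n)) g := by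
  have h1 : ∀ m, ((φ ^ n) ^ m) g = g := fun m => by
    induction m with
    | zero => rfl
    | succ m ih => rw [pow_succ, MulAut.mul_apply, h, ih]
  conv_lhs => rw [← Nat.mod_add_div i n, pow_add, pow_mul, MulAut.mul_apply, h1]

end

theorem boxT (H : GenBox) : BoxT := by
  intro k _ _ Y _ N _ _ ρ F G _ D X' S X _ _ _ _ ι pr π d n M φ A hφ hr h1 ⟨j, hj⟩
  have : NeZero n := ⟨M.ne_zero⟩
  refine H (P := Fin n) (by rwa [Fintype.card_fin]) (fun i => sym_pow hφ i) (fun i => pow_range hr i)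
    (fun i i' => ⟨⟨(i + i') % n, Nat.mod_lt _ (NeZero.pos n)⟩, fun g hg => ?_⟩) fun i i' h2 => Fin.ext ?_
  · rw [← MulAut.mul_apply, ← pow_add, pow_mod_apply (h1 g hg)]
  · refine eq_of_pow_eq (k := k) i.2 i'.2 fun a ha => ?_
    obtain ⟨y, hy, rfl⟩ := hj a ha
    simpa only [one_mul] using h2 y hy j j rfl

theorem boxS (H : GenBox) : BoxS := by
  intro k _ _ Y _ N _ _ ρ F G _ D X' S X _ _ _ _ ι pr π P _ _ d e M ⟨j⟩ hσ he φ A hφ hr h1 ψ B s ε hψ hr' hs hc hm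
  classical
  have : NeZero e := ⟨fun h => M.ne_zero (by rw [h, mul_zero])⟩
  have h0 : ∀ p (i : ℕ), ∀ g ∈ GF F G, ψ p ((φ ^ i) g) = (φ ^ i) (ψ p g) := fun p i g hg => by
    induction i with
    | zero => rfl
    | succ i ih => rw [pow_succ', MulAut.mul_apply, MulAut.mul_apply, hc p _ ((sym_pow hφ i).mem_GF hg), ih]
  have hT : ∀ y : D.I → k, (∀ i, y i ^ 2 ^ e = y i) → FixT D.σ (fun i => D.ex (sr i)) y := fun y hy i => by
    rw [hσ]
    exact (hy i).symm.trans (by rw [← he i])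
  refine H (P := P × Fin e) (by rwa [Fintype.card_prod, Fintype.card_fin]) (fun x => (sym_pow hφ x.2).mul (hψ x.1))
    (fun x y => ?_) (fun x x' => ?_) fun x x' h2 => ?_
  · obtain ⟨z, hz⟩ := hr' x.1 y
    rw [MulAut.mul_apply, ← hz]
    exact pow_range hr _ z
  · obtain ⟨p, i, h2⟩ := hm x.1 x'.1
    refine ⟨(p, ⟨(x.2 + (x'.2 + i)) % e, Nat.mod_lt _ (NeZero.pos e)⟩), fun g hg => ?_⟩
    simp only [MulAut.mul_apply]
    rw [h0 _ _ _ ((hψ _).mem_GF hg), h2 g hg, ← pow_mod_apply (h1 _ ((hψ _).mem_GF hg)), pow_add, pow_add,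
      MulAut.mul_apply, MulAut.mul_apply]
  · obtain ⟨p, i⟩ := x
    obtain ⟨p', i'⟩ := x'
    obtain rfl : p = p' := hs (Equiv.ext fun a => by
      obtain ⟨b, hb⟩ := (s p').surjective (s p a)
      have h3 := h2 (Pi.single a 1) (hT _ fun i => by
        rw [Pi.single_apply]
        split_ifs <;> simp) a b hb.symm
      by_contra h4
      rw [Pi.single_eq_same, Pi.single_eq_of_ne fun h5 => h4 (by rw [← hb, h5])] at h3
      simp at h3)
    refine Prod.ext rfl (Fin.ext (eq_of_pow_eq (k := k) i.2 i'.2 fun a ha => frob_inj (n := ε p j) ?_))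
    have h3 := h2 (fun _ => a) (hT _ fun _ => ha) j j rfl
    simp only [one_mul] at h3
    rwa [← pow_mul, ← pow_mul, ← pow_add, ← pow_add, add_comm, add_comm i'.1]

/-- **the two forms from the generic theorem** -/
theorem boxes_of (H : GenBox) : Boxes := ⟨boxT H, boxS H⟩

end Cfsg.Agent.MK.Two
end

-- part: MK/Two/Desc
section
prune_inst 0x4010000
set_option linter.all false
open scoped Cfsg.Agent.FastGrp

/-!
# MK, characteristic two: descent to a central quotient and to a subgroup (helper38)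

`descBox : DescBox`.
-/

set_option autoImplicit false
set_option maxHeartbeats 400000

namespace Cfsg.Agent.MK.Two

open Cfsg Subgroup Cfsg.Agent.Characters.Core
open scoped ComplexConjugate

namespace Desc

variable {X' X : Type} [Group X'] [Group X]

/-- a homomorphism factors through a surjective one -/
theorem exists_fac {G H A : Type} [Group G] [Group H] [Group A] (φ : G →* H) (hφ : Function.Surjective φ)
    (g : G →* A) (hk : ∀ z, φ z = 1 → g z = 1) : ∃ g' : H →* A, ∀ x, g' (φ x) = g x :=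
  ⟨φ.liftOfRightInverse (Function.surjInv hφ) (Function.rightInverse_surjInv hφ) ⟨g, fun z hz => hk z hz⟩,
    fun x => φ.liftOfRightInverse_comp_apply _ _ _ x⟩

/-- two endomorphisms of a perfect group which differ by central elements are equal -/
theorem eq_of_cen (hp : commutator X' = ⊤) (a b : X' →* X') (h : ∀ x, (a x)⁻¹ * b x ∈ center X') (x : X') :
    a x = b x := by
  let c : X' →* X' := MonoidHom.mk' (fun x => (a x)⁻¹ * b x) fun x y => by
    rw [← mul_assoc, ← mem_center_iff.1 (h x) (a y)⁻¹, map_mul, map_mul, mul_inv_rev]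
    simp only [mul_assoc]
  have h1 : commutator X' ≤ c.ker := Subgroup.commutator_le.2 fun u _ v _ => by
    rw [MonoidHom.mem_ker, map_commutatorElement, commutatorElement_eq_one_iff_mul_comm]
    exact mem_center_iff.1 (h v) _
  exact inv_mul_eq_one.1 (MonoidHom.mem_ker.1 (h1 (hp ▸ mem_top x)))

/-- the data of the box -/
structure Dt (π : X' →* X) (Λ' : Subgroup (MulAut X')) (Λ : Subgroup (MulAut X)) : Prop where
  surj : Function.Surjective π
  ker : π.ker ≤ center X'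
  perf : commutator X' = ⊤
  lift : ∀ α ∈ Λ, ∃ α' ∈ Λ', ∀ x, π (α' x) = α (π x)
  inn : ∀ y, y ∈ In Λ' ↔ π y ∈ In Λ

theorem cen_mem (Λ' : Subgroup (MulAut X')) {z : X'} (hz : z ∈ center X') : z ∈ In Λ' := by
  have h1 : MulAut.conj z = 1 := MulEquiv.ext fun x => by
    change z * x * z⁻¹ = x
    rw [← mem_center_iff.1 hz x, mul_inv_cancel_right]
  change MulAut.conj z ∈ Λ'
  rw [h1]
  exact one_mem _

namespace Dt

variable {π : X' →* X} {Λ' : Subgroup (MulAut X')} {Λ : Subgroup (MulAut X)} (d : Dt π Λ' Λ)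

include d

/-- lifts are unique -/
theorem uniq {a b : MulAut X'} (h : ∀ x, π (a x) = π (b x)) : a = b :=
  MulEquiv.ext (eq_of_cen d.perf a.toMonoidHom b.toMonoidHom fun x => d.ker (by
    change π ((a x)⁻¹ * b x) = 1
    rw [map_mul, map_inv, h, inv_mul_cancel]))

/-- the preimage of the centre is the centre -/
theorem cen {z : X'} (hz : π z ∈ center X) : z ∈ center X' := by
  have h1 : MulAut.conj z = 1 := d.uniq fun x => by
    change π (z * x * z⁻¹) = π x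
    rw [map_mul, map_mul, map_inv, ← mem_center_iff.1 hz, mul_inv_cancel_right]
  refine mem_center_iff.2 fun x => ?_
  have h2 : z * x * z⁻¹ = x := MulEquiv.congr_fun h1 x
  exact (mul_inv_eq_iff_eq_mul.1 h2).symm

/-- the restriction of `π` -/
def p : In Λ' →* In Λ := (π.comp (In Λ').subtype).codRestrict (In Λ) fun y => (d.inn y).1 y.2

theorem p_coe (y : In Λ') : (d.p y : X) = π y := rfl

theorem p_surj : Function.Surjective d.p := by
  intro y
  obtain ⟨x, hx⟩ := d.surj y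
  exact ⟨⟨x, (d.inn x).2 (hx ▸ y.2)⟩, Subtype.ext hx⟩

/-- the lift of an automorphism -/
noncomputable def L : Λ →* Λ' :=
  MonoidHom.mk' (fun α => ⟨(d.lift α.1 α.2).choose, (d.lift α.1 α.2).choose_spec.1⟩) fun α β => Subtype.ext (d.uniq fun x => by
    change π ((d.lift _ (α * β).2).choose x) = π ((d.lift _ α.2).choose ((d.lift _ β.2).choose x))
    rw [(d.lift _ (α * β).2).choose_spec.2, (d.lift _ α.2).choose_spec.2, (d.lift _ β.2).choose_spec.2]
    rfl)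

theorem L_spec (α : Λ) (x : X') : π ((d.L α).1 x) = α.1 (π x) := (d.lift α.1 α.2).choose_spec.2 x

theorem p_rs (α : Λ) (y : In Λ') : d.p (rs Λ' (d.L α) y) = rs Λ α (d.p y) := Subtype.ext (d.L_spec α y)

/-- the descended map -/
noncomputable def om (Ω : (X' → ℂ) → In Λ' → ℂ) (θ : X → ℂ) : In Λ → ℂ :=
  fun y => Ω (θ ∘ π) (Function.surjInv d.p_surj y)

variable [Finite X'] {Ω : (X' → ℂ) → In Λ' → ℂ} (c : CF Λ' Ω)

include c

theorem om_spec {θ : X → ℂ} (h : OI X θ) : OI (In Λ) (d.om Ω θ) ∧ ∀ y, d.om Ω θ (d.p y) = Ω (θ ∘ π) y := by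
  have h1 : OI X' (θ ∘ π) := h.comp π d.surj
  have h2 : OI (In Λ') (Ω (θ ∘ π)) := c.bij.mapsTo h1
  obtain ⟨η, hη, he⟩ := ODD.Red.exists_quot d.p d.p_surj h2.1 fun z hz => by
    have h3 : π z = 1 := congrArg Subtype.val (show d.p z = 1 from hz)
    have h4 := c.cen _ h1 z (d.ker h3)
    simp only [Function.comp, h3, map_one] at h4
    rw [mul_comm] at h4
    exact (mul_right_cancel₀ h.one_ne h4).symm
  have h5 : d.om Ω θ = η := funext fun y => by
    rw [om, ← he, Function.surjInv_eq d.p_surj]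
  rw [h5]
  refine ⟨⟨hη, ?_⟩, he⟩
  rw [← deg_comp d.p η, show η ∘ d.p = Ω (θ ∘ π) from funext he]
  exact h2.2

theorem om_cen {θ : X → ℂ} (h : OI X θ) (z : In Λ) (hz : (z : X) ∈ center X) :
    θ z * d.om Ω θ 1 = d.om Ω θ z * θ 1 := by
  obtain ⟨y, rfl⟩ := d.p_surj z
  have h4 := c.cen _ (h.comp π d.surj) y (d.cen hz)
  rw [← map_one d.p, (d.om_spec c h).2, (d.om_spec c h).2]
  simpa only [Function.comp, map_one, p_coe] using h4

omit c in
theorem oi_aut {θ : X → ℂ} (h : OI X θ) (α : MulAut X) : OI X fun x => θ (α x) :=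
  haveI : Finite X := Finite.of_surjective π d.surj
  h.comp α.toMonoidHom α.surjective

theorem om_eqv {θ : X → ℂ} (h : OI X θ) (α : Λ) (y : In Λ) :
    d.om Ω (fun x => θ (α.1 x)) y = d.om Ω θ (rs Λ α y) := by
  obtain ⟨y, rfl⟩ := d.p_surj y
  rw [← d.p_rs, (d.om_spec c h).2, (d.om_spec c (d.oi_aut h α.1)).2, ← c.eqv _ (h.comp π d.surj)]
  congr 1
  funext x
  simp only [Function.comp, d.L_spec]

theorem om_inj {θ θ' : X → ℂ} (h : OI X θ) (h' : OI X θ') (e : d.om Ω θ = d.om Ω θ') : θ = θ' := by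
  refine d.surj.injective_comp_right (c.bij.injOn (h.comp π d.surj) (h'.comp π d.surj) (funext fun y => ?_))
  rw [← (d.om_spec c h).2, ← (d.om_spec c h').2, e]

theorem om_surj {ψ : In Λ → ℂ} (h : OI (In Λ) ψ) : ∃ θ, OI X θ ∧ d.om Ω θ = ψ := by
  obtain ⟨θ₀, h0, e⟩ := c.bij.surjOn (h.comp d.p d.p_surj)
  obtain ⟨θ, hθ, he⟩ := ODD.Red.exists_quot π d.surj h0.1 fun z hz => by
    have h3 : d.p ⟨z, cen_mem Λ' (d.ker hz)⟩ = 1 := Subtype.ext hz
    have h4 := c.cen _ h0 ⟨z, cen_mem Λ' (d.ker hz)⟩ (d.ker hz)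
    rw [e] at h4
    simp only [Function.comp, h3, map_one] at h4
    rw [mul_comm (ψ 1)] at h4
    exact mul_right_cancel₀ h.one_ne h4
  have he' : θ ∘ π = θ₀ := funext he
  have h1 : OI X θ := ⟨hθ, by rw [← deg_comp π θ, he']; exact h0.2⟩
  refine ⟨θ, h1, funext fun y => ?_⟩
  obtain ⟨y, rfl⟩ := d.p_surj y
  rw [(d.om_spec c h1).2, he', e]
  rfl

theorem om_ext {θ : X → ℂ} (h : OI X θ) : ExtOn Λ (St Λ θ) θ (d.om Ω θ) := by
  obtain ⟨A, _, _, j, t, Ψ, ⟨n, ρ, -, rfl⟩, h1, h2, h3⟩ := c.ext _ (h.comp π d.surj)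
  let u : A →* (Module.End ℂ (Fin n → ℂ))ˣ := MonoidHom.toHomUnits ρ
  have hs : Function.Surjective (π.prodMap d.p) := d.surj.prodMap d.p_surj
  obtain ⟨j', hj⟩ := exists_fac (π.prodMap d.p) hs (u.comp j) fun z hz => by
    obtain ⟨x, y⟩ := z
    have h4 : π x = 1 := congrArg Prod.fst hz
    have h5 : d.p y = 1 := congrArg Prod.snd hz
    have h6 : ρ.character (j (x, y)) = ρ.character 1 := by
      rw [← map_one j, ← Prod.mk_one_one, h1, h1, ← (d.om_spec c h).2, ← (d.om_spec c h).2, h5, map_one]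
      simp only [Function.comp, h4, map_one]
    have h7 : ρ (j (x, y)) = LinearMap.id := by
      rw [← Characters.Values.character_eq_finrank_iff, h6]
      simp
    exact Units.ext h7
  have hj' : ∀ x y, j' (π x, d.p y) = u (j (x, y)) := fun x y => hj (x, y)
  let L : St Λ θ →* St Λ' (θ ∘ π) := MonoidHom.mk'
    (fun α => ⟨(d.L ⟨α.1, α.2.1⟩).1, (d.L ⟨α.1, α.2.1⟩).2, fun x => by
      simp only [Function.comp, d.L_spec]
      exact α.2.2 _⟩)
    fun α β => Subtype.ext (congrArg (fun γ : Λ' => γ.1) (map_mul d.L ⟨α.1, α.2.1⟩ ⟨β.1, β.2.1⟩))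
  refine ⟨(Module.End ℂ (Fin n → ℂ))ˣ, inferInstance, j', u.comp (t.comp L),
    Representation.character (Units.coeHom _ : Representation ℂ (Module.End ℂ (Fin n → ℂ))ˣ (Fin n → ℂ)),
    ⟨n, _, rfl⟩, fun x y => ?_, fun α x y y' e => ?_, fun y hy => ?_⟩
  · obtain ⟨x, rfl⟩ := d.surj x
    obtain ⟨y, rfl⟩ := d.p_surj y
    rw [hj', (d.om_spec c h).2]
    exact h1 x y
  · obtain ⟨x, rfl⟩ := d.surj x
    obtain ⟨y, rfl⟩ := d.p_surj y
    have h4 : y' = d.p (rs Λ' (d.L ⟨α.1, α.2.1⟩) y) := by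
      rw [d.p_rs]
      exact Subtype.ext e
    have h5 : α.1 (π x) = π ((L α).1 x) := (d.L_spec ⟨α.1, α.2.1⟩ x).symm
    rw [h4, h5, hj', hj']
    change u (t (L α)) * _ = _ * u (t (L α))
    rw [← map_mul, ← map_mul, h2 (L α) x y (rs Λ' (d.L ⟨α.1, α.2.1⟩) y) rfl]
  · obtain ⟨y, rfl⟩ := d.p_surj y
    have h4 : (L ⟨_, hy⟩).1 = MulAut.conj (y : X') := d.uniq fun x => by
      refine (d.L_spec ⟨_, hy.1⟩ x).trans ?_
      simp only [MulAut.conj_apply, map_mul, map_inv, p_coe]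
    have h5 : MulAut.conj (y : X') ∈ St Λ' (θ ∘ π) := h4 ▸ (L ⟨_, hy⟩).2
    have h6 : L ⟨_, hy⟩ = ⟨_, h5⟩ := Subtype.ext h4
    change u (t (L ⟨_, hy⟩)) = j' (π y, d.p y)
    rw [h6, h3, hj']

theorem cd (l : X → ℂ) : CD Λ l (d.om Ω) := by
  refine ⟨⟨fun θ h => ⟨(d.om_spec c h.1).1, fun z hz => ?_, fun α hα y => ?_⟩,
    fun θ h θ' h' e => d.om_inj c h.1 h'.1 e, fun ψ h => ?_⟩, fun θ h => d.om_eqv c h.1, fun θ h => d.om_ext c h.1⟩
  · have h1 := d.om_cen c h.1 z hz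
    rw [h.2.1 z hz, mul_right_comm] at h1
    exact (mul_right_cancel₀ h.1.one_ne h1).symm
  · obtain ⟨k, hk⟩ := hα
    rw [← d.om_eqv c h.1]
    congr 1
    exact funext (h.2.2 α.1 α.2 ⟨k, congrArg Subtype.val hk⟩)
  · obtain ⟨θ, hθ, rfl⟩ := d.om_surj c h.1
    refine ⟨θ, ⟨hθ, fun z hz => ?_, fun α hα ⟨k, hk⟩ => ?_⟩, rfl⟩
    · have h1 := d.om_cen c hθ ⟨z, cen_mem Λ hz⟩ hz
      rw [h.2.1 ⟨z, cen_mem Λ hz⟩ hz, mul_right_comm] at h1
      exact mul_right_cancel₀ h.1.one_ne h1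
    · refine congrFun (d.om_inj c (d.oi_aut hθ α) hθ (funext fun y => ?_))
      exact (d.om_eqv c hθ ⟨α, hα⟩ y).trans (h.2.2 ⟨α, hα⟩ ⟨k, Subtype.ext hk⟩ y)

end Dt

end Desc

/-- **descent to a central quotient and to a subgroup** -/
theorem descBox : DescBox := fun π hs hk hp Λ' Ω c Λ hl hi l =>
  ⟨_, Desc.Dt.cd (π := π) (Λ' := Λ') (Λ := Λ) (Ω := Ω) ⟨hs, hk, hp, hl, hi⟩ c l⟩

end Cfsg.Agent.MK.Two

private theorem dce_c30bb1c85069 : _root_.True := by
  try have : _root_.True := by simp only [_root_.Cfsg.Agent.MK.Two.Desc.Dt.om.eq_1]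
  try have : _root_.True := by simp only [_root_.Cfsg.Agent.MK.Two.Desc.Dt.L.congr_simp]
  try have : _root_.True := by simp only [_root_.Cfsg.Agent.MK.Two.Desc.Dt.p.congr_simp]
  try have : _root_.True := by simp only [_root_.Cfsg.Agent.MK.Two.Desc.Dt.om.congr_simp]
  exact _root_.True.intro
end

-- part: MK/Two/Bor1
section
set_option linter.all false
open scoped Cfsg.Agent.FastGrp

/-!
# MK, characteristic two: the linear characters of `U` (helper89)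

* `cp h l i` : the `i`-th component of a linear character `l` of `U`, `prod_cp`; `sup U D l` : its support;
* `stab` : the stabiliser of `l` in `T` is `TJ U T D (sup U D l)`;
* `lam_conj` : `T` is transitive on the families `lam`; `exists_psi` : `l` is conjugate to `psi lam (sup l)`.
-/

set_option autoImplicit false
set_option maxHeartbeats 400000

namespace Cfsg.Agent.MK.Two.Bor

open Cfsg Subgroup Cfsg.Agent.H40.OC Cfsg.Agent.H672 Cfsg.Agent.Characters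
open Cfsg.Agent.OddOrderCharacters.Clifford

variable {K I : Type} [Group K] {U T B : Subgroup K} {D : I → Subgroup K}

/-- a `T`-invariant proper subgroup above `D i` is `D i` -/
theorem core [Finite I] (H : Sys U T D) {i : I} {l : U →* ℂˣ} (h1 : ∀ u : U, (u : K) ∈ D i → l u = 1) (h2 : l ≠ 1)
    {a : K} (ha : a ∈ U) (h : ∀ s ∈ T, ∀ u : U, (u : K) = s⁻¹ * a * s → l u = 1) : a ∈ D i := by
  by_contra hD
  obtain ⟨b, hb⟩ : ∃ b : U, l b ≠ 1 := by
    by_contra h3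
    push Not at h3
    exact h2 (MonoidHom.ext h3)
  have hbD : (b : K) ∉ D i := fun h3 => hb (h1 b h3)
  obtain ⟨x, hx, hx1, hx2⟩ := H.co i a ha
  obtain ⟨y, hy, hy1, hy2⟩ := H.co i b b.2
  have hxD : x ∉ D i := fun h3 => hD ((Subgroup.mul_mem_cancel_left _ (inv_mem h3)).1 hx1)
  have hyD : y ∉ D i := fun h3 => hbD ((Subgroup.mul_mem_cancel_left _ (inv_mem h3)).1 hy1)
  obtain ⟨t, ht, hh⟩ := H.tr' _ x hx y hy rfl fun j => by
    by_cases hj : j = i
    · subst hj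
      exact ⟨fun h3 => absurd h3 hxD, fun h3 => absurd h3 hyD⟩
    · exact ⟨fun _ => hy2 j hj, fun _ => hx2 j hj⟩
  have hd : (t⁻¹ * (x⁻¹ * a)⁻¹ * t) * ((t⁻¹ * x * t)⁻¹ * y) * (y⁻¹ * b) ∈ D i :=
    mul_mem (mul_mem ((H.conj_D_iff ht i).2 (inv_mem hx1)) (hh i)) hy1
  apply hb
  have e : b = (⟨t⁻¹ * a * t, H.conj_U ht ha⟩ : U) * ⟨_, H.le i hd⟩ := Subtype.ext (by
    simp only [Subgroup.coe_mul]
    group)
  rw [e, map_mul, h t ht _ rfl, h1 _ hd, mul_one]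

theorem cj_D (H : Sys U T D) {t u : K} (ht : t ∈ T) (i : I) : t * u * t⁻¹ ∈ D i ↔ u ∈ D i := by
  have := H.conj_D_iff (u := u) (inv_mem ht) i
  rwa [inv_inv] at this

/-- an element which fixes a nontrivial character of the coordinate `i` acts trivially on it -/
theorem fix_D [Finite I] (h : Bo U T B D) {i : I} {l : U →* ℂˣ} (h1 : ∀ u : U, (u : K) ∈ D i → l u = 1) (h2 : l ≠ 1)
    {t : K} (ht : t ∈ T) (hf : ∀ u u' : U, (u' : K) = t * u * t⁻¹ → l u' = l u) {u : K} (hu : u ∈ U) :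
    u⁻¹ * (t * u * t⁻¹) ∈ D i := by
  refine core h.sys h1 h2 (mul_mem (inv_mem hu) (h.sys.conj_U' ht hu)) fun s hs v hv => ?_
  have h3 : s⁻¹ * u * s ∈ U := h.sys.conj_U hs hu
  have e : v = (⟨_, h3⟩ : U)⁻¹ * ⟨_, h.sys.conj_U' ht h3⟩ := Subtype.ext (by
    have c1 : t * s⁻¹ = s⁻¹ * t := h.comm t ht _ (inv_mem hs)
    have c2 : s * t⁻¹ = t⁻¹ * s := h.comm s hs _ (inv_mem ht)
    simp only [Subgroup.coe_mul, Subgroup.coe_inv, hv]
    calc s⁻¹ * (u⁻¹ * (t * u * t⁻¹)) * s = s⁻¹ * u⁻¹ * s * (s⁻¹ * t) * u * (t⁻¹ * s) := by group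
      _ = s⁻¹ * u⁻¹ * s * (t * s⁻¹) * u * (s * t⁻¹) := by rw [c1, c2]
      _ = _ := by group)
  rw [e, map_mul, map_inv, hf ⟨_, h3⟩ ⟨_, h.sys.conj_U' ht h3⟩ rfl, inv_mul_cancel]

/-! ### components -/

/-- the `i`-th coordinate of `u` -/
noncomputable def cx (H : Sys U T D) (i : I) (u : U) : U := ⟨(H.co i u u.2).choose, (H.co i u u.2).choose_spec.1⟩

theorem cx_1 (H : Sys U T D) (i : I) (u : U) : (cx H i u : K)⁻¹ * u ∈ D i := (H.co i u u.2).choose_spec.2.1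

theorem cx_2 (H : Sys U T D) (i : I) (u : U) (j : I) (hj : j ≠ i) : (cx H i u : K) ∈ D j :=
  (H.co i u u.2).choose_spec.2.2 j hj

theorem l_eq (h : Bo U T B D) (l : U →* ℂˣ) {i : I} {x y : U} (hx : ∀ j, j ≠ i → (x : K) ∈ D j)
    (hy : ∀ j, j ≠ i → (y : K) ∈ D j) (hxy : (x : K)⁻¹ * y ∈ D i) : l x = l y := by
  have h1 : l (x⁻¹ * y) = 1 := h.hn l _ fun j => by
    by_cases hj : j = i
    · subst hj
      exact hxy
    · exact mul_mem (inv_mem (hx j hj)) (hy j hj)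
  rw [map_mul, map_inv, inv_mul_eq_one] at h1
  exact h1

theorem l_cx (h : Bo U T B D) (l : U →* ℂˣ) {i : I} {x u : U} (hx : ∀ j, j ≠ i → (x : K) ∈ D j)
    (hu : (x : K)⁻¹ * u ∈ D i) : l (cx h.sys i u) = l x := by
  refine l_eq h l (cx_2 h.sys i u) hx ?_
  have e : (cx h.sys i u : K)⁻¹ * x = ((cx h.sys i u : K)⁻¹ * u) * ((x : K)⁻¹ * u)⁻¹ := by group
  rw [e]
  exact mul_mem (cx_1 h.sys i u) (inv_mem hu)

/-- the `i`-th component of `l` -/
noncomputable def cp (h : Bo U T B D) (l : U →* ℂˣ) (i : I) : U →* ℂˣ :=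
  MonoidHom.mk' (fun u => l (cx h.sys i u)) fun a b => by
    rw [← map_mul]
    refine l_cx h l (fun j hj => mul_mem (cx_2 h.sys i a j hj) (cx_2 h.sys i b j hj)) ?_
    have e : ((cx h.sys i a * cx h.sys i b : U) : K)⁻¹ * (a * b : U) =
        ((cx h.sys i b : K)⁻¹ * ((cx h.sys i a : K)⁻¹ * a) * (cx h.sys i b : K)⁻¹⁻¹) * ((cx h.sys i b : K)⁻¹ * b) := by
      simp only [Subgroup.coe_mul]
      group
    rw [e]
    exact mul_mem ((Subgroup.mem_normalizer_iff.1 (h.sys.uD i (inv_mem (cx h.sys i b).2)) _).1 (cx_1 h.sys i a))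
      (cx_1 h.sys i b)

theorem cp_eq (h : Bo U T B D) (l : U →* ℂˣ) {i : I} {x u : U} (hx : ∀ j, j ≠ i → (x : K) ∈ D j)
    (hu : (x : K)⁻¹ * u ∈ D i) : cp h l i u = l x := l_cx h l hx hu

theorem cp_one (h : Bo U T B D) (l : U →* ℂˣ) (i : I) (u : U) (hu : (u : K) ∈ D i) : cp h l i u = 1 := by
  rw [cp_eq h l (x := 1) (fun j _ => one_mem _) (by simpa using hu), map_one]

theorem cp_self (h : Bo U T B D) (l : U →* ℂˣ) {i : I} {u : U} (hu : ∀ j, j ≠ i → (u : K) ∈ D j) :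
    cp h l i u = l u := cp_eq h l hu (by rw [inv_mul_cancel]; exact one_mem _)

theorem prod_cp' (h : Bo U T B D) (l : U →* ℂˣ) (s : Finset I) :
    ∀ u : U, (∀ j, j ∉ s → (u : K) ∈ D j) → l u = ∏ i ∈ s, cp h l i u := by
  classical
  induction s using Finset.induction_on with
  | empty =>
    intro u hu
    rw [Finset.prod_empty]
    exact h.hn l u fun i => hu i (Finset.notMem_empty i)
  | insert i s hi ih =>
    intro u hu
    have h1 := ih ((cx h.sys i u)⁻¹ * u) fun j hj => by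
      by_cases hji : j = i
      · subst hji
        exact cx_1 h.sys j u
      · exact mul_mem (inv_mem (cx_2 h.sys i u j hji)) (hu j fun h2 => by
          rcases Finset.mem_insert.1 h2 with h3 | h3
          · exact hji h3
          · exact hj h3)
    have h2 : ∀ j ∈ s, cp h l j ((cx h.sys i u)⁻¹ * u) = cp h l j u := fun j hj => by
      rw [map_mul, map_inv, cp_one h l j _ (cx_2 h.sys i u j fun h3 => hi (h3 ▸ hj)), inv_one, one_mul]
    rw [Finset.prod_insert hi, ← Finset.prod_congr rfl h2, ← h1, map_mul, map_inv]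
    exact (mul_inv_cancel_left _ _).symm

theorem prod_cp [Fintype I] (h : Bo U T B D) (l : U →* ℂˣ) (u : U) : l u = ∏ i, cp h l i u :=
  prod_cp' h l Finset.univ u fun j hj => absurd (Finset.mem_univ j) hj

/-- the support of a linear character -/
def sup (U : Subgroup K) (D : I → Subgroup K) (l : U →* ℂˣ) : Set I :=
  {i | ∃ u : U, (∀ j, j ≠ i → (u : K) ∈ D j) ∧ l u ≠ 1}

theorem mem_sup (h : Bo U T B D) (l : U →* ℂˣ) (i : I) : i ∈ sup U D l ↔ cp h l i ≠ 1 := by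
  constructor
  · rintro ⟨u, hu, h1⟩ h2
    apply h1
    rw [← cp_self h l hu, h2, MonoidHom.one_apply]
  · intro h1
    by_contra h2
    apply h1
    refine MonoidHom.ext fun u => ?_
    by_contra h3
    exact h2 ⟨cx h.sys i u, cx_2 h.sys i u, h3⟩

theorem psi_at [DecidableEq I] {lam : I → (U →* ℂˣ)} (hl : ∀ i, ∀ u : U, (u : K) ∈ D i → lam i u = 1) (J : Finset I)
    {i : I} {u : U} (hu : ∀ j, j ≠ i → (u : K) ∈ D j) : psi lam J u = if i ∈ J then lam i u else 1 := by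
  unfold psi
  rw [MonoidHom.finsetProd_apply]
  split_ifs with hi
  · exact Finset.prod_eq_single_of_mem i hi fun j _ hj => hl j u (hu j hj)
  · exact Finset.prod_eq_one fun j hj => hl j u (hu j fun h1 => hi (h1 ▸ hj))

theorem lam_cx (H : Sys U T D) {l : U →* ℂˣ} {i : I} (hl : ∀ u : U, (u : K) ∈ D i → l u = 1) (u : U) :
    l (cx H i u) = l u := by
  have h1 := hl ((cx H i u)⁻¹ * u) (cx_1 H i u)
  rw [map_mul, map_inv, inv_mul_eq_one] at h1
  exact h1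

theorem sup_psi (H : Sys U T D) {lam : I → (U →* ℂˣ)} (hl : Lam U D lam) (J : Finset I) :
    sup U D (psi lam J) = J := by
  classical
  ext i
  constructor
  · rintro ⟨u, hu, h1⟩
    by_contra h2
    apply h1
    rw [psi_at hl.one J hu, if_neg fun h3 => h2 (Finset.mem_coe.2 h3)]
  · intro hi
    by_contra h2
    apply hl.ne i
    refine MonoidHom.ext fun u => ?_
    by_contra h3
    refine h2 ⟨cx H i u, cx_2 H i u, ?_⟩
    rw [psi_at hl.one J (cx_2 H i u), if_pos (Finset.mem_coe.1 hi), lam_cx H (hl.one i)]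
    exact h3

/-- **the stabiliser of a linear character** -/
theorem stab [Fintype I] (h : Bo U T B D) (l : U →* ℂˣ) {t : K} (ht : t ∈ T) :
    (∀ u u' : U, (u' : K) = t * u * t⁻¹ → l u' = l u) ↔ t ∈ TJ U T D (sup U D l) := by
  constructor
  · intro hf
    refine ⟨ht, fun i hi u hu => fix_D h (cp_one h l i) ((mem_sup h l i).1 hi) ht (fun v v' hv => ?_) hu⟩
    have h1 : cp h l i v' = l ⟨_, h.sys.conj_U' ht (cx h.sys i v).2⟩ := by
      refine cp_eq h l (fun j hj => (cj_D h.sys ht j).2 (cx_2 h.sys i v j hj)) ?_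
      have e : (t * (cx h.sys i v : K) * t⁻¹)⁻¹ * v' = t * ((cx h.sys i v : K)⁻¹ * v) * t⁻¹ := by
        rw [hv]
        group
      show (t * (cx h.sys i v : K) * t⁻¹)⁻¹ * v' ∈ D i
      rw [e]
      exact (cj_D h.sys ht i).2 (cx_1 h.sys i v)
    rw [h1, hf (cx h.sys i v) _ rfl]
    rfl
  · intro hT u u' hu
    have h1 : l (u⁻¹ * u') = 1 := by
      rw [prod_cp h l]
      refine Finset.prod_eq_one fun i _ => ?_
      by_cases hi : i ∈ sup U D l
      · refine cp_one h l i _ ?_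
        rw [Subgroup.coe_mul, Subgroup.coe_inv, hu]
        exact hT.2 i hi u u.2
      · rw [mem_sup h, not_not] at hi
        rw [hi, MonoidHom.one_apply]
    rw [map_mul, map_inv, inv_mul_eq_one] at h1
    exact h1.symm

/-! ### transitivity -/

/-- the conjugate of a linear character -/
def cl (H : Sys U T D) (t : T) (l : U →* ℂˣ) : U →* ℂˣ := l.comp (RM.cj (H.tU t.2)).toMonoidHom

theorem cl_apply (H : Sys U T D) (t : T) (l : U →* ℂˣ) {u u' : U} (hu : (u' : K) = t * u * (t : K)⁻¹) :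
    cl H t l u = l u' := by
  have e : u' = RM.cj (H.tU t.2) u := Subtype.ext hu
  rw [e]
  rfl

theorem cl_lam (H : Sys U T D) (t : T) {lam : I → (U →* ℂˣ)} (hl : Lam U D lam) : Lam U D fun i => cl H t (lam i) := by
  refine ⟨fun i u hu => ?_, fun i h1 => hl.ne i (MonoidHom.ext fun u => ?_)⟩
  · rw [cl_apply H t _ (u' := ⟨_, H.conj_U' t.2 u.2⟩) rfl]
    exact hl.one i _ ((cj_D H t.2 i).2 hu)
  · rw [← cl_apply H t (lam i) (u := ⟨_, H.conj_U t.2 u.2⟩) (u' := u) (by simp only; group), h1]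
    rfl

theorem cl_psi (H : Sys U T D) (t : T) (lam : I → (U →* ℂˣ)) (J : Finset I) :
    cl H t (psi lam J) = psi (fun i => cl H t (lam i)) J := by
  refine MonoidHom.ext fun u => ?_
  unfold psi cl
  rw [MonoidHom.comp_apply, MonoidHom.finsetProd_apply, MonoidHom.finsetProd_apply]
  rfl

theorem inner_ne {V : Type} [Group V] [Fintype V] {l l' : V →* ℂˣ} (h : l ≠ l') :
    classInner (fun u => (l u : ℂ)) (fun u => (l' u : ℂ)) = 0 :=
  Core.classInner_irr_ne (Linear.isIrrCharacter_hom l) (Linear.isIrrCharacter_hom l') fun h1 =>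
    h (MonoidHom.ext fun u => Units.ext (congrFun h1 u))

open Classical in
theorem inner_ite {V : Type} [Group V] [Fintype V] (l l' : V →* ℂˣ) :
    classInner (fun u => (l u : ℂ)) (fun u => (l' u : ℂ)) = if l = l' then 1 else 0 := by
  split_ifs with h
  · rw [h]
    exact Core.classInner_irr_self (Linear.isIrrCharacter_hom l')
  · exact inner_ne h

/-- **`T` is transitive on the families** -/
theorem lam_conj [Finite K] [Fintype I] (H : Sys U T D) {lam lam' : I → (U →* ℂˣ)} (hl : Lam U D lam)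
    (hl' : Lam U D lam') : ∃ t ∈ T, ∀ i, ∀ u u' : U, (u' : K) = t * u * t⁻¹ → lam' i u = lam i u' := by
  classical
  let _ := Fintype.ofFinite U
  let _ := Fintype.ofFinite T
  let φ : K → ℂ := fun y => ∑ t : T,
    extendByZero U (fun u => (psi lam Finset.univ u : ℂ)) ((t : K) * y * (t : K)⁻¹)
  have hφ : ∀ t ∈ T, ∀ u ∈ U, φ (t⁻¹ * u * t) = φ u := by
    intro t ht u _
    refine Fintype.sum_equiv (Equiv.mulRight (⟨t, ht⟩ : T)⁻¹) _ _ fun s => ?_
    congr 1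
    simp only [Equiv.coe_mulRight, Subgroup.coe_mul, Subgroup.coe_inv]
    group
  have h1 : (fun u : U => φ u) = ∑ t : T, fun u : U => (cl H t (psi lam Finset.univ) u : ℂ) := by
    funext u
    rw [Finset.sum_apply]
    refine Finset.sum_congr rfl fun t _ => ?_
    rw [ext_apply_mem U _ _ (H.conj_U' t.2 u.2), cl_apply H t _ (u' := ⟨_, H.conj_U' t.2 u.2⟩) rfl]
  have h2 : ∀ μ : I → (U →* ℂˣ), Lam U D μ → mr U D φ = (-1) ^ (Finset.univ : Finset I).card *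
      ∑ t : T, if cl H t (psi lam Finset.univ) = psi μ Finset.univ then (1 : ℂ) else 0 := by
    intro μ hμ
    rw [mr_eq H hμ hφ, Finset.sum_eq_single Finset.univ _ fun h3 => absurd (Finset.mem_univ _) h3, h1,
      Core.classInner_sum_left]
    · congr 1
      exact Finset.sum_congr rfl fun t _ => by rw [inner_ite]
    · intro J _ hJ
      rw [h1, Core.classInner_sum_left, Finset.sum_eq_zero, mul_zero]
      intro t _
      refine inner_ne fun h3 => hJ ?_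
      have h4 := congrArg (sup U D) h3
      rw [cl_psi, sup_psi H (cl_lam H t hl), sup_psi H hμ] at h4
      exact (Finset.coe_injective h4).symm
  have h3 := (h2 lam hl).symm.trans (h2 lam' hl')
  have h4 := mul_left_cancel₀ (pow_ne_zero _ (neg_ne_zero.2 one_ne_zero)) h3
  obtain ⟨t, ht⟩ : ∃ t : T, cl H t (psi lam Finset.univ) = psi lam' Finset.univ := by
    by_contra h5
    push Not at h5
    rw [Finset.sum_eq_zero (s := Finset.univ) (f := fun t : T =>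
      if cl H t (psi lam Finset.univ) = psi lam' Finset.univ then (1 : ℂ) else 0) fun t _ => if_neg (h5 t),
      Finset.sum_boole, Nat.cast_eq_zero, Finset.card_eq_zero, Finset.filter_eq_empty_iff] at h4
    refine h4 (Finset.mem_univ 1) (MonoidHom.ext fun u => cl_apply H 1 _ ?_)
    simp
  refine ⟨t, t.2, fun i u u' hu => ?_⟩
  have h5 := DFunLike.congr_fun ht (cx H i u)
  rw [cl_psi, psi_at (cl_lam H t hl).one _ (cx_2 H i u), psi_at hl'.one _ (cx_2 H i u), if_pos (Finset.mem_univ i),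
    if_pos (Finset.mem_univ i), lam_cx H ((cl_lam H t hl).one i), lam_cx H (hl'.one i), cl_apply H t _ hu] at h5
  exact h5.symm

/-- **every linear character is conjugate to a standard one** -/
theorem exists_psi [Finite K] [Fintype I] (h : Bo U T B D) {lam : I → (U →* ℂˣ)} (hl : Lam U D lam) (l : U →* ℂˣ)
    {J : Finset I} (hJ : (J : Set I) = sup U D l) :
    ∃ t ∈ T, ∀ u u' : U, (u' : K) = t * u * t⁻¹ → l u = psi lam J u' := by
  classical
  have h1 : Lam U D fun i => if cp h l i = 1 then lam i else cp h l i := by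
    refine ⟨fun i u hu => ?_, fun i => ?_⟩
    · split_ifs
      · exact hl.one i u hu
      · exact cp_one h l i u hu
    · split_ifs with h2
      · exact hl.ne i
      · exact h2
  obtain ⟨t, ht, h2⟩ := lam_conj h.sys hl h1
  refine ⟨t, ht, fun u u' hu => ?_⟩
  have h3 : ∀ i, i ∈ J ↔ cp h l i ≠ 1 := fun i => by rw [← mem_sup h, ← hJ, Finset.mem_coe]
  unfold psi
  rw [prod_cp h l, MonoidHom.finsetProd_apply, ← Finset.prod_subset (Finset.subset_univ J)]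
  · refine Finset.prod_congr rfl fun i hi => ?_
    rw [← h2 i u u' hu, if_neg ((h3 i).1 hi)]
  · intro i _ hi
    rw [h3, not_not] at hi
    rw [hi, MonoidHom.one_apply]

end Cfsg.Agent.MK.Two.Bor

private theorem dce_b40da365839f : _root_.True := by
  try have : _root_.True := by simp only [_root_.Cfsg.Agent.MK.Two.Bor.cx.congr_simp]
  try have : _root_.True := by simp only [_root_.Cfsg.Agent.MK.Two.Bor.cl.congr_simp]
  try have : _root_.True := by simp only [_root_.Cfsg.Agent.MK.Two.Bor.cp.congr_simp]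
  exact _root_.True.intro
end

-- part: MK/Two/Bor
section
set_option linter.all false
open scoped Cfsg.Agent.FastGrp

/-!
# MK, characteristic two: the characters of the Borel subgroup (helper89)

`borBox : BorBox`.  An irreducible character of `B` over a linear character `l` of `U` is `β * Ind F`, where `F` is the
extension of `l` to the inertia group `SL h l` which is trivial on `T`.
-/

set_option autoImplicit false
set_option maxHeartbeats 400000

namespace Cfsg.Agent.MK.Two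

namespace Bor

open Cfsg Subgroup Cfsg.Agent.H40.OC Cfsg.Agent.H672 Cfsg.Agent.Characters
open Cfsg.Agent.OddOrderCharacters Cfsg.Agent.CharactersDeep

variable {K I : Type} [Group K] {U T B : Subgroup K} {D : I → Subgroup K}

theorem nB (h : Bo U T B D) : B ≤ normalizer (U : Set K) := fun b hb => by
  obtain ⟨u, hu, t, ht, rfl⟩ := (h.mem b).1 hb
  exact mul_mem (le_normalizer hu) (h.sys.tU ht)

theorem nD (h : Bo U T B D) (i : I) : B ≤ normalizer (D i : Set K) := fun b hb => by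
  obtain ⟨u, hu, t, ht, rfl⟩ := (h.mem b).1 hb
  exact mul_mem (h.sys.uD i hu) (h.sys.tD i ht)

theorem cU (h : Bo U T B D) (b : B) {u : K} (hu : u ∈ U) : (b : K) * u * (b : K)⁻¹ ∈ U :=
  (mem_normalizer_iff.1 (nB h b.2) u).1 hu

theorem ab (h : Bo U T B D) (a b : B) : (((a * b)⁻¹ * (b * a) : B) : K) ∈ U := by
  obtain ⟨u, hu, s, hs, e1⟩ := (h.mem a).1 a.2
  obtain ⟨v, hv, t, ht, e2⟩ := (h.mem b).1 b.2
  have e : (((a * b)⁻¹ * (b * a) : B) : K) =
      (s * t)⁻¹ * ((u * (s * v * s⁻¹))⁻¹ * (v * (t * u * t⁻¹))) * (t * s) := by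
    simp only [Subgroup.coe_mul, Subgroup.coe_inv, e1, e2]
    group
  rw [e, ← h.comm s hs t ht]
  exact h.sys.conj_U (mul_mem hs ht)
    (mul_mem (inv_mem (mul_mem hu (h.sys.conj_U' hs hv))) (mul_mem hv (h.sys.conj_U' ht hu)))

theorem inf_UT (h : Bo U T B D) {x : K} (hU : x ∈ U) (hT : x ∈ T) : x = 1 := by
  obtain ⟨k, hk⟩ := h.two ⟨x, hU⟩
  have h1 : orderOf x ∣ 2 ^ k := orderOf_dvd_of_pow_eq_one (congrArg Subtype.val hk)
  have h2 : orderOf x ∣ Nat.card T := orderOf_dvd_natCard T hT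
  exact orderOf_eq_one_iff.1 (Nat.eq_one_of_dvd_coprimes
    (Nat.Coprime.pow_left k (Nat.coprime_two_left.2 h.odd)) h1 h2)

/-- the inertia group of `l` -/
def SL (h : Bo U T B D) (l : U →* ℂˣ) : Subgroup B where
  carrier := {b | ∀ u u' : U, (u' : K) = b * u * (b : K)⁻¹ → l u' = l u}
  one_mem' := fun u u' e => by
    have e' : u' = u := Subtype.ext (by rw [e]; simp)
    rw [e']
  mul_mem' := fun {a b} ha hb u u' e => by
    rw [← hb u ⟨_, cU h b u.2⟩ rfl]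
    refine ha _ _ ?_
    rw [e]
    simp only [Subgroup.coe_mul]
    group
  inv_mem' := fun {a} ha u u' e => by
    refine (ha u' u ?_).symm
    rw [e]
    simp only [Subgroup.coe_inv]
    group

theorem SL_of_U (h : Bo U T B D) (l : U →* ℂˣ) {b : B} (hb : (b : K) ∈ U) : b ∈ SL h l := fun u u' e => by
  have e' : u' = ⟨b, hb⟩ * u * (⟨b, hb⟩ : U)⁻¹ := Subtype.ext e
  rw [e', map_mul, map_mul, map_inv, mul_inv_cancel_comm]

theorem SL_normal (h : Bo U T B D) (l : U →* ℂˣ) : (SL h l).Normal := ⟨fun b hb g => by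
  have e2 : g * b * g⁻¹ = ((b⁻¹ * g⁻¹)⁻¹ * (g⁻¹ * b⁻¹)) * b := by group
  rw [e2]
  exact mul_mem (SL_of_U h l (ab h _ _)) hb⟩

theorem rg_iff (h : Bo U T B D) (b : B) : b ∈ (inclusion h.uB).range ↔ (b : K) ∈ U :=
  ⟨fun ⟨u, hu⟩ => hu ▸ u.2, fun hb => ⟨⟨b, hb⟩, rfl⟩⟩

theorem rg_normal (h : Bo U T B D) : (inclusion h.uB).range.Normal :=
  ⟨fun b hb g => (rg_iff h _).2 (cU h g ((rg_iff h b).1 hb))⟩

theorem odd_index [Finite K] (h : Bo U T B D) (l : U →* ℂˣ) : Odd (SL h l).index := by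
  have := SL_normal h l
  refine Odd.of_dvd_nat h.odd (card_dvd_of_surjective ((QuotientGroup.mk' (SL h l)).comp (inclusion h.tB)) fun q => ?_)
  obtain ⟨b, rfl⟩ := QuotientGroup.mk'_surjective _ q
  obtain ⟨u, hu, t, ht, e⟩ := (h.mem b).1 b.2
  refine ⟨⟨t, ht⟩, ?_⟩
  have e' : b = ⟨u, h.uB hu⟩ * inclusion h.tB ⟨t, ht⟩ := Subtype.ext e
  have h1 : QuotientGroup.mk' (SL h l) ⟨u, h.uB hu⟩ = 1 :=
    (QuotientGroup.eq_one_iff (⟨u, h.uB hu⟩ : B)).2 (SL_of_U h l hu)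
  rw [e', map_mul, h1, one_mul]
  rfl

theorem exists_F (h : Bo U T B D) (l : U →* ℂˣ) : ∃ F : SL h l →* ℂˣ,
    (∀ (b : SL h l) (u : U), ((b : B) : K) = u → F b = l u) ∧ ∀ b : SL h l, ((b : B) : K) ∈ T → F b = 1 := by
  have hn : (U.subgroupOf B).Normal := normal_subgroupOf_of_le_normalizer (nB h)
  have h1 : U.subgroupOf B ≤ SL h l := fun b hb => SL_of_U h l hb
  obtain ⟨F, h2, h3⟩ := PF9.CliffGen.exists_extension (N := U.subgroupOf B) (T := SL h l) (U := T.subgroupOf B)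
    (eq_bot_iff.2 fun x hx => Subtype.ext (inf_UT h hx.1 hx.2))
    (eq_top_iff.2 fun b _ => by
      obtain ⟨u, hu, t, ht, e⟩ := (h.mem b).1 b.2
      have e' : b = ⟨u, h.uB hu⟩ * ⟨t, h.tB ht⟩ := Subtype.ext e
      rw [e']
      exact mul_mem_sup hu ht) h1 (lam := l.comp (subgroupOfEquivOfLe h.uB).toMonoidHom)
    (fun g hg => funext fun n => congrArg Units.val (hg ⟨(n : B), n.2⟩ ⟨_, cU h g n.2⟩ rfl)) 1
  refine ⟨F, fun b u e => ?_, fun b hb => h3 ⟨b, b.2, hb⟩⟩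
  have hb : (b : B) ∈ U.subgroupOf B := by
    rw [mem_subgroupOf, e]
    exact u.2
  have e' : u = ⟨(b : B), hb⟩ := Subtype.ext e.symm
  rw [e']
  exact h2 ⟨b, hb⟩

/-- **the standard character over `l`** -/
theorem exists_Ps [Fintype U] [Fintype B] [Finite K] (h : Bo U T B D) (l : U →* ℂˣ) : ∃ Ψ : B → ℂ, OI B Ψ ∧
    (∀ b, b ∉ SL h l → Ψ b = 0) ∧ (∀ t ∈ SL h l, (t : K) ∈ T → Ψ t = Ψ 1) ∧
    classInner (Ψ ∘ inclusion h.uB) (fun u => (l u : ℂ)) = 1 ∧
    ∀ u : B, (u : K) ∈ U → (∀ (x : B) (u' : U), (u' : K) = x * u * (x : K)⁻¹ → l u' = 1) → Ψ u = Ψ 1 := by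
  classical
  have hn := SL_normal h l
  obtain ⟨F, h1, h2⟩ := exists_F h l
  have h0 : ∀ b : SL h l, (∀ x : B, F ⟨x * b * x⁻¹, hn.conj_mem _ b.2 x⟩ = 1) →
      indFun (SL h l) (fun b => (F b : ℂ)) b = indFun (SL h l) (fun b => (F b : ℂ)) 1 := by
    intro b hb
    refine Eq.trans ?_ (NormalInd.indFun_coe (SL h l) (fun b => (F b : ℂ)) 1).symm
    rw [NormalInd.indFun_coe]
    congr 1
    refine Finset.sum_congr rfl fun x _ => ?_
    rw [hb x, h2 _ (by simp)]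
  refine ⟨indFun (SL h l) fun b => (F b : ℂ), ⟨?_, ?_⟩, fun b hb => NormalInd.indFun_of_not_mem _ _ hb,
    fun t ht hT => h0 ⟨t, ht⟩ fun x => ?_, ?_, fun u hu h3 => h0 ⟨u, SL_of_U h l hu⟩ fun x => ?_⟩
  · refine IndRes.isIrr_indFun_of_stabilizer _ (Linear.isIrrCharacter_hom F) fun g hg u u' e => ?_
    have h3 := congrFun hg ⟨inclusion h.uB u, SL_of_U h l u.2⟩
    rw [NormalInduced.conjFn_apply, h1 _ u' e.symm, h1 _ u rfl] at h3
    exact Units.ext h3
  · rw [charDegree_of_eq (n := (SL h l).index) (by rw [NormalInd.indFun_one, map_one, Units.val_one, mul_one])]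
    exact odd_index h l
  · obtain ⟨u, hu, s, hs, e⟩ := (h.mem x).1 x.2
    have e' : (⟨x * t * x⁻¹, hn.conj_mem _ ht x⟩ : SL h l) =
        ⟨⟨u, h.uB hu⟩, SL_of_U h l hu⟩ * ⟨t, ht⟩ * (⟨⟨u, h.uB hu⟩, SL_of_U h l hu⟩ : SL h l)⁻¹ := by
      refine Subtype.ext (Subtype.ext ?_)
      simp only [Subgroup.coe_mul, Subgroup.coe_inv, e]
      calc u * s * t * (u * s)⁻¹ = u * (s * t) * s⁻¹ * u⁻¹ := by group
        _ = _ := by rw [h.comm s hs t hT]; group
    rw [e', map_mul, map_mul, map_inv, mul_inv_cancel_comm]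
    exact h2 _ hT
  · have h3 : (indFun (SL h l) fun b => (F b : ℂ)) ∘ inclusion h.uB = (Nat.card (SL h l) : ℂ)⁻¹ •
        ∑ x : B, fun u : U => ((l.comp (RM.cj (nB h x.2)).toMonoidHom) u : ℂ) := by
      funext u
      have h4 := NormalInd.indFun_coe (SL h l) (fun b => (F b : ℂ)) ⟨inclusion h.uB u, SL_of_U h l u.2⟩
      rw [Function.comp_apply, h4, Pi.smul_apply, Finset.sum_apply, smul_eq_mul]
      congr 1
      refine Finset.sum_congr rfl fun x _ => ?_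
      rw [h1 _ (RM.cj (nB h x.2) u) rfl]
      rfl
    have h4 : ∀ x : B, classInner (fun u : U => ((l.comp (RM.cj (nB h x.2)).toMonoidHom) u : ℂ)) (fun u => (l u : ℂ)) =
        if x ∈ SL h l then 1 else 0 := by
      intro x
      rw [inner_ite]
      refine if_congr ⟨fun h5 u u' e => ?_, fun h5 => MonoidHom.ext fun u => h5 u _ rfl⟩ rfl rfl
      have e' : u' = RM.cj (nB h x.2) u := Subtype.ext e
      rw [e']
      exact DFunLike.congr_fun h5 u
    rw [h3, Core.classInner_smul_left, Core.classInner_sum_left, Finset.sum_congr rfl fun x _ => h4 x, Finset.sum_boole,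
      ← Fintype.card_subtype, ← Nat.card_eq_fintype_card]
    exact inv_mul_cancel₀ (Nat.cast_ne_zero.2 Nat.card_pos.ne')
  · rw [h1 _ ⟨_, cU h x hu⟩ rfl]
    exact h3 x _ rfl

theorem tw [Finite K] (h : Bo U T B D) {ψ ψ' : B → ℂ} (hψ : IsIrrCharacter B ψ) (hψ' : IsIrrCharacter B ψ')
    {l : U →* ℂˣ} (h0 : ip (ψ ∘ inclusion h.uB) (fun u => (l u : ℂ)) ≠ 0)
    (h0' : ip (ψ' ∘ inclusion h.uB) (fun u => (l u : ℂ)) ≠ 0) :
    ∃ β : B →* ℂˣ, (∀ b : B, (b : K) ∈ U → β b = 1) ∧ ∀ b, ψ' b = β b * ψ b := by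
  let _ := Fintype.ofFinite U
  let _ := Fintype.ofFinite B
  have := rg_normal h
  rw [ip_eq] at h0 h0'
  obtain ⟨β, h1, h2⟩ := GAL.C2.exists_tw (inclusion_injective h.uB) (fun a b => (rg_iff h _).2 (ab h a b)) hψ hψ'
    (Linear.isIrrCharacter_hom l) h0 h0'
  exact ⟨β, fun b hb => h1 ⟨b, hb⟩, h2⟩

/-- **the irreducible characters over a linear character** -/
theorem ovr [Finite K] (h : Bo U T B D) {ψ : B → ℂ} (hψ : IsIrrCharacter B ψ) {l : U →* ℂˣ}
    (h0 : ip (ψ ∘ inclusion h.uB) (fun u => (l u : ℂ)) ≠ 0) :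
    OI B ψ ∧ ip (ψ ∘ inclusion h.uB) (fun u => (l u : ℂ)) = 1 ∧ Js U B D ψ = sup U D l ∧
    (∀ b, b ∉ SL h l → ψ b = 0) ∧ ∃ β : B →* ℂˣ, ∀ t ∈ SL h l, (t : K) ∈ T → ψ t = β t * ψ 1 := by
  let _ := Fintype.ofFinite U
  let _ := Fintype.ofFinite B
  obtain ⟨Ψ, h1, h2, h3, h4, h5⟩ := exists_Ps h l
  obtain ⟨β, h6, h7⟩ := tw h h1.1 hψ (l := l) (by rw [ip_eq, h4]; exact one_ne_zero) h0
  have h8 : ∀ u : B, (u : K) ∈ U → ψ u = Ψ u := fun u hu => by rw [h7, h6 u hu, Units.val_one, one_mul]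
  have h9 : ψ 1 = Ψ 1 := h8 1 (one_mem _)
  refine ⟨⟨hψ, ?_⟩, ?_, ?_, fun b hb => by rw [h7, h2 b hb, mul_zero], β, fun t ht hT => by rw [h7, h3 t ht hT, h9]⟩
  · have h10 := h1.2
    unfold charDegree at h10 ⊢
    rwa [h9]
  · rw [ip_eq, ← h4]
    congr 1
    exact funext fun u => h8 _ u.2
  · ext i
    constructor
    · rintro ⟨u, hu, h10, h11⟩
      by_contra h12
      apply h11
      rw [h8 u hu, h9]
      refine h5 u hu fun x u' e => ?_
      by_contra h13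
      refine h12 ⟨u', fun j hj => ?_, h13⟩
      rw [e]
      exact (mem_normalizer_iff.1 (nD h j x.2) _).1 (h10 j hj)
    · rintro ⟨u, hu, h10⟩
      refine ⟨inclusion h.uB u, u.2, hu, fun h11 => h10 (Units.ext ?_)⟩
      rw [ip_eq] at h0
      have h12 := PF9.CliffGen.constituent_ker (Core.isCharacter_comp (inclusion h.uB) (Core.isIrr_isCharacter hψ))
        (Linear.isIrrCharacter_hom l) h0 (y := u) (by
          rw [Function.comp_apply, Function.comp_apply, h11, map_one])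
      rw [h12, map_one]

theorem exists_lin [Finite K] (h : Bo U T B D) {ψ : B → ℂ} (hψ : OI B ψ) :
    ∃ l : U →* ℂˣ, ip (ψ ∘ inclusion h.uB) (fun u => (l u : ℂ)) ≠ 0 := by
  obtain ⟨θ, h1, h2, h3⟩ := exists_under_not_dvd (inclusion h.uB) hψ.1 (r := 2) hψ.2.not_two_dvd_nat
  have h4 := (H670.PSing.charDegree_pgroup h.two h1).resolve_right h3
  obtain ⟨l, rfl⟩ := Linear.exists_hom_of_isIrrCharacter h1 (by rw [← coe_charDegree h1, h4, Nat.cast_one])
  exact ⟨l, h2⟩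

theorem over_psi [Finite K] [Fintype I] (h : Bo U T B D) {ψ : B → ℂ} (hψ : OI B ψ) {lam : I → (U →* ℂˣ)}
    (hl : Lam U D lam) {J : Finset I} (hJ : (J : Set I) = Js U B D ψ) :
    ip (ψ ∘ inclusion h.uB) (fun u => (psi lam J u : ℂ)) ≠ 0 := by
  let _ := Fintype.ofFinite U
  obtain ⟨l, h0⟩ := exists_lin h hψ
  obtain ⟨t, ht, h1⟩ := exists_psi h hl l (hJ.trans (ovr h hψ.1 h0).2.2.1)
  have h2 : ip (ψ ∘ inclusion h.uB) (fun u => (l u : ℂ)) = ip (ψ ∘ inclusion h.uB) (fun u => (psi lam J u : ℂ)) := by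
    rw [ip_eq, ip_eq, Core.classInner_def, Core.classInner_def]
    congr 1
    refine Fintype.sum_equiv (RM.cj (h.sys.tU ht)).toEquiv _ _ fun u => ?_
    rw [h1 u (RM.cj (h.sys.tU ht) u) rfl]
    congr 1
    exact (Core.isIrr_isClassFunction hψ.1 (inclusion h.uB u) ⟨t, h.tB ht⟩).symm
  rwa [← h2]

end Bor

open Bor in
/-- **the characters of the Borel subgroup** -/
theorem borBox : BorBox := by
  intro K I _ _ _ U T B D h
  classical
  refine ⟨fun ψ hψ => ?_, fun ψ ψ' hψ hψ' hJ ht => ?_, fun lam hl => ⟨fun ψ hψ J => ⟨fun hJ => ?_, fun hJ => ?_⟩,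
    fun ψ hψ l h0 => (ovr h hψ h0).1, fun lam' hl' => lam_conj h.sys hl hl', fun t ht i hf => ⟨ht, fun j hj u hu => ?_⟩⟩⟩
  · obtain ⟨l, h0⟩ := exists_lin h hψ
    obtain ⟨-, -, h1, -, β, h2⟩ := ovr h hψ.1 h0
    refine ⟨β.comp (Subgroup.inclusion h.tB), fun t ht => h2 _ ?_ t.2⟩
    rw [h1] at ht
    exact (stab h l t.2).2 ht
  · obtain ⟨lam, hl⟩ := h.lam
    have h0 := over_psi h hψ hl (J := (Js U B D ψ).toFinset) (Set.coe_toFinset _)
    have h0' := over_psi h hψ' hl (J := (Js U B D ψ).toFinset) ((Set.coe_toFinset _).trans hJ)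
    obtain ⟨β, h1, h2⟩ := tw h hψ.1 hψ'.1 h0 h0'
    obtain ⟨-, -, h3, h4, γ, h5⟩ := ovr h hψ.1 h0
    funext b
    by_cases hb : b ∈ SL h (H40.OC.psi lam (Js U B D ψ).toFinset)
    · obtain ⟨u, hu, t, hT, e⟩ := (h.mem b).1 b.2
      have e' : b = ⟨u, h.uB hu⟩ * ⟨t, h.tB hT⟩ := Subtype.ext e
      have h6 : (⟨t, h.tB hT⟩ : B) ∈ SL h (H40.OC.psi lam (Js U B D ψ).toFinset) := by
        rw [e'] at hb
        exact (Subgroup.mul_mem_cancel_left _ (SL_of_U h _ hu)).1 hb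
      have h7 := ht ⟨t, h.tB hT⟩ (by rw [h3]; exact (stab h _ hT).1 h6)
      have h8 : ψ ⟨t, h.tB hT⟩ * ψ 1 ≠ 0 := by
        rw [h5 _ h6 hT]
        exact mul_ne_zero (mul_ne_zero (Units.ne_zero _) hψ.one_ne) hψ.one_ne
      rw [h2, h2, map_one, Units.val_one, one_mul, mul_assoc] at h7
      have h9 : (β ⟨t, h.tB hT⟩ : ℂ) = 1 := mul_right_cancel₀ h8 (h7.symm.trans (one_mul _).symm)
      have h10 : (β b : ℂ) = 1 := by rw [e', map_mul, h1 _ hu, one_mul, h9]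
      rw [h2, h10, one_mul]
    · rw [h2, h4 b hb, mul_zero]
  · exact (ovr h hψ.1 (over_psi h hψ hl hJ)).2.1
  · by_contra h0
    exact hJ ((sup_psi h.sys hl J).symm.trans (ovr h hψ.1 h0).2.2.1.symm)
  · rw [Set.mem_singleton_iff.1 hj]
    exact fix_D h (hl.one i) (hl.ne i) ht hf hu

end Cfsg.Agent.MK.Two
end

-- part: MK/Two/Adj
section
set_option linter.all false
open scoped Cfsg.Agent.FastGrp

/-!
# MK, characteristic two: the complement can be chosen such that it fixes `fl lam` (helper38)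

`adjBox : BorBox → AdjBox`.
-/

set_option autoImplicit false
set_option maxHeartbeats 400000

namespace Cfsg.Agent.MK.Two

open Cfsg Subgroup Cfsg.Agent.Characters.Core Cfsg.Agent.H40.OC
open scoped ComplexConjugate

namespace Adj

variable {K I : Type} [Group K]

/-- `φ` permutes the characters `lam i` -/
def Pm {U : Subgroup K} (lam : I → (U →* ℂˣ)) (φ : MulAut K) : Prop :=
  ∃ σ : Equiv.Perm I, ∀ i, ∀ u u' : U, (u' : K) = φ u → lam (σ i) u' = lam i u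

/-- the new complement -/
def ph {U : Subgroup K} (T : Subgroup K) (Φ : Subgroup (MulAut K)) (lam : I → (U →* ℂˣ))
    (hT : ∀ φ ∈ Φ, ∀ t ∈ T, φ t ∈ T) (hU : ∀ φ ∈ Φ, ∀ u ∈ U, φ u ∈ U) (hc : ∀ t ∈ T, ∀ u ∈ U, t * u * t⁻¹ ∈ U) :
    Subgroup (MulAut K) where
  carrier := {φ' | (∃ t ∈ T, ∃ φ ∈ Φ, φ' = MulAut.conj t * φ) ∧ Pm lam φ'}
  one_mem' := ⟨⟨1, one_mem _, 1, one_mem _, by rw [map_one, mul_one]⟩, 1, fun i u u' e => by
    rw [show u' = u from Subtype.ext e]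
    rfl⟩
  mul_mem' := by
    rintro a b ⟨⟨t, ht, φ, hφ, ea⟩, σ, hσ⟩ ⟨⟨s, hs, ψ, hψ, eb⟩, τ, hτ⟩
    refine ⟨⟨t * φ s, mul_mem ht (hT φ hφ s hs), φ * ψ, mul_mem hφ hψ, ?_⟩, σ * τ, fun i u u' e => ?_⟩
    · rw [ea, eb, map_mul, conj_map]
      group
    · have h1 : b u ∈ U := by
        rw [eb]
        exact hc s hs _ (hU ψ hψ u u.2)
      exact (hσ (τ i) ⟨b u, h1⟩ u' e).trans (hτ i u ⟨b u, h1⟩ rfl)
  inv_mem' := by
    rintro a ⟨⟨t, ht, φ, hφ, ea⟩, σ, hσ⟩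
    refine ⟨⟨φ⁻¹ t⁻¹, hT _ (inv_mem hφ) _ (inv_mem ht), φ⁻¹, inv_mem hφ, ?_⟩, σ⁻¹, fun i u u' e => ?_⟩
    · rw [ea, conj_map, map_inv]
      group
    · rw [← hσ (σ⁻¹ i) u' u (by rw [e, MulAut.apply_inv_self]), ← Equiv.Perm.mul_apply, mul_inv_cancel,
        Equiv.Perm.one_apply]

end Adj

open Adj in
/-- **the complement can be chosen such that it fixes `fl lam`** -/
theorem adjBox (h : BorBox) : AdjBox := by
  intro X K I _ _ _ _ ι U T B D Φ R f lam hl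
  obtain ⟨-, -, h3⟩ := h f.bo
  obtain ⟨-, -, hc, hd⟩ := h3 lam hl
  have S := f.bo.sys
  have hB := f.bo.tB
  refine ⟨ph T Φ lam f.φT f.φU fun t ht u hu => S.conj_U' ht hu,
    ⟨f.bo, f.inj, f.nrm, f.uX, f.spl, f.ti, f.mr, f.cen, f.zX, f.cX, ?_, ?_, ?_, ?_, ?_, f.ex, f.un, ?_, f.tw, f.cz⟩,
    fun Λ hΛ α => (hΛ α).trans ⟨?_, ?_⟩, ?_⟩
  · rintro _ ⟨⟨t, -, φ, hφ, rfl⟩, -⟩ x
    exact f.nrm.conj_mem _ (f.φX φ hφ x) t
  · rintro _ ⟨⟨t, ht, φ, hφ, rfl⟩, -⟩ u hu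
    exact S.conj_U' ht (f.φU φ hφ u hu)
  · rintro _ ⟨⟨t, ht, φ, hφ, rfl⟩, -⟩ s hs
    exact mul_mem (mul_mem ht (f.φT φ hφ s hs)) (inv_mem ht)
  · rintro _ ⟨⟨t, ht, φ, hφ, rfl⟩, -⟩
    obtain ⟨σ, hσ⟩ := f.φD φ hφ
    exact ⟨σ, fun i u hu => (mem_normalizer_iff.1 (S.tD (σ i) ht) (φ u)).symm.trans (hσ i u hu)⟩
  · rintro _ ⟨⟨t, ht, φ, hφ, rfl⟩, σ, hσ⟩ b hb e
    have h1 : φ = 1 := f.fa φ hφ (t⁻¹ * b) (mul_mem (inv_mem (hB ht)) hb) fun x => by
      have h2 : t * φ (ι x) * t⁻¹ = b * ι x * b⁻¹ := e x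
      rw [mul_inv_rev, inv_inv, mul_assoc t⁻¹, mul_assoc t⁻¹, ← mul_assoc (b * ι x), ← h2]
      group
    subst h1
    rw [mul_one] at hσ ⊢
    have h2 : ∀ i, σ i = i := by
      intro i
      by_contra hi
      refine hl.ne i (MonoidHom.ext fun u => ?_)
      obtain ⟨x, hx, h4, h5⟩ := S.co i u u.2
      have h6 : u = ⟨x, hx⟩ * ⟨x⁻¹ * u, mul_mem (inv_mem hx) u.2⟩ := Subtype.ext (mul_inv_cancel_left _ _).symm
      rw [h6, hl.mul h4, ← hσ i ⟨x, hx⟩ ⟨t * x * t⁻¹, S.conj_U' ht hx⟩ rfl]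
      exact hl.one _ _ ((mem_normalizer_iff.1 (S.tD (σ i) ht) x).1 (h5 _ hi))
    have h7 : t ∈ center K := f.cen t ⟨ht, fun i _ => (hd t ht i fun u u' e' => by
      rw [← hσ i u u' e', h2]).2 i rfl⟩
    refine MulEquiv.ext fun x => ?_
    change t * x * t⁻¹ = x
    rw [← mem_center_iff.1 h7 x, mul_inv_cancel_right]
  · rintro _ ⟨⟨t, ht, φ, hφ, rfl⟩, -⟩ χ ψ ψ' hχ hψ hR e
    have h1 : (fun g => χ ((MulAut.conj t * φ) g)) = fun g => χ (φ g) :=
      funext fun g => isIrr_isClassFunction hχ.1 (φ g) t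
    rw [h1]
    refine f.aut φ hφ χ ψ ψ' hχ hψ hR fun b b' e' => ?_
    rw [e b (⟨t, hB ht⟩ * b' * ⟨t, hB ht⟩⁻¹) (by rw [MulAut.mul_apply, ← e']; rfl)]
    exact isIrr_isClassFunction hψ.1 _ _
  · rintro ⟨b, hb, φ, hφ, e⟩
    obtain ⟨σ, hσ⟩ := f.φD φ hφ
    let r : U →* U := (φ.toMonoidHom.comp U.subtype).codRestrict U fun u => f.φU φ hφ u u.2
    obtain ⟨t, ht, h1⟩ := hc (fun i => (lam (σ i)).comp r) ⟨fun i u hu => hl.one _ _ ((hσ i u u.2).2 hu), fun i h1 =>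
      hl.ne (σ i) (MonoidHom.ext fun u => by
        have h2 : u = r ⟨φ⁻¹ u, f.φU _ (inv_mem hφ) u u.2⟩ := Subtype.ext (MulAut.apply_inv_self _ φ u.1).symm
        rw [h2]
        exact DFunLike.congr_fun h1 _)⟩
    refine ⟨b * φ t, mul_mem hb (hB (f.φT φ hφ t ht)), MulAut.conj (φ t⁻¹) * φ,
      ⟨⟨_, f.φT φ hφ _ (inv_mem ht), φ, hφ, rfl⟩, σ, fun i u u' e' => ?_⟩, fun x => ?_⟩
    · rw [← h1 i ⟨t⁻¹ * u * t, S.conj_U ht u.2⟩ u (by simp only [mul_assoc, mul_inv_cancel, mul_one, mul_inv_cancel_left])]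
      refine congrArg (lam (σ i)) (Subtype.ext (e'.trans ?_))
      change φ t⁻¹ * φ u * (φ t⁻¹)⁻¹ = φ (t⁻¹ * u * t)
      rw [map_mul, map_mul, ← map_inv, inv_inv]
    · rw [e, MulAut.mul_apply, MulAut.conj_apply, map_inv]
      group
  · rintro ⟨b, hb, _, ⟨⟨t, ht, φ, hφ, rfl⟩, -⟩, e⟩
    refine ⟨b * t, mul_mem hb (hB ht), φ, hφ, fun x => ?_⟩
    rw [e, MulAut.mul_apply, MulAut.conj_apply]
    group
  · rintro φ ⟨-, σ, hσ⟩ u u' e
    unfold fl
    rw [← Equiv.prod_comp σ]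
    exact Finset.prod_congr rfl fun i _ => by rw [hσ i u u' e]

end Cfsg.Agent.MK.Two
end

-- part: MK/Two/Ab
section
set_option linter.all false
open scoped Cfsg.Agent.FastGrp

/-!
# MK, characteristic two: abelian quotients and multiplicity one (helper13)

* `eq_one_of_tw` : an extension of an irreducible character is not fixed by a nontrivial linear character of the quotient;
* `abBox : AbBox`.
-/

set_option autoImplicit false
set_option maxHeartbeats 400000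

namespace Cfsg.Agent.MK.Two

open Cfsg Cfsg.Agent.Characters.Core Cfsg.Agent.GAL.C2 Cfsg.Agent.ODD.Red Cfsg.Agent.OddOrderCharacters
open scoped ComplexConjugate

theorem eq_one_of_tw {L S : Type} [Group L] [Group S] [Finite L] [Finite S] (κ : S →* L) {η : L → ℂ}
    (hη : IsIrrCharacter L η) (h : IsIrrCharacter S (η ∘ κ)) (β : L →* ℂˣ) (h1 : ∀ s, β (κ s) = 1)
    (h2 : ∀ g, β g * η g = η g) (g : L) : β g = 1 := by
  have := Fintype.ofFinite L
  have := Fintype.ofFinite β.ker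
  have h3 : IsIrrCharacter β.ker (η ∘ β.ker.subtype) :=
    CharactersDeep.MaxInduced.isIrr_of_comp (κ.codRestrict β.ker h1) (isCharacter_comp _ (isIrr_isCharacter hη)) h
  have h4 := classInner_irr_self hη
  have h5 := classInner_irr_self h3
  rw [classInner_def, inv_mul_eq_one₀ card_ne_zero_complex] at h4 h5
  have h6 := h5.trans ((Fintype.sum_of_injective β.ker.subtype Subtype.val_injective _ (fun g => η g * conj (η g))
    (fun x hx => by
      have h6 : η x = 0 := by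
        by_contra h7
        exact hx ⟨⟨x, Units.ext (mul_right_cancel₀ h7 ((h2 x).trans (one_mul _).symm))⟩, rfl⟩
      rw [h6, zero_mul]) fun _ => rfl).trans h4.symm)
  exact MonoidHom.mem_ker.1 (Subgroup.eq_top_of_card_eq _ (Nat.cast_inj.1 h6) ▸ Subgroup.mem_top g)

/-- **abelian quotients, multiplicity one** -/
theorem abBox : AbBox := by
  intro H S _ _ _ _ ι hι hn hab χ θ hχ hθ h1 L hL
  have := Fintype.ofFinite H
  have := Fintype.ofFinite S
  have := Fintype.ofFinite L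
  have := Fintype.ofFinite ι.range
  rw [ip_eq] at h1
  have hNL : ι.range ≤ L := by
    rintro _ ⟨t, rfl⟩
    refine (hL _).2 fun s s' e => ?_
    rw [hι (e.trans (by simp : ι t * ι s * (ι t)⁻¹ = ι (t * s * t⁻¹)))]
    exact isIrr_isClassFunction hθ s t
  let κ : S →* L := ι.codRestrict L fun s => hNL ⟨s, rfl⟩
  have hκ : Function.Injective κ := fun a b e => hι (congrArg Subtype.val e)
  have hκn : κ.range.Normal := ⟨by
    rintro _ ⟨s, rfl⟩ g
    obtain ⟨t, ht⟩ := hn.conj_mem _ ⟨s, rfl⟩ g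
    exact ⟨t, Subtype.ext ht⟩⟩
  have hT : ∀ g, g ∈ L ↔ NormalInduced.conjFn ι.range (tr hι θ) g = tr hι θ := fun g => by
    rw [hL, funext_iff]
    refine ⟨fun h2 => ?_, fun h2 s s' e => ?_⟩
    · rintro ⟨_, s, rfl⟩
      obtain ⟨t, ht⟩ := hn.conj_mem _ ⟨s, rfl⟩ g
      exact (congrArg (tr hι θ) (Subtype.ext ht.symm)).trans ((tr_apply hι θ t ⟨t, rfl⟩).trans
        ((h2 s t ht).trans (tr_apply hι θ s _).symm))
    · rw [← tr_apply hι θ s ⟨s, rfl⟩, ← h2, ← tr_apply hι θ s' ⟨s', rfl⟩]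
      exact congrArg (tr hι θ) (Subtype.ext e)
  obtain ⟨η, hη, h2, h3⟩ := PF9.CliffGen.exists_ind (tr_irr hι hθ) hT hNL hχ
    (((inner_tr hι χ θ).trans h1).trans_ne one_ne_zero)
  have h4 : classInner (η ∘ κ) θ ≠ 0 := by
    rw [← Characters.Clifford.classInner_comp_mulEquiv (MonoidHom.ofInjective hι)] at h2
    refine fun e => h2 (Eq.trans ?_ e)
    congr 1
    exact funext fun s => tr_apply hι θ s _
  have h5 : classInner (χ ∘ L.subtype) η ≠ 0 := by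
    rw [← H672.over_iff, h3]
    exact H672.RM.over_self_indFun L (h3 ▸ hχ)
  have hc : IsCharacter L (χ ∘ L.subtype - η) :=
    Clifford.isCharacter_sub_irr (isCharacter_comp _ (isIrr_isCharacter hχ)) hη h5
  obtain ⟨a, ha⟩ := classInner_isNat (isCharacter_comp κ hc) (isIrr_isCharacter hθ)
  obtain ⟨e, he⟩ := classInner_isNat (isCharacter_comp κ (isIrr_isCharacter hη)) (isIrr_isCharacter hθ)
  have h6 : (a : ℂ) = 1 - e := by
    rw [← ha, ← he, ← h1, ← classInner_sub_left]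
    rfl
  have h7 : a + e = 1 := by exact_mod_cast eq_sub_iff_add_eq.1 h6
  have h8 : e ≠ 0 := fun e0 => h4 (by rw [he, e0, Nat.cast_zero])
  obtain rfl : e = 1 := by omega
  obtain rfl : a = 0 := by omega
  have h9 : η ∘ κ = θ := by
    rw [H672.comp_eq_smul_of_invariant_hom κ hκ hκn hη hθ
      (fun k s s' e => (hL k).1 k.2 s s' (congrArg Subtype.val e)) h4, he, Nat.cast_one, one_smul]
  have hu : ∀ η' : L → ℂ, IsIrrCharacter L η' → (∀ s (g : L), (g : H) = ι s → η' g = θ s) →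
      ip (χ ∘ L.subtype) η' ≠ 0 → η' = η := fun η' h10 h11 h12 => by
    by_contra h13
    rw [ip_eq] at h12
    obtain ⟨b, hb⟩ := classInner_isNat (isCharacter_comp κ (Clifford.isCharacter_sub_irr hc h10 (by
      rwa [classInner_sub_left, classInner_irr_ne hη h10 (Ne.symm h13), sub_zero]))) (isIrr_isCharacter hθ)
    rw [show (χ ∘ L.subtype - η - η') ∘ κ = (χ ∘ L.subtype - η) ∘ κ - θ from
      funext fun s => congrArg (_ - ·) (h11 s _ rfl), classInner_sub_left, ha, classInner_irr_self hθ,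
      sub_eq_iff_eq_add] at hb
    exact Nat.succ_ne_zero b (by exact_mod_cast hb.symm)
  have h10 : ∀ s (g : L), (g : H) = ι s → η g = θ s := fun s g e => by
    rw [← h9, show g = κ s from Subtype.ext e]
    rfl
  refine ⟨⟨η, hη, h10, by rwa [ip_eq], hu⟩, fun β hβ => ⟨fun h11 g hg => ?_, fun h11 g => ?_⟩⟩
  · refine eq_one_of_tw κ hη (h9 ▸ hθ) (β.comp L.subtype) hβ (congrFun (hu _ (isIrr_lin_mul _ hη) (fun s x e => ?_) ?_))
      ⟨g, hg⟩
    · rw [h10 s x e, MonoidHom.comp_apply, Subgroup.subtype_apply, e, hβ, Units.val_one, one_mul]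
    · rw [ip_eq, classInner_def]
      rw [classInner_def] at h5
      refine fun e => h5 (Eq.trans (congrArg _ (Finset.sum_congr rfl fun x _ => ?_)) e)
      by_cases h12 : χ x = 0
      · simp [h12]
      · rw [show ((β.comp L.subtype x : ℂˣ) : ℂ) = 1 from mul_right_cancel₀ h12 ((h11 x).trans (one_mul _).symm), one_mul]
  · by_cases hg : g ∈ L
    · rw [h11 g hg, Units.val_one, one_mul]
    · rw [h3, indFun_apply, Finset.sum_eq_zero fun x _ => extendByZero_of_notMem _ _ fun hx => hg ?_, mul_zero, mul_zero]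
      rw [show g = x⁻¹ * g * x * ((g * x)⁻¹ * (x * g)) by group]
      exact mul_mem hx (hNL (hab g x))

end Cfsg.Agent.MK.Two
end

-- part: MK/Two/Ti
section
set_option linter.all false
open scoped Cfsg.Agent.FastGrp

/-!
# MK, characteristic two: the isometry (helper13)

* `col` : column orthogonality as a count;
* `sum_ip` : the sum of the squares of the scalar products over all irreducible characters;
* `tiBox : TiBox`.
-/

set_option autoImplicit false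
set_option maxHeartbeats 400000

namespace Cfsg.Agent.MK.Two

open Cfsg Cfsg.Agent.Characters.Core
open scoped ComplexConjugate

open scoped Classical in
/-- column orthogonality as a count -/
theorem col {H : Type} [Group H] [Fintype H] [Fintype (IrrCharacter H)] (a b : H) :
    ∑ χ : IrrCharacter H, (χ : H → ℂ) a * conj ((χ : H → ℂ) b) = ∑ g : H, if g⁻¹ * a * g = b then (1 : ℂ) else 0 := by
  let c : H → ℂ := fun a => ∑ g : H, if g⁻¹ * a * g = b then (1 : ℂ) else 0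
  have h1 : IsClassFunction H c := fun g h => by
    simp only [c]
    rw [← Equiv.sum_comp (Equiv.mulLeft h)]
    refine Finset.sum_congr rfl fun x _ => if_congr ?_ rfl rfl
    rw [Equiv.coe_mulLeft, show (h * x)⁻¹ * (h * g * h⁻¹) * (h * x) = x⁻¹ * g * x by group]
  have h2 : ∀ χ : IrrCharacter H, classInner c χ = conj ((χ : H → ℂ) b) := fun χ => by
    have h3 : ∀ g a : H, (g⁻¹ * a * g = b) = (a = g * b * g⁻¹) := fun g a =>
      propext ⟨fun e => by rw [← e]; group, fun e => by rw [e]; group⟩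
    simp only [classInner_def, c, Finset.sum_mul, h3, ite_mul, one_mul, zero_mul]
    rw [Finset.sum_comm]
    simp only [Finset.sum_ite_eq', Finset.mem_univ, if_true, isIrr_isClassFunction χ.2 _ _, Finset.sum_const,
      Finset.card_univ, nsmul_eq_mul, ← Nat.card_eq_fintype_card,
      inv_mul_cancel_left₀ (card_ne_zero_complex (G := H))]
  have h4 := congrFun (classFunction_eq_sum h1) a
  simp only [Finset.sum_apply, Pi.smul_apply, smul_eq_mul, h2] at h4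
  exact (Finset.sum_congr rfl fun χ _ => mul_comm _ _).trans h4.symm

open scoped Classical in
theorem sum_ip {H V : Type} [Group H] [Group V] [Fintype H] [Fintype V] (j : V → H) (f : V → ℂ) :
    ((∑ᶠ θ : IrrCharacter H, Complex.normSq (ip (fun v => (θ : H → ℂ) (j v)) f) : ℝ) : ℂ) =
      (Nat.card V : ℂ)⁻¹ * (Nat.card V : ℂ)⁻¹ * ∑ v, ∑ v', conj (f v) * f v' *
        ∑ g : H, if g⁻¹ * j v * g = j v' then (1 : ℂ) else 0 := by
  have := @Fintype.ofFinite _ (finite_irr (G := H))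
  rw [finsum_eq_sum_of_fintype, Complex.ofReal_sum]
  simp only [← col, Finset.mul_sum, ← Complex.mul_conj, ip_eq, classInner_def, map_mul, map_sum, map_inv₀, map_natCast,
    Complex.conj_conj, Finset.sum_mul]
  rw [Finset.sum_comm]
  conv_rhs => rw [Finset.sum_comm]
  refine Finset.sum_congr rfl fun v' _ => ?_
  rw [Finset.sum_comm]
  exact Finset.sum_congr rfl fun v _ => Finset.sum_congr rfl fun χ _ => by ring

/-- **the isometry** -/
theorem tiBox : TiBox := by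
  intro H V _ _ _ _ M j f h
  classical
  have := Fintype.ofFinite H
  have := Fintype.ofFinite V
  have := Fintype.ofFinite M
  apply Complex.ofReal_injective
  rw [sum_ip (fun v => (j v : H)), sum_ip j]
  refine congrArg _ (Finset.sum_congr rfl fun v _ => Finset.sum_congr rfl fun v' _ => ?_)
  by_cases h0 : f v = 0
  · simp [h0]
  · refine congrArg _ (Fintype.sum_of_injective M.subtype Subtype.val_injective _ _ (fun g hg => if_neg fun e => ?_)
      fun g => ?_).symm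
    · exact hg ⟨⟨g, h v h0 g v' e⟩, rfl⟩
    · by_cases e : g⁻¹ * j v * g = j v'
      · exact (if_pos e).trans (if_pos (Subtype.ext_iff.1 e)).symm
      · exact (if_neg e).trans (if_neg fun e' => e (Subtype.ext e')).symm

end Cfsg.Agent.MK.Two

private theorem dce_fedc03c1eb40 : _root_.True := by
  try have : _root_.True := by simp only [_root_.Cfsg.Agent.MK.Two.ip.congr_simp]
  exact _root_.True.intro
end

-- part: MK/Two/Sp1
section
prune_inst 0x20100c60192200000000009083002000540000020060000090600400000291200400890108000c10083aac1000000040020000c0400000000a000000000400000028020411400008400010003003010000000000000000000000000000041004004010000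
set_option linter.all false
open scoped Cfsg.Agent.FastGrp

/-!
# MK, characteristic two: tools for `SpBox` (helper58)

* `ip_congr`, `ip_nat`, `ip_sum`, `ip_tw`, `ip_zero_of`, `ip_one_unique` : scalar products;
* `exists_act` : restriction of an action; `cen_of_und`; `count`;
* `Ab ι` : `ι` is injective, the range is normal, the quotient is abelian of odd order; `Ab.up`, `Ab.down`, `Ab.cj`, `Ab.tw`,
  `Ab.mult_one`, `Ab.Stb`, `Ab.sep`, `Ab.hat`;
* `extF_of`, `ExtF.conj`.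
-/

set_option autoImplicit false
set_option maxHeartbeats 400000

namespace Cfsg.Agent.MK.Two

open Cfsg Subgroup Cfsg.Agent.Characters Cfsg.Agent.Characters.Core Cfsg.Agent.ODD.Red
open scoped ComplexConjugate

section ip

variable {H S V : Type} [Group H] [Group S] [Group V] [Finite H] [Finite S] [Finite V]

theorem ip_congr (e : S ≃ H) {φ ψ : H → ℂ} {φ' ψ' : S → ℂ} (h : ∀ s, φ' s * conj (ψ' s) = φ (e s) * conj (ψ (e s))) :
    ip φ' ψ' = ip φ ψ := by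
  have := Fintype.ofFinite H
  have := Fintype.ofFinite S
  rw [ip_eq, ip_eq, classInner_def, classInner_def, Nat.card_congr e]
  exact congrArg _ (Fintype.sum_equiv e _ _ h)

theorem ip_nat {χ θ : H → ℂ} (hχ : IsCharacter H χ) (hθ : IsCharacter H θ) : ∃ n : ℕ, ip χ θ = n :=
  letI := Fintype.ofFinite H
  classInner_isNat hχ hθ

theorem ip_sum [Fintype (IrrCharacter H)] {χ : H → ℂ} (hχ : IsCharacter H χ) (j : V → H) (f : V → ℂ) :
    ip (χ ∘ j) f = ∑ θ : IrrCharacter H, ip χ θ * ip ((θ : H → ℂ) ∘ j) f := by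
  have := Fintype.ofFinite H
  have := Fintype.ofFinite V
  simp only [ip_eq]
  conv_lhs => rw [classFunction_eq_sum (isCharacter_isClassFunction hχ)]
  simp only [← classInner_smul_left, ← classInner_sum_left]
  exact congrArg (classInner · f) (funext fun v => by simp only [_root_.Function.comp_apply, _root_.Finset.sum_apply, _root_.Pi.smul_apply, _root_.smul_eq_mul])

theorem lin_conj (β : H →* ℂˣ) (g : H) : (β g : ℂ) * conj (β g : ℂ) = 1 := by
  rw [Complex.mul_conj, Complex.normSq_eq_norm_sq, Linear.norm_hom_apply]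
  simp

theorem ip_outer (a f : H → ℂ) (b g : S → ℂ) :
    ip (fun v : H × S => a v.1 * conj (b v.2)) (fun v => f v.1 * conj (g v.2)) = ip a f * conj (ip b g) := by
  have := Fintype.ofFinite H
  have := Fintype.ofFinite S
  simp only [ip_eq, classInner_def, Fintype.sum_prod_type, Nat.card_prod, map_mul, map_sum, map_inv₀, map_natCast]
  rw [mul_mul_mul_comm, Finset.sum_mul_sum, Nat.cast_mul, mul_inv]
  exact congrArg _ (Finset.sum_congr rfl fun _ _ => Finset.sum_congr rfl fun _ _ => by ring)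

theorem nat_sum (j : V →* H) {χ : H → ℂ} (hχ : IsCharacter H χ) {l : V → ℂ} (hl : IsCharacter V l)
    [Fintype (IrrCharacter H)] : ∃ m n : IrrCharacter H → ℕ, (∀ η : IrrCharacter H, ip χ η = m η) ∧
      (∀ η : IrrCharacter H, ip ((η : H → ℂ) ∘ j) l = n η) ∧ ip (χ ∘ j) l = (∑ η, m η * n η : ℕ) := by
  choose m hm using fun η : IrrCharacter H => ip_nat hχ (isIrr_isCharacter η.2)
  choose n hn using fun η : IrrCharacter H => ip_nat (isCharacter_comp j (isIrr_isCharacter η.2)) hl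
  exact ⟨m, n, hm, hn, by simp only [ip_sum hχ, hm, hn, _root_.Nat.cast_sum, _root_.Nat.cast_mul]⟩

theorem ip_zero_of (j : V →* H) {χ η : H → ℂ} (hχ : IsCharacter H χ) (hη : IsIrrCharacter H η) {l : V → ℂ}
    (hl : IsCharacter V l) (h : ip χ η ≠ 0) (h0 : ip (χ ∘ j) l = 0) : ip (η ∘ j) l = 0 := by
  have := @Fintype.ofFinite _ (finite_irr (G := H))
  obtain ⟨m, n, hm, hn, hs⟩ := nat_sum j hχ hl
  rw [hs, Nat.cast_eq_zero, Finset.sum_eq_zero_iff] at h0
  rw [hm ⟨η, hη⟩, Nat.cast_ne_zero] at h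
  exact (hn ⟨η, hη⟩).trans (Nat.cast_eq_zero.2 ((mul_eq_zero.1 (h0 _ (Finset.mem_univ _))).resolve_left h))

theorem ip_one_unique (j : V →* H) {χ η η' : H → ℂ} (hχ : IsCharacter H χ) (hη : IsIrrCharacter H η)
    (hη' : IsIrrCharacter H η') {l : V → ℂ} (hl : IsCharacter V l) (h1 : ip (χ ∘ j) l = 1) (h : ip χ η ≠ 0)
    (h' : ip χ η' ≠ 0) (h2 : ip (η ∘ j) l ≠ 0) (h2' : ip (η' ∘ j) l ≠ 0) : η = η' ∧ ip (η ∘ j) l = 1 := by
  classical
  have := @Fintype.ofFinite _ (finite_irr (G := H))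
  obtain ⟨m, n, hm, hn, hs⟩ := nat_sum j hχ hl
  rw [hs, Nat.cast_eq_one] at h1
  rw [hm ⟨η, hη⟩, Nat.cast_ne_zero] at h
  rw [hm ⟨η', hη'⟩, Nat.cast_ne_zero] at h'
  rw [hn ⟨η, hη⟩, Nat.cast_ne_zero] at h2
  rw [hn ⟨η', hη'⟩, Nat.cast_ne_zero] at h2'
  have h3 := Nat.pos_of_ne_zero (mul_ne_zero h h2)
  have h4 := Nat.pos_of_ne_zero (mul_ne_zero h' h2')
  have h5 := Finset.single_le_sum (f := fun η => m η * n η) (fun _ _ => Nat.zero_le _) (Finset.mem_univ ⟨η, hη⟩)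
  refine ⟨by_contra fun e => ?_, (hn ⟨η, hη⟩).trans (Nat.cast_eq_one.2 (Nat.eq_one_of_mul_eq_one_left (m := m ⟨η, hη⟩)
    (by omega)))⟩
  have h6 := Finset.add_le_sum (f := fun η => m η * n η) (fun _ _ => Nat.zero_le _) (Finset.mem_univ ⟨η, hη⟩)
    (Finset.mem_univ ⟨η', hη'⟩) fun e' => e (congrArg Subtype.val e')
  omega

theorem exists_und (j : V → H) {χ : H → ℂ} (hχ : IsCharacter H χ) {f : V → ℂ} (h : ip (χ ∘ j) f ≠ 0) :
    ∃ η, IsIrrCharacter H η ∧ ip χ η ≠ 0 ∧ ip (η ∘ j) f ≠ 0 := by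
  have := @Fintype.ofFinite _ (finite_irr (G := H))
  rw [ip_sum hχ] at h
  obtain ⟨η, -, h1⟩ := Finset.exists_ne_zero_of_sum_ne_zero h
  exact ⟨η, η.2, left_ne_zero_of_mul h1, right_ne_zero_of_mul h1⟩

theorem exists_ov {ι : S →* H} (hι : Function.Injective ι) {θ : S → ℂ} (hθ : IsIrrCharacter S θ) :
    ∃ χ, IsIrrCharacter H χ ∧ ip (χ ∘ ι) θ ≠ 0 := by
  have := Fintype.ofFinite S
  have := Fintype.ofFinite ι.range
  obtain ⟨χ, h1, h2⟩ := ODD.C2.exists_over ι.range (GAL.C2.tr_irr hι hθ)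
  exact ⟨χ, h1, by rwa [GAL.C2.inner_tr, ← ip_eq] at h2⟩

theorem cen_of_und {i : S →* H} (hi : Function.Injective i) {χ : H → ℂ} (hχ : IsIrrCharacter H χ) {η : S → ℂ}
    (hη : IsIrrCharacter S η) (h : ip (χ ∘ i) η ≠ 0) {z : S} (hz : i z ∈ center H) {c : ℂ}
    (hc : χ (i z) = c * χ 1) : η z = c * η 1 := by
  have h1 : z ∈ center S := mem_center_iff.2 fun g => hi (by rw [map_mul, map_mul, mem_center_iff.1 hz])
  obtain ⟨a, ha, -⟩ := exists_central hχ hz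
  obtain ⟨b, hb, -⟩ := exists_central hη h1
  have h2 : η z = b * η 1 := by rw [← hb, mul_one]
  obtain rfl : a = c := mul_right_cancel₀ (isIrr_apply_one_ne_zero hχ) (by rw [← ha, mul_one, hc])
  have h3 := E.mul_conj_central hη h1 h2
  have := Fintype.ofFinite S
  have h4 : ip ((a * conj b) • (χ ∘ i)) η = ip (χ ∘ i) η := ip_congr (Equiv.mulLeft z) fun s => by
    simp only [Equiv.coe_mulLeft, Function.comp, Pi.smul_apply, smul_eq_mul, map_mul, ha, hb]
    ring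
  rw [ip_eq, classInner_smul_left, ← ip_eq] at h4
  have h5 := mul_right_cancel₀ h (h4.trans (one_mul _).symm)
  rw [h2, show b = a by linear_combination a * h3 - b * h5]

/-- the scalar products with characters are integers -/
def ZL (f : V → ℂ) : Prop := ∀ χ, IsCharacter V χ → ∃ n : ℤ, ip χ f = n

theorem ZL.one_le {f : V → ℂ} (hf : ZL f) {χ : V → ℂ} (hχ : IsCharacter V χ) (h : ip χ f ≠ 0) :
    1 ≤ Complex.normSq (ip χ f) := by
  obtain ⟨n, hn⟩ := hf χ hχ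
  rw [hn, Int.cast_ne_zero] at h
  rw [hn, Complex.normSq_intCast]
  exact_mod_cast Int.add_one_le_of_lt (mul_self_pos.2 h)

end ip

theorem exists_act {P G S : Type} [Group P] [Group G] [Group S] (ρ : P →* MulAut G) {i : S →* G}
    (hi : Function.Injective i) (h : ∀ p s, ρ p (i s) ∈ i.range) :
    ∃ σ : P →* MulAut S, ∀ p s, i (σ p s) = ρ p (i s) := by
  choose g hg using h
  exact ⟨MonoidHom.mk' (fun p =>
    { toFun := g p
      invFun := g p⁻¹
      left_inv := fun s => hi (by rw [hg, hg, map_inv, MulAut.inv_apply_self])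
      right_inv := fun s => hi (by rw [hg, hg, map_inv, MulAut.apply_inv_self])
      map_mul' := fun a b => hi (by rw [map_mul, hg, hg, hg, map_mul, map_mul]) })
    fun p q => MulEquiv.ext fun s => hi ((hg _ s).trans (by rw [map_mul]; exact ((hg p _).trans (congrArg _ (hg q s))).symm)),
    hg⟩

/-- the diagonal action -/
def prodA {P G G' : Type} [Group P] [Group G] [Group G'] (ρ : P →* MulAut G) (σ : P →* MulAut G') :
    P →* MulAut (G × G') :=
  MonoidHom.mk' (fun p => MulEquiv.prodCongr (ρ p) (σ p)) fun p q => by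
    rw [map_mul, map_mul]
    rfl

theorem count {A B : Type} [Finite A] [Finite B] (w : A → ℝ) (w' : B → ℝ) (P : A → B → Prop) (h0 : ∀ a, 0 ≤ w a)
    (h0' : ∀ b, w' b ≠ 0 → w' b = 1 ∧ ∃ a, P a b) (un : ∀ a b b', P a b → P a b' → b = b')
    (h1 : ∀ a b, P a b → 1 ≤ w a ∧ w' b ≠ 0) (hs : ∑ᶠ a, w a = ∑ᶠ b, w' b) :
    (∀ a, w a ≠ 0 → w a = 1 ∧ ∃ b, P a b) ∧ ∀ a a' b, P a b → P a' b → a = a' := by
  classical
  have := Fintype.ofFinite A
  have := Fintype.ofFinite B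
  rw [finsum_eq_sum_of_fintype, finsum_eq_sum_of_fintype] at hs
  choose c hc using fun b : {b // w' b ≠ 0} => (h0' b.1 b.2).2
  have h2 : Function.Injective c := fun b b' e => Subtype.ext (un _ _ _ (hc b) (e ▸ hc b'))
  have h3 : ∑ a, (w a - if a ∈ Finset.univ.image c then 1 else 0) = 0 := by
    rw [Finset.sum_sub_distrib, hs, Finset.sum_ite_mem, Finset.univ_inter, Finset.sum_image fun _ _ _ _ e => h2 e,
      ← Finset.sum_filter_ne_zero, Finset.sum_subtype (p := fun b => w' b ≠ 0) _ (by simp only [_root_.ne_eq, _root_.Finset.mem_filter, _root_.Finset.mem_univ, _root_.true_and, _root_.implies_true]), sub_eq_zero]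
    exact Finset.sum_congr rfl fun b _ => (h0' b.1 b.2).1
  have h4 : ∀ a, w a ≠ 0 → w a = 1 ∧ ∃ b, c b = a := fun a ha => by
    have h5 := (Finset.sum_eq_zero_iff_of_nonneg fun a _ => ?_).1 h3 a (Finset.mem_univ a)
    · split_ifs at h5 with h6
      · exact ⟨sub_eq_zero.1 h5, by simpa only [_root_.ne_eq, _root_.Subtype.exists, _root_.Finset.mem_image, _root_.Finset.mem_univ, _root_.true_and] using h6⟩
      · exact absurd (sub_eq_zero.1 h5) ha
    · split_ifs with h6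
      · obtain ⟨b, -, rfl⟩ := Finset.mem_image.1 h6
        exact sub_nonneg.2 (h1 _ _ (hc b)).1
      · exact sub_nonneg.2 (h0 a)
  refine ⟨fun a ha => ?_, fun a a' b h h' => ?_⟩
  · obtain ⟨h5, b, rfl⟩ := h4 a ha
    exact ⟨h5, b, hc b⟩
  · obtain ⟨-, b1, rfl⟩ := h4 a (one_pos.trans_le (h1 _ _ h).1).ne'
    obtain ⟨-, b2, rfl⟩ := h4 a' (one_pos.trans_le (h1 _ _ h').1).ne'
    exact congrArg c (Subtype.ext ((un _ _ _ (hc b1) h).trans (un _ _ _ h' (hc b2))))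

theorem exists_sep {H : Type} [Group H] [Finite H] (L : Subgroup H) (hL : ∀ a b : H, (a * b)⁻¹ * (b * a) ∈ L) {g : H}
    (hg : g ∉ L) : ∃ β : H →* ℂˣ, (∀ l ∈ L, β l = 1) ∧ β g ≠ 1 := by
  have : L.Normal := ⟨fun l hl a => by
    have h2 := mul_mem hl (hL a⁻¹ l⁻¹)
    rwa [show l * ((a⁻¹ * l⁻¹)⁻¹ * (l⁻¹ * a⁻¹)) = l * (l * (a * l⁻¹ * a⁻¹)) by group, mul_mem_cancel_left hl,
      mul_mem_cancel_left hl, ← inv_mem_iff, show (a * l⁻¹ * a⁻¹)⁻¹ = a * l * a⁻¹ by group] at h2⟩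
  let : CommGroup (H ⧸ L) := { (inferInstance : Group (H ⧸ L)) with
    mul_comm := fun a b => QuotientGroup.induction_on a fun a => QuotientGroup.induction_on b fun b =>
      QuotientGroup.eq.2 (hL a b) }
  have : NeZero ((Monoid.exponent (H ⧸ L) : ℕ) : ℂ) := ⟨Nat.cast_ne_zero.2 Monoid.exponent_ne_zero_of_finite⟩
  obtain ⟨β, hβ⟩ := CommGroup.exists_apply_ne_one_of_hasEnoughRootsOfUnity (H ⧸ L) ℂ
    (a := (g : H ⧸ L)) fun e => hg ((QuotientGroup.eq_one_iff g).1 e)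
  exact ⟨β.comp (QuotientGroup.mk' L), fun l hl => by
    rw [MonoidHom.comp_apply, QuotientGroup.mk'_apply, (QuotientGroup.eq_one_iff l).2 hl, map_one], hβ⟩

/-- an abelian quotient of odd order -/
structure Ab {S H : Type} [Group S] [Group H] (ι : S →* H) : Prop where
  inj : Function.Injective ι
  nrm : ι.range.Normal
  ab : ∀ a b : H, (a * b)⁻¹ * (b * a) ∈ ι.range
  odd : Odd ι.range.index

namespace Ab

variable {H S V : Type} [Group H] [Group S] [Group V] {ι : S →* H} (h : Ab ι) {χ χ' : H → ℂ} {θ η : S → ℂ}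
include h

theorem act : ∃ κ : H →* MulAut S, ∀ g s, ι (κ g s) = g * ι s * g⁻¹ :=
  exists_act MulAut.conj h.inj fun g s => h.nrm.conj_mem _ ⟨s, rfl⟩ g

/-- the stabiliser -/
def Stb (θ : S → ℂ) : Subgroup H where
  carrier := {g | ∀ s s', ι s' = g * ι s * g⁻¹ → θ s' = θ s}
  one_mem' s s' e := congrArg θ (h.inj (by simpa using e))
  mul_mem' := fun {a b} ha hb s s' e => by
    obtain ⟨t, ht⟩ := h.nrm.conj_mem _ ⟨s, rfl⟩ b
    exact (ha t s' (by rw [e, ht]; group)).trans (hb s t ht)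
  inv_mem' := fun {a} ha s s' e => (ha s' s (by rw [e]; group)).symm

theorem mem_Stb {g : H} {α : S → S} (hα : ∀ s, ι (α s) = g * ι s * g⁻¹) : g ∈ h.Stb θ ↔ ∀ s, θ (α s) = θ s :=
  ⟨fun h1 s => h1 s _ (hα s), fun h1 s s' e => by rw [h.inj (e.trans (hα s).symm), h1]⟩

theorem le_Stb (hθ : IsIrrCharacter S θ) (s : S) : ι s ∈ h.Stb θ :=
  (h.mem_Stb (α := fun x => s * x * s⁻¹) (by simp only [_root_.map_mul, _root_.map_inv, _root_.implies_true])).2 fun x => isIrr_isClassFunction hθ x s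

variable [Finite H] [Finite S] [Finite V]

theorem down (hχ : OI H χ) (hθ : IsIrrCharacter S θ) (h1 : ip (χ ∘ ι) θ ≠ 0) : OI S θ :=
  ⟨hθ, hχ.2.of_dvd_nat (H672.charDegree_dvd_of_over_hom ι h.inj h.nrm hχ.1 hθ h1).1⟩

theorem up (hθ : OI S θ) : ∃ χ, OI H χ ∧ ip (χ ∘ ι) θ ≠ 0 := by
  obtain ⟨χ, h1, h2⟩ := exists_ov h.inj hθ.1
  obtain ⟨h3, h4⟩ := H672.charDegree_dvd_of_over_hom ι h.inj h.nrm h1 hθ.1 h2
  exact ⟨χ, ⟨h1, Nat.div_mul_cancel h3 ▸ (h.odd.of_dvd_nat h4).mul hθ.2⟩, h2⟩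

theorem cj (hχ : IsIrrCharacter H χ) (hθ : IsIrrCharacter S θ) (hη : IsIrrCharacter S η) (h1 : ip (χ ∘ ι) θ ≠ 0)
    (h2 : ip (χ ∘ ι) η ≠ 0) : ∃ k : H, ∀ s s', ι s' = k * ι s * k⁻¹ → η s = θ s' :=
  letI := Fintype.ofFinite S
  letI := Fintype.ofFinite H
  haveI := h.nrm
  GAL.C2.exists_cj h.inj hχ hθ hη h1 h2

theorem tw (hχ : IsIrrCharacter H χ) (hχ' : IsIrrCharacter H χ') (hθ : IsIrrCharacter S θ) (h1 : ip (χ ∘ ι) θ ≠ 0)
    (h2 : ip (χ' ∘ ι) θ ≠ 0) : ∃ β : H →* ℂˣ, (∀ s, β (ι s) = 1) ∧ χ' = fun g => β g * χ g :=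
  letI := Fintype.ofFinite S
  letI := Fintype.ofFinite H
  haveI := h.nrm
  let ⟨β, h3, h4⟩ := GAL.C2.exists_tw h.inj h.ab hχ hχ' hθ h1 h2
  ⟨β, h3, funext h4⟩

omit h [Finite H] in
theorem ip_cj (hχ : IsIrrCharacter H χ) {g : H} {α : MulAut S} (hα : ∀ s, ι (α s) = g * ι s * g⁻¹) (θ : S → ℂ) :
    ip (χ ∘ ι) (fun s => θ (α s)) = ip (χ ∘ ι) θ :=
  ip_congr α.toEquiv fun s => congrArg (· * _) ((isIrr_isClassFunction hχ _ g).symm.trans (congrArg χ (hα s).symm))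

theorem mult_one (hχ : IsIrrCharacter H χ) (j : V →* S) {f : V → ℂ} (hf : ZL f)
    (h1 : Complex.normSq (ip ((χ ∘ ι) ∘ j) f) = 1) (hθ : IsIrrCharacter S θ) (h2 : ip (χ ∘ ι) θ ≠ 0) :
    ip (χ ∘ ι) θ = 1 := by
  classical
  have := @Fintype.ofFinite _ (finite_irr (G := S))
  have hc := isCharacter_comp ι (isIrr_isCharacter hχ)
  obtain ⟨e, he⟩ := ip_nat hc (isIrr_isCharacter hθ)
  obtain ⟨κ, hκ⟩ := h.act
  choose n hn using fun η : IrrCharacter S => hf _ (isCharacter_comp j (isIrr_isCharacter η.2))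
  have h3 : ip ((χ ∘ ι) ∘ j) f = ((e * ∑ η : IrrCharacter S, if ip (χ ∘ ι) η = 0 then 0 else n η : ℤ) : ℂ) := by
    rw [ip_sum hc, Finset.mul_sum, Int.cast_sum]
    refine Finset.sum_congr rfl fun η _ => ?_
    split_ifs with h4
    · simp [h4]
    · obtain ⟨k, hk⟩ := h.cj hχ hθ η.2 h2 h4
      rw [hn, show (η : S → ℂ) = fun s => θ (κ k s) from funext fun s => hk _ _ (hκ k s), ip_cj hχ (hκ k), he]
      simp
  rw [h3, Complex.normSq_intCast] at h1
  have h4 : (e : ℤ) ∣ 1 := by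
    rw [← Int.cast_mul, Int.cast_eq_one] at h1
    exact h1 ▸ (dvd_mul_right _ _).mul_right _
  rw [he, Nat.dvd_one.1 (Int.natCast_dvd_natCast.1 h4), Nat.cast_one]

omit [Finite S] in
/-- the canonical extension is twisted like the character above -/
theorem hat {ξ : h.Stb θ → ℂ} (h1 : IsIrrCharacter _ ξ) (h2 : ∀ s (g : h.Stb θ), (g : H) = ι s → ξ g = θ s)
    (h3 : ip (χ ∘ (h.Stb θ).subtype) ξ ≠ 0)
    (h4 : ∀ ξ' : h.Stb θ → ℂ, IsIrrCharacter _ ξ' → (∀ s (g : h.Stb θ), (g : H) = ι s → ξ' g = θ s) →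
      ip (χ ∘ (h.Stb θ).subtype) ξ' ≠ 0 → ξ' = ξ)
    {φ : MulAut H} {α : MulAut S} (hα : ∀ s, ι (α s) = φ (ι s)) (hθ : ∀ s, θ (α s) = θ s) {β : H →* ℂˣ}
    (hβ : ∀ s, β (ι s) = 1) (hχ : ∀ g, χ (φ g) = β g * χ g) :
    (∀ g ∈ h.Stb θ, φ g ∈ h.Stb θ) ∧ ∀ g g' : h.Stb θ, (g' : H) = φ g → ξ g' = β g * ξ g := by
  have h5 : ∀ g ∈ h.Stb θ, φ g ∈ h.Stb θ := fun g hg s s' e => by
    obtain ⟨s, rfl⟩ := α.surjective s
    obtain ⟨s', rfl⟩ := α.surjective s'
    rw [hθ, hθ]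
    exact hg _ _ (φ.injective (by rw [← hα, e, hα, map_mul, map_mul, map_inv]))
  let ψ : h.Stb θ →* h.Stb θ := (φ.toMonoidHom.comp (h.Stb θ).subtype).codRestrict _ fun g => h5 g g.2
  have h6 : Function.Bijective ψ :=
    Finite.injective_iff_bijective.1 fun a b e => Subtype.ext (φ.injective (congrArg Subtype.val e))
  have h7 := h4 _ (isIrr_lin_mul (β.comp (h.Stb θ).subtype)⁻¹ (isIrr_comp' ψ h6.2 h1)) (fun s g e => by
    rw [h2 (α s) (ψ g) ((congrArg φ e).trans (hα s).symm), hθ]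
    simp [e, hβ]) (by
    rw [ip_congr (Equiv.ofBijective ψ h6) (φ := χ ∘ (h.Stb θ).subtype) (ψ := ξ) fun g => ?_]
    · exact h3
    · have h8 := lin_conj β⁻¹ g
      have h9 : ((β⁻¹ g : ℂˣ) : ℂ) * β g = 1 := by simp
      change χ g * conj ((β⁻¹ g : ℂˣ) * ξ (ψ g)) = χ (φ g) * conj (ξ (ψ g))
      rw [hχ, map_mul]
      linear_combination χ g * conj (ξ (ψ g)) * ((β g : ℂ) * h8 - conj ((β⁻¹ g : ℂˣ) : ℂ) * h9))
  refine ⟨h5, fun g g' e => ?_⟩
  rw [← congrFun h7 g, show g' = ψ g from Subtype.ext e]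
  simp only [_root_.MonoidHom.inv_apply, _root_.MonoidHom.coe_comp, _root_.Subgroup.coe_subtype, _root_.Function.comp_apply, _root_.Units.val_inv_eq_inv_val, _root_.ne_eq, _root_.Units.ne_zero, _root_.not_false_eq_true, _root_.mul_inv_cancel_left₀]

end Ab

section ext

variable {X : Type} [Group X] {Λ S : Subgroup (MulAut X)} {θ : X → ℂ} {ψ : In Λ → ℂ}

theorem extF_of {A : Type} [Group A] [Finite A] (j : X × In Λ →* A) {Ψ : A → ℂ} (hΨ : IsIrrCharacter A Ψ)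
    (hj : ∀ x y, Ψ (j (x, y)) = θ x * conj (ψ y)) (r : A → MulAut X → Prop)
    (h1 : ∀ c c' α α', r c α → r c' α' → r (c * c') (α * α')) (h2 : ∀ c c' α, r c α → r c' α → Ψ (c * c'⁻¹) = Ψ 1)
    (h3 : ∀ c α, r c α → ∀ (x : X) (y y' : In Λ), (y' : X) = α y → c * j (x, y) = j (α x, y') * c)
    (h4 : ∀ y : In Λ, r (j (y, y)) (MulAut.conj (y : X))) (h5 : ∀ α ∈ S, ∃ c, r c α) : ExtF Λ S θ ψ := by
  obtain ⟨A', _, p, Ξ, hΞ, hp, hk⟩ := E.exists_faith (isIrr_isCharacter hΨ)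
  have key : ∀ c c' α, r c α → r c' α → p.rangeRestrict c = p.rangeRestrict c' := fun c c' α h h' =>
    Subtype.ext (mul_inv_eq_one.1 (by rw [← hk _ (h2 c c' α h h'), map_mul, map_inv]; rfl))
  choose s hs using h5
  exact ⟨p.range, inferInstance, Finite.of_surjective _ p.rangeRestrict_surjective, p.rangeRestrict.comp j,
    MonoidHom.mk' (fun α => p.rangeRestrict (s α.1 α.2)) fun α β => by
      rw [← map_mul]
      exact key _ _ _ (hs _ _) (h1 _ _ _ _ (hs _ _) (hs _ _)),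
    Ξ ∘ p.range.subtype, E.isIrr_of_comp p.rangeRestrict (isCharacter_comp _ hΞ) (funext hp ▸ hΨ :),
    fun x y => (hp _).trans (hj x y), fun α x y y' e => (map_mul p.rangeRestrict _ _).symm.trans
      ((congrArg _ (h3 _ _ (hs _ α.2) x y y' e)).trans (map_mul _ _ _)), fun y hy => key _ _ _ (hs _ _) (h4 y)⟩

theorem ExtF.conj {T : Subgroup (MulAut X)} (h : ExtF Λ T θ ψ) (δ : Λ) (hS : ∀ α ∈ S, δ.1 * α * δ.1⁻¹ ∈ T) :
    ExtF Λ S (fun x => θ (δ.1 x)) fun y => ψ (rs Λ δ y) := by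
  obtain ⟨A, _, _, j, t, Ψ, hΨ, hj, rel, inn⟩ := h
  let c : S →* T := MonoidHom.mk' (fun α => ⟨_, hS α.1 α.2⟩) fun α β => Subtype.ext (by simp only [mul_assoc, _root_.Subgroup.coe_mul, _root_.MulMemClass.mk_mul_mk, _root_.inv_mul_cancel_left])
  refine ⟨A, inferInstance, inferInstance, j.comp (δ.1.toMonoidHom.prodMap (rs Λ δ).toMonoidHom), t.comp c, Ψ, hΨ,
    fun x y => hj _ _, fun α x y y' hy => ?_, fun y hy => ?_⟩
  · have h1 := rel (c α) (δ.1 x) (rs Λ δ y) (rs Λ δ y') (by rw [rs_coe, rs_coe, hy]; simp only [c, _root_.MonoidHom.mk'_apply, _root_.MulAut.mul_apply, _root_.MulAut.inv_apply, _root_.MulEquiv.symm_apply_apply])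
    rw [show (c α).1 (δ.1 x) = δ.1 (α.1 x) by simp only [c, _root_.MonoidHom.mk'_apply, _root_.MulAut.mul_apply, _root_.MulAut.inv_apply, _root_.MulEquiv.symm_apply_apply]] at h1
    exact h1
  · have h1 : MulAut.conj ((rs Λ δ y : In Λ) : X) = δ.1 * MulAut.conj (y : X) * δ.1⁻¹ := conj_map _ _
    have h2 : c ⟨_, hy⟩ = ⟨_, h1 ▸ hS _ hy⟩ := Subtype.ext h1.symm
    exact (congrArg t h2).trans (inn (rs Λ δ y) _)

end ext

end Cfsg.Agent.MK.Two

private theorem dce_b846a9319489 : _root_.True := by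
  try have : _root_.True := by simp only [_root_.Cfsg.Agent.MK.Two.ip.congr_simp]
  exact _root_.True.intro
end

-- part: MK/Two/Sp2
section
set_option linter.all false
open scoped Cfsg.Agent.FastGrp

/-!
# MK, characteristic two: the context of `SpBox` (helper58)

* `Cx ι B Φ R Λ κ j f` : what is used of a frame; `exists_cx`.
-/

set_option autoImplicit false
set_option maxHeartbeats 400000

namespace Cfsg.Agent.MK.Two

open Cfsg Subgroup Cfsg.Agent.Characters Cfsg.Agent.Characters.Core Cfsg.Agent.ODD.Red Cfsg.Agent.H40.OC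
open scoped ComplexConjugate

/-- the context -/
structure Cx {X K V : Type} [Group X] [Group K] [Group V] [Finite X] [Finite K] [Finite V] (ι : X →* K) (B : Subgroup K)
    (Φ : Subgroup (MulAut K)) (R : (K → ℂ) → (B → ℂ) → Prop) (Λ : Subgroup (MulAut X)) (κ : In Λ →* B)
    (j : V →* In Λ) (f : V → ℂ) : Prop where
  aX : Ab ι
  aM : Ab κ
  spl : ∀ k, ∃ x, ∃ b ∈ B, k = ι x * b
  isL : IsL ι B Φ Λ
  hκ : ∀ y, (κ y : K) = ι y
  mem : ∀ x, ι x ∈ B → x ∈ In Λ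
  jinj : Function.Injective j
  zX : ∀ z ∈ center X, ι z ∈ center K
  cX : ∀ b ∈ B, (∀ x, b * ι x = ι x * b) → b ∈ center K
  φX : ∀ φ ∈ Φ, ∀ x, φ (ι x) ∈ ι.range
  φB : ∀ φ ∈ Φ, ∀ b ∈ B, φ b ∈ B
  φV : ∃ σ : Φ →* MulAut V, ∀ φ v, ι (j (σ φ v)) = φ.1 (ι (j v)) ∧ f (σ φ v) = f v
  fa : ∀ φ ∈ Φ, ∀ b ∈ B, (∀ x, φ (ι x) = b * ι x * b⁻¹) → φ = 1
  lin : ∃ (n : Type) (_ : Fintype n) (c : n → ℤ) (l : n → (V →* ℂˣ)), ∀ v, f v = ∑ i, c i * (l i v : ℂ)
  nK : ∀ χ, OI K χ → Complex.normSq (ip ((χ ∘ ι) ∘ (In Λ).subtype.comp j) f) = 1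
  nB : ∀ ψ, OI B ψ → Complex.normSq (ip ((ψ ∘ κ) ∘ j) f) = 1
  ex : ∀ ψ, OI B ψ → ∃ χ, OI K χ ∧ R χ ψ
  un : ∀ χ ψ ψ', OI K χ → OI B ψ → OI B ψ' → R χ ψ → R χ ψ' → ψ = ψ'
  un' : ∀ χ χ' ψ, OI K χ → OI K χ' → OI B ψ → R χ ψ → R χ' ψ → χ = χ'
  aut : ∀ φ ∈ Φ, ∀ χ ψ ψ', OI K χ → OI B ψ → R χ ψ → (∀ b b' : B, (b' : K) = φ b → ψ' b = ψ b') →
    R (fun g => χ (φ g)) ψ'
  tw : ∀ β : K →* ℂˣ, (∀ x, β (ι x) = 1) → ∀ χ ψ, OI K χ → OI B ψ → R χ ψ →
    R (fun g => β g * χ g) fun b => β b * ψ b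
  cz : ∀ χ ψ, OI K χ → OI B ψ → R χ ψ → ∀ z : B, (z : K) ∈ center K → χ z * ψ 1 = ψ z * χ 1
  oB : ∀ ψ η, IsIrrCharacter B ψ → IsIrrCharacter (In Λ) η → ip (ψ ∘ κ) η ≠ 0 → ip (η ∘ j) f ≠ 0 → OI B ψ
  uM : ∀ ψ η η', OI B ψ → IsIrrCharacter (In Λ) η → IsIrrCharacter (In Λ) η' → ip (ψ ∘ κ) η ≠ 0 → ip (ψ ∘ κ) η' ≠ 0 →
    ip (η ∘ j) f ≠ 0 → ip (η' ∘ j) f ≠ 0 → η = η' ∧ Complex.normSq (ip (η ∘ j) f) = 1
  ti : ∑ᶠ θ : IrrCharacter X, Complex.normSq (ip ((θ : X → ℂ) ∘ (In Λ).subtype.comp j) f) =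
    ∑ᶠ η : IrrCharacter (In Λ), Complex.normSq (ip ((η : In Λ → ℂ) ∘ j) f)

theorem ip_lin {V n : Type} [Group V] [Finite V] [Fintype n] {c : n → ℤ} {l : n → (V →* ℂˣ)} {f : V → ℂ}
    (h : ∀ v, f v = ∑ i, c i * (l i v : ℂ)) (χ : V → ℂ) : ip χ f = ∑ i, c i * ip χ fun v => l i v := by
  have := Fintype.ofFinite V
  rw [show f = ∑ i, (c i : ℂ) • fun v => (l i v : ℂ) from funext fun v => by simp [h], ip_eq, classInner_sum_right]
  simp [ip_eq, classInner_smul_right]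

variable {X K I : Type} [Group X] [Group K] [Fintype I] {ι : X →* K} {U T B : Subgroup K} {D : I → Subgroup K}
  {Φ : Subgroup (MulAut K)} {R : (K → ℂ) → (B → ℂ) → Prop} {Λ : Subgroup (MulAut X)} {lam : I → (U →* ℂˣ)}

theorem fl_eq (lam : I → (U →* ℂˣ)) (u : U) :
    fl lam u = ∑ J : Finset I, (((-1) ^ J.card : ℤ) : ℂ) * (psi lam J u : ℂ) := by
  simp [fl, prod_one_sub', psi_apply]

theorem fl_ne (hl : Lam U D lam) {u : U} (h : fl lam u ≠ 0) (i : I) : (u : K) ∉ D i := fun hi =>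
  h (Finset.prod_eq_zero (Finset.mem_univ i) (by simp [hl.one i u hi]))

omit [Fintype I] in
theorem Fr.ab [Finite K] (F : Fr ι U T B D Φ R) : Ab ι := by
  have := F.nrm
  have h1 : ∀ k : K, ∃ t : T, (k : K ⧸ ι.range) = (t : K) := fun k => by
    obtain ⟨x, t, ht, rfl⟩ := F.spl k
    exact ⟨⟨t, ht⟩, by rw [QuotientGroup.mk_mul, (QuotientGroup.eq_one_iff (N := ι.range) _).2 ⟨x, rfl⟩, one_mul]⟩
  refine ⟨F.inj, F.nrm, fun a b => QuotientGroup.eq.1 ?_, F.bo.odd.of_dvd_nat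
    (card_dvd_of_surjective ((QuotientGroup.mk' ι.range).comp T.subtype) fun q => ?_)⟩
  · obtain ⟨s, hs⟩ := h1 a
    obtain ⟨t, ht⟩ := h1 b
    rw [QuotientGroup.mk_mul, QuotientGroup.mk_mul, hs, ht, ← QuotientGroup.mk_mul, F.bo.comm _ s.2 _ t.2,
      QuotientGroup.mk_mul]
  · obtain ⟨k, rfl⟩ := QuotientGroup.mk_surjective q
    exact (h1 k).imp fun t ht => ht.symm

variable [Finite K]

theorem Fr.mem_In (F : Fr ι U T B D Φ R) (hΛ : IsL ι B Φ Λ) (x : X) : x ∈ In Λ ↔ ι x ∈ B := by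
  refine ⟨fun h => ?_, fun h => (hΛ _).2 ⟨ι x, h, 1, one_mem _, fun y => by simp⟩⟩
  obtain ⟨b, hb, φ, hφ, h1⟩ := (hΛ _).1 h
  have := Fintype.ofFinite U
  obtain ⟨u, hu⟩ := Finset.card_ne_zero.1 F.bo.sys.reg_nonempty
  obtain ⟨y, hy⟩ := F.uX u.2
  have h2 := F.ti u u.2 (Sys.mem_Reg.1 hu) ((ι x)⁻¹ * b) (by
    have h3 := h1 y
    rw [MulAut.conj_apply, map_mul, map_mul, map_inv, hy] at h3
    rw [show ((ι x)⁻¹ * b)⁻¹ * u * ((ι x)⁻¹ * b) = b⁻¹ * (ι x * u * (ι x)⁻¹) * b by group, h3]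
    simpa [mul_assoc] using F.φU φ hφ u u.2)
  rwa [mul_mem_cancel_right hb, inv_mem_iff] at h2

theorem exists_cx [Finite X] (hB : BorBox) (hT : TiBox) (F : Fr ι U T B D Φ R) (hΛ : IsL ι B Φ Λ) (hl : Lam U D lam)
    (hf : ∀ φ ∈ Φ, ∀ u u' : U, (u' : K) = φ u → fl lam u' = fl lam u) : ∃ κ j, Cx ι B Φ R Λ κ j (fl lam) := by
  classical
  have hm := F.mem_In hΛ
  have ha := F.ab
  let κ : In Λ →* B := (ι.comp (In Λ).subtype).codRestrict B fun y => (hm _).1 y.2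
  have hκ : κ.range = ι.range.subgroupOf B := by
    ext b
    exact ⟨fun ⟨y, e⟩ => ⟨y, congrArg Subtype.val e⟩, fun ⟨x, e⟩ => ⟨⟨x, (hm x).2 (e ▸ b.2)⟩, Subtype.ext e⟩⟩
  choose j0 hj0 using fun u : U => F.uX u.2
  let j : U →* In Λ := MonoidHom.mk' (fun u => ⟨j0 u, (hm _).2 (hj0 u ▸ F.bo.uB u.2)⟩) fun a b =>
    Subtype.ext (F.inj (by simp [hj0]))
  have hj : ∀ u, ι (j u) = u := hj0
  have e1 : ∀ χ : K → ℂ, (χ ∘ ι) ∘ (In Λ).subtype.comp j = fun u : U => χ u := fun χ =>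
    funext fun u => congrArg χ (hj u)
  have e2 : ∀ ψ : B → ℂ, (ψ ∘ κ) ∘ j = ψ ∘ inclusion F.bo.uB := fun ψ =>
    funext fun u => congrArg ψ (Subtype.ext (hj u))
  obtain ⟨b1, b2, -⟩ := (hB F.bo).2.2 lam hl
  have hc : ∀ J, IsCharacter U fun u => (psi lam J u : ℂ) := fun J => Linear.isCharacter_hom _
  have nK : ∀ χ, OI K χ → Complex.normSq (ip (fun u : U => χ u) (fl lam)) = 1 := fun χ h => by
    have := Fintype.ofFinite U
    have := Fintype.ofFinite T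
    rw [← F.mr χ h, mr_eq F.bo.sys hl fun t _ u _ => by simpa using isIrr_isClassFunction h.1 u t⁻¹, ip_lin (fl_eq lam)]
    simp [ip_eq]
  have one : ∀ (χ : U → ℂ) (J : Finset I), (∀ J', J' ≠ J → ip χ (fun u => psi lam J' u) = 0) →
      ip χ (fl lam) = (-1) ^ J.card * ip χ fun u => psi lam J u := fun χ J h => by
    rw [ip_lin (fl_eq lam), Finset.sum_eq_single J (fun J' _ e => by rw [h J' e, mul_zero]) (by simp)]
    simp
  have b3 : ∀ ψ, OI B ψ → ∃ J, ip (ψ ∘ inclusion F.bo.uB) (fun u => psi lam J u) = 1 ∧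
      ∀ J', J' ≠ J → ip (ψ ∘ inclusion F.bo.uB) (fun u => psi lam J' u) = 0 := fun ψ h =>
    ⟨(Js U B D ψ).toFinite.toFinset, (b1 ψ h _).1 (by simp), fun J' e => (b1 ψ h _).2 fun e' => e (Finset.coe_injective (by simpa using e'))⟩
  have nB : ∀ ψ, OI B ψ → Complex.normSq (ip (ψ ∘ inclusion F.bo.uB) (fl lam)) = 1 := fun ψ h => by
    obtain ⟨J, h1, h2⟩ := b3 ψ h
    simp [one _ J h2, h1]
  have b4 : ∀ χ : U → ℂ, ip χ (fl lam) ≠ 0 → ∃ J, ip χ (fun u => psi lam J u) ≠ 0 := fun χ h => by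
    rw [ip_lin (fl_eq lam)] at h
    exact (Finset.exists_ne_zero_of_sum_ne_zero h).imp fun J h1 => right_ne_zero_of_mul h1.2
  have := finite_irr (G := K)
  have := finite_irr (G := B)
  obtain ⟨-, c2⟩ := count (fun χ : IrrCharacter K => Complex.normSq (ip (fun u : U => χ.1 u) (fl lam)))
    (fun ψ : IrrCharacter B => Complex.normSq (ip (ψ.1 ∘ inclusion F.bo.uB) (fl lam)))
    (fun χ ψ => OI K χ.1 ∧ OI B ψ.1 ∧ R χ.1 ψ.1) (fun _ => Complex.normSq_nonneg _) (fun ψ h => by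
      obtain ⟨J, h1⟩ := b4 _ fun e => h (by rw [e, map_zero])
      obtain ⟨χ, h2, h3⟩ := F.ex _ (b2 _ ψ.2 _ h1)
      exact ⟨nB _ (b2 _ ψ.2 _ h1), ⟨χ, h2.1⟩, h2, b2 _ ψ.2 _ h1, h3⟩)
    (fun χ ψ ψ' h h' => Subtype.ext (F.un _ _ _ h.1 h.2.1 h'.2.1 h.2.2 h'.2.2))
    (fun χ ψ h => ⟨(nK _ h.1).ge, by rw [nB _ h.2.1]; exact one_ne_zero⟩)
    (hT B (inclusion F.bo.uB) (fl lam) fun v hv g v' e => F.ti v v.2 (fl_ne hl hv) g (e.symm ▸ v'.2 :))
  obtain ⟨σ, hσ⟩ := exists_act Φ.subtype U.subtype_injective fun φ u => ⟨⟨_, F.φU φ.1 φ.2 u u.2⟩, rfl⟩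
  refine ⟨κ, j, ha, ⟨fun a b e => Subtype.ext (F.inj (congrArg Subtype.val e)), hκ ▸ F.nrm.subgroupOf B,
    fun a b => hκ ▸ ha.ab a b, hκ ▸ ha.odd.of_dvd_nat (haveI := F.nrm; relIndex_dvd_index_of_normal _ B)⟩,
    fun k => (F.spl k).imp fun x ⟨t, ht, e⟩ => ⟨t, F.bo.tB ht, e⟩, hΛ, fun _ => rfl, fun x => (hm x).2,
    fun a b e => Subtype.ext (by rw [← hj, ← hj, e]), F.zX, F.cX, F.φX, fun φ hφ b hb => ?_,
    ⟨σ, fun φ v => ⟨by rw [hj, hj]; exact hσ φ v, hf φ.1 φ.2 _ _ (hσ φ v)⟩⟩, F.fa, ⟨_, _, _, _, fl_eq lam⟩,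
    fun χ h => e1 χ ▸ nK χ h, fun ψ h => e2 ψ ▸ nB ψ h, F.ex, F.un,
    fun χ χ' ψ h1 h2 h3 h4 h5 => congrArg Subtype.val (c2 ⟨χ, h1.1⟩ ⟨χ', h2.1⟩ ⟨ψ, h3.1⟩ ⟨h1, h3, h4⟩ ⟨h2, h3, h5⟩),
    F.aut, F.tw, F.cz, fun ψ η h1 h2 h3 h4 => ?_, fun ψ η η' h1 h2 h3 h4 h5 h6 h7 => ?_,
    hT (In Λ) j (fl lam) fun v hv g v' e => (hm g).2 (F.ti v v.2 (fl_ne hl hv) _ ?_)⟩
  · obtain ⟨u, hu, t, ht, rfl⟩ := (F.bo.mem b).1 hb
    exact map_mul φ u t ▸ mul_mem (F.bo.uB (F.φU φ hφ u hu)) (F.bo.tB (F.φT φ hφ t ht))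
  · obtain ⟨J, h5⟩ := b4 _ h4
    exact b2 ψ h1 _ fun e => h5 (ip_zero_of j (isCharacter_comp κ (isIrr_isCharacter h1)) h2 (hc J) h3 (e2 ψ ▸ e))
  · obtain ⟨J, h8, h9⟩ := b3 ψ h1
    have h10 := isCharacter_comp κ (isIrr_isCharacter h1.1)
    rw [← e2] at h8 h9
    rw [one _ J fun J' e => ip_zero_of j h10 h3 (hc J') h5 (h9 J' e)] at h7
    rw [one _ J fun J' e => ip_zero_of j h10 h2 (hc J') h4 (h9 J' e)] at h6 ⊢
    obtain ⟨h11, h12⟩ := ip_one_unique j h10 h2 h3 (hc J) h8 h4 h5 (right_ne_zero_of_mul h6) (right_ne_zero_of_mul h7)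
    exact ⟨h11, by simp [h12]⟩
  · rw [← hj v, ← map_inv, ← map_mul, ← map_mul, e, hj]
    exact v'.2

end Cfsg.Agent.MK.Two

private theorem dce_973377259cc5 : _root_.True := by
  try have : _root_.True := by simp only [_root_.Cfsg.Agent.MK.Two.fl.eq_1]
  exact _root_.True.intro
end

-- part: MK/Two/Sp3
section
prune_inst 0x4010000
set_option linter.all false
open scoped Cfsg.Agent.FastGrp

/-!
# MK, characteristic two: standard pairs (helper58)

* `Cx.Wt χ ψ θ η`, `Cx.Pr θ η` : the standard characters `θ` of `X` and `η` of `In Λ` lie under related characters;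
* `pr_ex`, `pr_ex'`, `pr_un`, `pr_un'` : `Pr` is a bijection; `Wt.aut`, `Wt.stab`, `key`.
-/

set_option autoImplicit false
set_option maxHeartbeats 400000

namespace Cfsg.Agent.MK.Two

open Cfsg Subgroup Cfsg.Agent.Characters Cfsg.Agent.Characters.Core Cfsg.Agent.ODD.Red
open scoped ComplexConjugate

theorem oi_tw {H : Type} [Group H] (β : H →* ℂˣ) {χ : H → ℂ} (h : OI H χ) : OI H fun g => β g * χ g :=
  ⟨isIrr_lin_mul β h.1, by rw [charDegree_congr (ψ := χ) (by simp)]; exact h.2⟩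

theorem oi_aut {H : Type} [Group H] [Finite H] (α : MulAut H) {χ : H → ℂ} (h : OI H χ) : OI H fun g => χ (α g) :=
  h.comp α.toMonoidHom α.surjective

theorem comp_inj {H : Type} [Group H] (α : MulAut H) {χ ψ : H → ℂ} :
    ((fun g => χ (α g)) = fun g => ψ (α g)) ↔ χ = ψ :=
  ⟨fun h => funext fun g => by simpa using congrFun h (α⁻¹ g), fun h => h ▸ rfl⟩

namespace Cx

variable {X K V : Type} [Group X] [Group K] [Group V] [Finite X] [Finite K] [Finite V] {ι : X →* K} {B : Subgroup K}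
  {Φ : Subgroup (MulAut K)} {R : (K → ℂ) → (B → ℂ) → Prop} {Λ : Subgroup (MulAut X)} {κ : In Λ →* B}
  {j : V →* In Λ} {f : V → ℂ} (C : Cx ι B Φ R Λ κ j f) {χ χ' : K → ℂ} {ψ ψ' : B → ℂ} {θ θ' : X → ℂ}
  {η η' : In Λ → ℂ}

/-- a standard pair with the characters above -/
structure Wt (C : Cx ι B Φ R Λ κ j f) (χ : K → ℂ) (ψ : B → ℂ) (θ : X → ℂ) (η : In Λ → ℂ) : Prop where
  oχ : OI K χ
  oψ : OI B ψ
  r : R χ ψ
  iθ : IsIrrCharacter X θ
  iη : IsIrrCharacter (In Λ) η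
  aθ : ip (θ ∘ (In Λ).subtype.comp j) f ≠ 0
  aη : ip (η ∘ j) f ≠ 0
  uθ : ip (χ ∘ ι) θ ≠ 0
  uη : ip (ψ ∘ κ) η ≠ 0

/-- a standard pair -/
def Pr (θ : X → ℂ) (η : In Λ → ℂ) : Prop := ∃ χ ψ, C.Wt χ ψ θ η

include C

theorem zl : ZL f := fun χ hχ => by
  obtain ⟨n, _, c, l, h⟩ := C.lin
  choose m hm using fun i => ip_nat hχ (Linear.isCharacter_hom (l i))
  exact ⟨∑ i, c i * m i, by simp only [ip_lin h, hm, _root_.Int.cast_sum, _root_.Int.cast_mul, _root_.Int.cast_natCast]⟩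

theorem exists_b (b : B) : ∃ δ : Λ, (∀ x, ι (δ.1 x) = b * ι x * (b : K)⁻¹) ∧ ∀ y, κ (rs Λ δ y) = b * κ y * b⁻¹ := by
  obtain ⟨a, ha⟩ := C.aX.act
  exact ⟨⟨a b, (C.isL _).2 ⟨b, b.2, 1, one_mem _, ha b⟩⟩, ha b, fun y => Subtype.ext (by simp only [C.hκ, rs_coe, ha, _root_.Subgroup.coe_mul, _root_.InvMemClass.coe_inv])⟩

theorem exists_ρ : ∃ ρ : Φ →* Λ, ∀ φ x, ι ((ρ φ).1 x) = φ.1 (ι x) := by
  obtain ⟨a, ha⟩ := exists_act Φ.subtype C.aX.inj fun φ => C.φX φ.1 φ.2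
  exact ⟨a.codRestrict Λ fun φ => (C.isL _).2 ⟨1, one_mem _, φ, φ.2, by simpa only [_root_.one_mul, _root_.inv_one, _root_.mul_one, _root_.Subgroup.subtype_apply] using ha φ⟩, ha⟩

theorem exists_τ : ∃ τ : Φ →* MulAut B, ∀ φ b, (τ φ b : K) = φ.1 b :=
  exists_act Φ.subtype B.subtype_injective fun φ b => ⟨⟨_, C.φB φ.1 φ.2 b b.2⟩, rfl⟩

theorem split {ρ : Φ →* Λ} (hρ : ∀ φ x, ι ((ρ φ).1 x) = φ.1 (ι x)) (γ : Λ) : ∃ (b : B) (φ : Φ) (δ : Λ),
    γ = δ * ρ φ ∧ (∀ x, ι (δ.1 x) = b * ι x * (b : K)⁻¹) ∧ ∀ y, κ (rs Λ δ y) = b * κ y * b⁻¹ := by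
  obtain ⟨b, hb, φ, hφ, h⟩ := (C.isL _).1 γ.2
  obtain ⟨δ, h1, h2⟩ := C.exists_b ⟨b, hb⟩
  exact ⟨⟨b, hb⟩, ⟨φ, hφ⟩, δ, Subtype.ext (MulEquiv.ext fun x => C.aX.inj ((h x).trans ((h1 _).trans
    (congrArg (b * · * b⁻¹) (hρ ⟨φ, hφ⟩ x))).symm)),
    h1, h2⟩

theorem exists_std (hχ : OI K χ) :
    ∃ θ, IsIrrCharacter X θ ∧ ip (χ ∘ ι) θ ≠ 0 ∧ ip (θ ∘ (In Λ).subtype.comp j) f ≠ 0 :=
  exists_und _ (isCharacter_comp ι (isIrr_isCharacter hχ.1)) fun e => zero_ne_one (map_zero Complex.normSq ▸ e ▸ C.nK χ hχ :)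

theorem pr_ex (h1 : IsIrrCharacter (In Λ) η) (h2 : ip (η ∘ j) f ≠ 0) : ∃ θ, C.Pr θ η := by
  obtain ⟨ψ, h3, h4⟩ := exists_ov C.aM.inj h1
  have h5 := C.oB ψ η h3 h1 h4 h2
  obtain ⟨χ, h6, h7⟩ := C.ex ψ h5
  obtain ⟨θ, h8, h9, h10⟩ := C.exists_std h6
  exact ⟨θ, χ, ψ, h6, h5, h7, h8, h1, h10, h2, h9, h4⟩

variable {C}

theorem Wt.link (w : C.Wt χ ψ θ η) (h1 : OI K χ') (h2 : OI B ψ') (h3 : R χ' ψ') {β : K →* ℂˣ} (hβ : ∀ x, β (ι x) = 1)
    (e : χ' = fun g => β g * χ g) : ψ' = fun b : B => β b * ψ b :=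
  C.un χ' _ _ h1 h2 (oi_tw (β.comp B.subtype) w.oψ) h3 (e ▸ C.tw β hβ χ ψ w.oχ w.oψ w.r)

theorem pr_un (h : C.Pr θ η) (h' : C.Pr θ η') : η = η' := by
  obtain ⟨χ, ψ, w⟩ := h
  obtain ⟨χ', ψ', w'⟩ := h'
  obtain ⟨β, h1, h2⟩ := C.aX.tw w.oχ.1 w'.oχ.1 w.iθ w.uθ w'.uθ
  have h3 : ψ ∘ κ = ψ' ∘ κ := funext fun y => by simp [w.link w'.oχ w'.oψ w'.r h1 h2, C.hκ, h1]
  exact (C.uM ψ η η' w.oψ w.iη w'.iη w.uη (h3 ▸ w'.uη) w.aη w'.aη).1

theorem pr_cnt : (∀ θ, IsIrrCharacter X θ → ip (θ ∘ (In Λ).subtype.comp j) f ≠ 0 →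
    Complex.normSq (ip (θ ∘ (In Λ).subtype.comp j) f) = 1 ∧ ∃ η, C.Pr θ η) ∧ ∀ θ θ' η, C.Pr θ η → C.Pr θ' η → θ = θ' := by
  have := finite_irr (G := X)
  have := finite_irr (G := In Λ)
  obtain ⟨c1, c2⟩ := count _ _ (fun (θ : IrrCharacter X) (η : IrrCharacter (In Λ)) => C.Pr θ η)
    (fun _ => Complex.normSq_nonneg _) (fun η h => by
      obtain ⟨θ, χ, ψ, w⟩ := C.pr_ex η.2 fun e => h (by rw [e, map_zero])
      exact ⟨(C.uM ψ η η w.oψ w.iη w.iη w.uη w.uη w.aη w.aη).2, ⟨θ, w.iθ⟩, χ, ψ, w⟩)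
    (fun _ _ _ h h' => Subtype.ext (pr_un h h'))
    (fun _ _ ⟨_, _, w⟩ => ⟨C.zl.one_le (isCharacter_comp _ (isIrr_isCharacter w.iθ)) w.aθ,
      fun e => w.aη (Complex.normSq_eq_zero.1 e)⟩) C.ti
  exact ⟨fun θ h1 h2 => let ⟨h3, η, h⟩ := c1 ⟨θ, h1⟩ fun e => h2 (Complex.normSq_eq_zero.1 e); ⟨h3, η, h⟩,
    fun θ θ' η ⟨χ, ψ, w⟩ ⟨χ', ψ', w'⟩ =>
      congrArg Subtype.val (c2 ⟨θ, w.iθ⟩ ⟨θ', w'.iθ⟩ ⟨η, w.iη⟩ ⟨χ, ψ, w⟩ ⟨χ', ψ', w'⟩)⟩

theorem pr_un' (h : C.Pr θ η) (h' : C.Pr θ' η) : θ = θ' := pr_cnt.2 _ _ _ h h'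

theorem Wt.aut (w : C.Wt χ ψ θ η) {φ : Φ} {α : Λ} (hα : ∀ x, ι (α.1 x) = φ.1 (ι x)) {τ : MulAut B}
    (hτ : ∀ b, (τ b : K) = φ.1 b) :
    C.Wt (fun g => χ (φ.1 g)) (fun b => ψ (τ b)) (fun x => θ (α.1 x)) fun y => η (rs Λ α y) := by
  obtain ⟨σ, hσ⟩ := C.φV
  have h1 : ∀ v, rs Λ α (j v) = j (σ φ v) := fun v => Subtype.ext (C.aX.inj ((hα _).trans (hσ φ v).1.symm))
  refine ⟨oi_aut _ w.oχ, oi_aut _ w.oψ, C.aut φ.1 φ.2 χ ψ _ w.oχ w.oψ w.r fun b b' e =>
    congrArg ψ (Subtype.ext ((hτ b).trans e.symm)), isIrr_comp' α.1.toMonoidHom α.1.surjective w.iθ,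
    isIrr_comp' (rs Λ α).toMonoidHom (rs Λ α).surjective w.iη, fun e => w.aθ ?_, fun e => w.aη ?_, fun e => w.uθ ?_,
    fun e => w.uη ?_⟩ <;> rw [← e]
  · exact (ip_congr (σ φ).toEquiv fun v =>
      congrArg₂ (fun a b => θ a * conj b) (congrArg Subtype.val (h1 v)) (hσ φ v).2.symm).symm
  · exact (ip_congr (σ φ).toEquiv fun v => congrArg₂ (fun a b => η a * conj b) (h1 v) (hσ φ v).2.symm).symm
  · exact (ip_congr α.1.toEquiv fun x => congrArg (fun a => χ a * _) (hα x).symm).symm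
  · exact (ip_congr (rs Λ α).toEquiv fun y => congrArg (fun a => ψ a * _)
      (Subtype.ext (by rw [hτ, C.hκ, C.hκ, ← hα]; rfl))).symm

theorem Pr.aut (h : C.Pr θ η) {φ : Φ} {α : Λ} (hα : ∀ x, ι (α.1 x) = φ.1 (ι x)) :
    C.Pr (fun x => θ (α.1 x)) fun y => η (rs Λ α y) :=
  let ⟨_, _, w⟩ := h
  let ⟨_, hτ⟩ := C.exists_τ
  ⟨_, _, w.aut hα (hτ φ)⟩

theorem Wt.mθ (w : C.Wt χ ψ θ η) : ip (χ ∘ ι) θ = 1 := C.aX.mult_one w.oχ.1 _ C.zl (C.nK χ w.oχ) w.iθ w.uθ

theorem Wt.mη (w : C.Wt χ ψ θ η) : ip (ψ ∘ κ) η = 1 := C.aM.mult_one w.oψ.1 _ C.zl (C.nB ψ w.oψ) w.iη w.uη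

theorem Wt.stab (hA : AbBox) (w : C.Wt χ ψ θ η) (b : B) : (b : K) ∈ C.aX.Stb θ ↔ b ∈ C.aM.Stb η := by
  have a1 := (hA ι C.aX.inj C.aX.nrm C.aX.ab χ θ w.oχ.1 w.iθ w.mθ (C.aX.Stb θ) fun _ => Iff.rfl).2
  have a2 := fun (β : K →* ℂˣ) (h : ∀ x, β (ι x) = 1) =>
    (hA κ C.aM.inj C.aM.nrm C.aM.ab ψ η w.oψ.1 w.iη w.mη (C.aM.Stb η) fun _ => Iff.rfl).2 (β.comp B.subtype)
      fun y => (congrArg β (C.hκ y)).trans (h _)
  refine ⟨fun h => by_contra fun h1 => ?_, fun h => by_contra fun h1 => ?_⟩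
  · have := C.aX.nrm
    obtain ⟨β, h2, h3⟩ := exists_sep ((C.aM.Stb η).map B.subtype ⊔ ι.range) (fun a b => mem_sup_right (C.aX.ab a b))
      (g := b) fun h2 => by
        obtain ⟨_, ⟨b', h3, rfl⟩, _, ⟨x, rfl⟩, h4⟩ := mem_sup_of_normal_right.1 h2
        have h5 : ι x ∈ B := (mul_mem_cancel_left b'.2).1 (h4.symm ▸ b.2 :)
        exact h1 ((Subtype.ext (by rw [← h4, coe_mul, C.hκ]; rfl) : b = b' * κ ⟨x, C.mem x h5⟩) ▸
          mul_mem h3 (C.aM.le_Stb w.iη _))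
    have h4 : ∀ x, β (ι x) = 1 := fun x => h2 _ (mem_sup_right ⟨x, rfl⟩)
    have h5 := C.tw β h4 χ ψ w.oχ w.oψ w.r
    rw [show (fun b : B => (β b : ℂ) * ψ b) = ψ from
      funext ((a2 β h4).2 fun g hg => h2 _ (mem_sup_left (mem_map_of_mem _ hg)))] at h5
    exact h3 ((a1 β h4).1 (congrFun (C.un' _ _ ψ (oi_tw β w.oχ) w.oχ w.oψ h5 w.r)) b h)
  · have h2 : ι.range ≤ C.aX.Stb θ := fun _ ⟨x, e⟩ => e ▸ C.aX.le_Stb w.iθ x
    obtain ⟨β, h3, h4⟩ := exists_sep (C.aX.Stb θ) (fun a b => h2 (C.aX.ab a b)) h1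
    have h5 : ∀ x, β (ι x) = 1 := fun x => h3 _ (h2 ⟨x, rfl⟩)
    exact h4 ((a2 β h5).1 (congrFun (w.link w.oχ w.oψ w.r h5 (funext ((a1 β h5).2 h3)).symm).symm) b h)

/-- a standard character which is conjugate to `θ` is equal to `θ` -/
theorem Wt.fix (w : C.Wt χ ψ θ η) {b : K} {δ : MulAut X} (h : ∀ x, ι (δ x) = b * ι x * b⁻¹)
    (h1 : C.Pr (fun x => θ (δ x)) η') : (fun x => θ (δ x)) = θ :=
  let ⟨_, _, w'⟩ := h1
  pr_un' ⟨χ, ψ, { w with iθ := w'.iθ, aθ := w'.aθ, uθ := Ab.ip_cj w.oχ.1 h θ ▸ w.uθ }⟩ ⟨χ, ψ, w⟩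

theorem key (hA : AbBox) (h : C.Pr θ η) (γ : Λ) (h' : C.Pr (fun x => θ' (γ.1 x)) fun y => η' (rs Λ γ y)) :
    θ = θ' ↔ η = η' := by
  obtain ⟨ρ, hρ⟩ := C.exists_ρ
  obtain ⟨b, φ, δ, rfl, h1, h2⟩ := C.split hρ γ
  have h3 : C.Pr (fun x => θ' (δ.1 x)) fun y => η' (rs Λ δ y) := by simpa only [_root_.Subgroup.coe_mul, _root_.map_inv, _root_.InvMemClass.coe_inv, _root_.MulAut.inv_apply, _root_.MulAut.mul_apply, _root_.MulEquiv.apply_symm_apply, _root_.map_mul] using h'.aut (hρ φ⁻¹)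
  obtain ⟨χ, ψ, w⟩ := h
  have h4 := w.stab hA b
  rw [C.aX.mem_Stb h1, C.aM.mem_Stb h2] at h4
  refine ⟨fun e => ?_, fun e => ?_⟩ <;> subst e
  · have h5 := w.fix h1 h3
    exact (comp_inj (rs Λ δ)).1 ((funext (h4.1 (congrFun h5))).trans (pr_un ⟨χ, ψ, w⟩ (h5 ▸ h3)))
  · obtain ⟨χ', ψ', w'⟩ := h3
    have h5 := (C.uM ψ _ η w.oψ w'.iη w.iη (Ab.ip_cj w.oψ.1 h2 η ▸ w.uη) w.uη w'.aη w.aη).1
    exact (comp_inj δ.1).1 ((funext (h4.2 (congrFun h5))).trans (pr_un' ⟨χ, ψ, w⟩ ⟨χ', ψ', h5 ▸ w'⟩))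

end Cx

end Cfsg.Agent.MK.Two

private theorem dce_8b8bcf956728 : _root_.True := by
  try have : _root_.True := by simp only [_root_.Cfsg.Agent.MK.Two.Cx.Pr.congr_simp]
  exact _root_.True.intro
end

-- part: MK/Two/Rows
section
set_option linter.all false

/-!
# MK, characteristic two: the families give the row (helper89)

`Rows` : one field for each family; `row_of_rows : Rows → Row fun S _ => IsLieTypeChar 2 S`.
-/

set_option autoImplicit false
set_option maxHeartbeats 400000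

namespace Cfsg.Agent.MK.Two

open Cfsg Subgroup Matrix Cfsg.Agent.ODD Cfsg.Agent.ODD.Cv

/-- all groups isomorphic to the simple group `S` are good -/
def GdI (S : Type) [Group S] : Prop :=
  ∀ (X : Type) [Group X] [Finite X], IsSimpleGroup X → (X ≃* S) → GdA X

/-- all quasisimple groups with central quotient `S` and a centre of odd order are good -/
def GdT (S : Type) [Group S] : Prop :=
  ∀ (X : Type) [Group X] [Finite X], IsQuasisimple X → Odd (Nat.card (center X)) → (X ⧸ center X ≃* S) → GdA X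

/-- all central quotients of `S` are good -/
def GdQ (S : Type) [Group S] : Prop :=
  ∀ (X : Type) [Group X] [Finite X] (φ : S →* X), IsQuasisimple X → Function.Surjective φ → φ.ker ≤ center S → GdA X

/-- the families -/
structure Rows : Prop where
  sl : ∀ (F : Type) [Field F] [Fintype F] [CharP F 2] (n : ℕ), 2 ≤ n → (n = 2 → 4 ≤ Fintype.card F) →
    GdQ (SpecialLinearGroup (Fin n) F)
  su : ∀ (F : Type) [Field F] [Fintype F] [CharP F 2] (n q : ℕ), Fintype.card F = q ^ 2 → 3 ≤ n → ¬ (n = 3 ∧ q = 2) →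
    GdQ (SU n F q)
  sp : ∀ (F : Type) [Field F] [Fintype F] [CharP F 2] (m : ℕ), 2 ≤ m → 4 ≤ Fintype.card F → GdI (PSp m F)
  sp2 : ∀ (F : Type) [Field F] [Fintype F] [CharP F 2] (m : ℕ), 3 ≤ m → Fintype.card F = 2 → GdI (PSp m F)
  d4 : ∀ (F : Type) [Field F] [Fintype F] [CharP F 2], GdI (POmega F (quadFormPlus 4 F))
  plus : ∀ (F : Type) [Field F] [Fintype F] [CharP F 2] (m : ℕ), 4 < m → GdI (POmega F (quadFormPlus m F))
  minus : ∀ (F : Type) [Field F] [Fintype F] [CharP F 2] (m : ℕ) (a b : F), 4 ≤ m →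
    (∀ z₁ z₂ : F, z₁ ^ 2 + a * z₁ * z₂ + b * z₂ ^ 2 = 0 → z₁ = 0 ∧ z₂ = 0) → GdI (POmega F (quadFormMinus (m - 1) F a b))
  g2 : ∀ (F : Type) [Field F] [Fintype F] [CharP F 2], 3 ≤ Fintype.card F → GdI (Lie.chevG2.group F)
  f4 : ∀ (F : Type) [Field F] [Fintype F] [CharP F 2], Fintype.card F ≠ 2 → GdI (Lie.chevF4.group F)
  f42 : ∀ (F : Type) [Field F] [Fintype F] [CharP F 2], Fintype.card F = 2 → GdI (Lie.chevF4.group F)
  e6 : ∀ (F : Type) [Field F] [Fintype F] [CharP F 2], GdT (Lie.chevE6.group F)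
  e7 : ∀ (F : Type) [Field F] [Fintype F] [CharP F 2], GdI (Lie.chevE7.group F)
  e8 : ∀ (F : Type) [Field F] [Fintype F] [CharP F 2], GdI (Lie.chevE8.group F)
  te6 : ∀ (F : Type) [Field F] [Fintype F] [CharP F 2] (q : ℕ), IsPrimePow q → Fintype.card F = q ^ 2 →
    GdT (Lie.twistedE6 F q)
  td4 : ∀ (F : Type) [Field F] [Fintype F] [CharP F 2] (q : ℕ), IsPrimePow q → Fintype.card F = q ^ 3 →
    GdI (Lie.twistedD4 F q)
  sz : ∀ (F : Type) [Field F] [Fintype F] (m : ℕ), 1 ≤ m → Fintype.card F = 2 ^ (2 * m + 1) →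
    GdI (Lie.Sz F (2 ^ (m + 1)))
  tf4 : ∀ (F : Type) [Field F] [Fintype F] (m : ℕ), 1 ≤ m → Fintype.card F = 2 ^ (2 * m + 1) →
    GdI (Lie.twistedF4 F (2 ^ m))

/-- **the row in characteristic two from the families** -/
theorem row_of_rows (h : Rows) : Row fun S _ => IsLieTypeChar 2 S := by
  intro X _ _ c
  have pl : center X = ⊥ → IsSimpleGroup X := simple_of c
  have go : ∀ {S : Type} [Group S], GdI S → center X = ⊥ → (X ⧸ center X ≃* S) → GdA X :=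
    fun r hZ f => r X (pl hZ) ((eqv hZ).trans f)
  rcases c.fam with ⟨F, _, _, _, n, h1, h2, ⟨f⟩⟩ | ⟨F, _, _, _, n, h1, h2, ⟨f⟩⟩ | ⟨F, _, _, _, n, q, h1, h2, h3, ⟨f⟩⟩ |
    ⟨F, _, _, _, n, h1, h2, ⟨f⟩⟩ | ⟨F, _, _, _, n, h1, ⟨f⟩⟩ | ⟨F, _, _, _, n, x, y, h1, h2, ⟨f⟩⟩ |
    ⟨F, _, _, _, h0⟩ | ⟨F, _, _, _, q, h0, h1⟩ | ⟨-, F, _, _, m, h1, h2, ⟨f⟩⟩ | ⟨-, F, _, _, m, h1, h2, ⟨f⟩⟩ |
    ⟨h0, -⟩
  · obtain ⟨k, hk⟩ := even_card F
    obtain ⟨φ, h3, h4, -⟩ := sl_cover c h1 h2 (by omega) f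
    exact h.sl F n h1 h2 X φ c.qs h3 h4
  · have hZ := center_eq_bot c ((mb_psp h1 h2).congr f)
    obtain ⟨k, hk⟩ := even_card F
    have h3 : 1 < Fintype.card F := Fintype.one_lt_card
    by_cases h4 : Fintype.card F = 2
    · exact go (h.sp2 F n (by omega) h4) hZ f
    · exact go (h.sp F n h1 (by omega)) hZ f
  · obtain ⟨k, hk⟩ := even_card F
    obtain ⟨φ, h4, h5, -⟩ := su_cover c h1 h2 h3 (by
      rintro ⟨-, rfl⟩
      omega) f
    exact h.su F n q h1 h2 h3 X φ c.qs h4 h5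
  · exact absurd (even_card F) (Nat.not_even_iff_odd.2 h2)
  · have hZ := center_eq_bot c ((mb_plus h1).congr f)
    rcases h1.eq_or_lt with rfl | h2
    · exact go (h.d4 F) hZ f
    · exact go (h.plus F n h2) hZ f
  · exact go (h.minus F n x y h1 h2) (center_eq_bot c ((mb_minus h1 h2).congr f)) f
  · rcases h0 with ⟨h0, ⟨f⟩⟩ | ⟨⟨f⟩⟩ | ⟨⟨f⟩⟩ | ⟨⟨f⟩⟩ | ⟨⟨f⟩⟩
    · obtain ⟨k, hk⟩ := even_card F
      exact go (h.g2 F h0) (center_eq_bot c ((mb_g2 (by omega)).congr f)) f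
    · by_cases h4 : Fintype.card F = 2
      · exact go (h.f42 F h4) (center_eq_bot c (mb_f4.congr f)) f
      · exact go (h.f4 F h4) (center_eq_bot c (mb_f4.congr f)) f
    · exact h.e6 F X c.qs c.odd f
    · exact go (h.e7 F) (center_eq_bot c (mb_e7.congr f)) f
    · exact go (h.e8 F) (center_eq_bot c (mb_e8.congr f)) f
  · rcases h1 with ⟨h1, ⟨f⟩⟩ | ⟨h1, ⟨f⟩⟩
    · exact h.te6 F q h0 h1 X c.qs c.odd f
    · exact go (h.td4 F q h0 h1) (center_eq_bot c ((mb_d4 h0 h1).congr f)) f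
  · exact go (h.sz F m h1 h2) (center_eq_bot c ((mb_sz h1 h2).congr f)) f
  · exact go (h.tf4 F m h1 h2) (center_eq_bot c ((mb_tf4 h1 h2).congr f)) f
  · exact absurd h0 (by norm_num)

end Cfsg.Agent.MK.Two
end

-- part: MK/P/Defs
section
prune_inst 0x10646553220000081c0012000042b19100009200084000c044000404c98860280028200030001800a68c04603d004813000030420000000a000c00011d0080888202063140a10c400017800000010000000000000000000000000000000000004010000
set_option linter.all false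
open scoped Cfsg.Agent.FastGrp

/-!
# MK-P: `PSp_{2n}(q)`, `q ≡ 3 mod 4`, field automorphisms only: the interface (helper36)

* `Wr A ι`, `WT T`, `dz z`, `mapW`, `emb` : wreath products; `kw z T` : the count for `A ≀ T` modulo `dz z`;
* `jP k : Wr (S2 F) (Fin k) →* PSp k F` with the kernel `⟨dz (-1)⟩`; `fld k σ`, `f2 σ` : field automorphisms;
* the boxes `W1`, `W2`, `W3` (wreath products), `NQ` (Sylow normaliser), `GS` (the count and the fixed characters of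
  `PSp`), `CaseP` (the goal).
-/

set_option autoImplicit false
set_option linter.unusedSectionVars false

namespace Cfsg.Agent.MK.P

open Cfsg Subgroup Equiv Cfsg.Agent.MK.T

/-! ### wreath products -/

/-- the wreath product -/
abbrev Wr (A ι : Type) [Group A] : Type := (ι → A) ⋊[mulAutArrow] Perm ι

section wr

variable {A B ι : Type} [Group A] [Group B]

theorem mul_left (v w : Wr A ι) (i : ι) : (v * w).left i = v.left i * w.left (v.right⁻¹ i) := rfl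

theorem finite_Wr [Finite A] [Finite ι] : Finite (Wr A ι) :=
  Finite.of_equiv _ SemidirectProduct.equivProd.symm

/-- `A ≀ T` -/
def WT (A : Type) [Group A] (T : Subgroup (Perm ι)) : Subgroup (Wr A ι) := T.comap SemidirectProduct.rightHom

theorem mem_WT {T : Subgroup (Perm ι)} {w : Wr A ι} : w ∈ WT A T ↔ w.right ∈ T := Iff.rfl

/-- the diagonal element -/
def dz (ι : Type) (z : A) : Wr A ι := SemidirectProduct.inl fun _ => z

theorem dz_left (z : A) (i : ι) : (dz ι z).left i = z := rfl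

theorem dz_right (z : A) : (dz ι z).right = 1 := rfl

theorem dz_mem {z : A} (hz : z ∈ center A) : dz ι z ∈ center (Wr A ι) :=
  mem_center_iff.2 fun w => SemidirectProduct.ext (funext fun i => by
    rw [mul_left, mul_left, dz_left, dz_left, dz_right, inv_one, Perm.one_apply, mem_center_iff.1 hz]) (by
    rw [SemidirectProduct.mul_right, SemidirectProduct.mul_right, dz_right, one_mul, mul_one])

/-- functoriality -/
def mapW (ι : Type) (φ : A →* B) : Wr A ι →* Wr B ι where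
  toFun w := ⟨fun i => φ (w.left i), w.right⟩
  map_one' := SemidirectProduct.ext (funext fun _ => map_one φ) rfl
  map_mul' _ _ := SemidirectProduct.ext (funext fun _ => map_mul φ _ _) rfl

theorem mapW_left (φ : A →* B) (w : Wr A ι) (i : ι) : (mapW ι φ w).left i = φ (w.left i) := rfl

theorem mapW_right (φ : A →* B) (w : Wr A ι) : (mapW ι φ w).right = w.right := rfl

theorem mapW_injective {φ : A →* B} (h : Function.Injective φ) : Function.Injective (mapW ι φ) := fun _ _ e =>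
  SemidirectProduct.ext (funext fun i => h (congrFun (congrArg SemidirectProduct.left e) i))
    (congrArg (SemidirectProduct.right (φ := mulAutArrow) (N := ι → B)) e)

/-- the permutations which fix the last point -/
noncomputable def eP (m : ℕ) : Perm (Fin m) →* Perm (Fin (m + 1)) := Perm.viaEmbeddingHom Fin.castSuccEmb

theorem eP_cast {m : ℕ} (σ : Perm (Fin m)) (i : Fin m) : eP m σ i.castSucc = (σ i).castSucc :=
  Perm.viaEmbedding_apply σ Fin.castSuccEmb i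

theorem eP_last {m : ℕ} (σ : Perm (Fin m)) : eP m σ (Fin.last m) = Fin.last m :=
  Perm.viaEmbedding_apply_of_notMem σ Fin.castSuccEmb _ fun ⟨i, hi⟩ => (Fin.castSucc_lt_last i).ne hi

theorem eP_injective (m : ℕ) : Function.Injective (eP m) := Perm.viaEmbeddingHom_injective _

/-- the embedding which is trivial in the last component -/
noncomputable def emb (A : Type) [Group A] (m : ℕ) : Wr A (Fin m) →* Wr A (Fin (m + 1)) where
  toFun w := ⟨Fin.lastCases 1 w.left, eP m w.right⟩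
  map_one' := SemidirectProduct.ext (funext fun i => by induction i using Fin.lastCases <;> simp) (map_one _)
  map_mul' v w := SemidirectProduct.ext (funext fun i => by
    rw [mul_left, ← map_inv]
    induction i using Fin.lastCases with
    | last => rw [eP_last]; simp
    | cast i => rw [eP_cast]; simp only [Fin.lastCases_castSucc, mul_left]) (map_mul (eP m) _ _)

theorem emb_cast {m : ℕ} (w : Wr A (Fin m)) (i : Fin m) : (emb A m w).left i.castSucc = w.left i :=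
  Fin.lastCases_castSucc (motive := fun _ => A) i

theorem emb_last {m : ℕ} (w : Wr A (Fin m)) : (emb A m w).left (Fin.last m) = 1 :=
  Fin.lastCases_last (motive := fun _ => A)

theorem emb_right {m : ℕ} (w : Wr A (Fin m)) : (emb A m w).right = eP m w.right := rfl

/-- the number of irreducible characters of odd degree of `A ≀ T` with `dz z` in the kernel -/
noncomputable def kw (z : A) (T : Subgroup (Perm ι)) : ℕ := kk (WT A T) (zpowers (dz ι z)) 1

/-- a family which is constant on the orbits of `T` -/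
def Iv {S : Type} (T : Subgroup (Perm ι)) (μ : ι → S) : Prop := ∀ t ∈ T, ∀ i, μ (t i) = μ i

/-- the number `4 ^ (number of orbits) * |T : T'|` -/
noncomputable def c4 (T : Subgroup (Perm ι)) : ℕ := Nat.card {μ : ι → Fin 4 // Iv T μ} * ab T

end wr

/-- the induction hypothesis for a wreath product -/
def W1 : Prop :=
  ∀ (A ι : Type) [Group A] [Finite A] [Fintype ι] (z : A) (T : Sylow 2 (Perm ι)) (n : ℕ), z ∈ center A → IH n →
    (zpowers (dz ι z)).index < n → kw z (⊤ : Subgroup (Perm ι)) = kw z (T : Subgroup (Perm ι))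

/-- the count for a `2`-group of permutations -/
def W2 : Prop :=
  ∀ (A ι : Type) [Group A] [Finite A] [Fintype ι] (z : A) (T : Subgroup (Perm ι)), IsPGroup 2 T →
    kw z T = Nat.card {θ : ι → {χ : A → ℂ // OI A χ} // Iv T θ ∧ ∏ i, (θ i).1 z = ∏ i, (θ i).1 1} * ab T

/-- the fixed characters -/
def W3 : Prop :=
  ∀ (A ι : Type) [Group A] [Finite A] [Fintype ι] (T : Subgroup (Perm ι)) (δ : MulAut A) (k : ℕ), IsPGroup 2 T →
    Odd k → δ ^ k = 1 → (∀ χ, OI A χ → ∀ a, χ (δ a) = χ a) → ∀ ψ : WT A T → ℂ, OI (WT A T) ψ →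
    ∀ y y' : WT A T, (y' : Wr A ι) = mapW ι δ.toMonoidHom y → ψ y' = ψ y

/-! ### the model -/

section model

open Cfsg.Agent.ClassicalGeometry.SympBasic Cfsg.Agent.ClassicalGeometry.SympAutSemi
  Cfsg.Agent.ClassicalGeometry.SympGamma Cfsg.Agent.H670.SL2 Cfsg.Agent.ODD.PS.C3 Cfsg.Agent.TitsThree.SpIdent

variable {F : Type} [Field F] {k : ℕ}

/-- the action of the wreath product on the symplectic space -/
def jv (w : Wr (S2 F) (Fin k)) (v : Fin k ⊕ Fin k → F) : Fin k ⊕ Fin k → F :=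
  Sum.elim (fun i => e10 (w.left i) * v (.inr (w.right⁻¹ i)) + e11 (w.left i) * v (.inl (w.right⁻¹ i)))
    fun i => e00 (w.left i) * v (.inr (w.right⁻¹ i)) + e01 (w.left i) * v (.inl (w.right⁻¹ i))

theorem jv_inl (w : Wr (S2 F) (Fin k)) (v : Fin k ⊕ Fin k → F) (i : Fin k) : jv w v (.inl i) =
    e10 (w.left i) * v (.inr (w.right⁻¹ i)) + e11 (w.left i) * v (.inl (w.right⁻¹ i)) := rfl

theorem jv_inr (w : Wr (S2 F) (Fin k)) (v : Fin k ⊕ Fin k → F) (i : Fin k) : jv w v (.inr i) =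
    e00 (w.left i) * v (.inr (w.right⁻¹ i)) + e01 (w.left i) * v (.inl (w.right⁻¹ i)) := rfl

theorem jv_mul (w w' : Wr (S2 F) (Fin k)) (v : Fin k ⊕ Fin k → F) : jv (w * w') v = jv w (jv w' v) := by
  funext j
  rcases j with i | i
  · rw [jv_inl, jv_inl, jv_inl, jv_inr, mul_left, mul10, mul11, SemidirectProduct.mul_right, mul_inv_rev,
      Perm.mul_apply]
    ring
  · rw [jv_inr, jv_inr, jv_inl, jv_inr, mul_left, mul00, mul01, SemidirectProduct.mul_right, mul_inv_rev,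
      Perm.mul_apply]
    ring

theorem jv_one (v : Fin k ⊕ Fin k → F) : jv 1 v = v := by
  funext j
  rcases j with i | i
  · show 0 * v (.inr i) + 1 * v (.inl i) = _
    ring
  · show 1 * v (.inr i) + 0 * v (.inl i) = _
    ring

theorem jv_iso (w : Wr (S2 F) (Fin k)) (u v : Fin k ⊕ Fin k → F) :
    sympForm k F (jv w u) (jv w v) = sympForm k F u v := by
  rw [sympForm_eq_sum, sympForm_eq_sum]
  refine Fintype.sum_equiv w.right⁻¹ _ _ fun i => ?_
  rw [jv_inl, jv_inl, jv_inr, jv_inr]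
  linear_combination (u (.inr (w.right⁻¹ i)) * v (.inl (w.right⁻¹ i)) -
    u (.inl (w.right⁻¹ i)) * v (.inr (w.right⁻¹ i))) * det_eq (w.left i)

/-- the wreath product in the group of isometries -/
def jI (k : ℕ) : Wr (S2 F) (Fin k) →* isos (form k F) where
  toFun w := ⟨{ toFun := jv w
                map_add' := fun u v => by
                  funext j
                  rcases j with i | i <;> simp only [Pi.add_apply, jv_inl, jv_inr] <;> ring
                map_smul' := fun c v => by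
                  funext j
                  rcases j with i | i <;> simp only [Pi.smul_apply, smul_eq_mul, RingHom.id_apply, jv_inl, jv_inr] <;>
                    ring
                invFun := jv w⁻¹
                left_inv := fun v => by rw [← jv_mul, inv_mul_cancel, jv_one]
                right_inv := fun v => by rw [← jv_mul, mul_inv_cancel, jv_one] }, jv_iso w⟩
  map_one' := Subtype.ext (LinearEquiv.ext jv_one)
  map_mul' v w := Subtype.ext (LinearEquiv.ext (jv_mul v w))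

theorem jI_apply (w : Wr (S2 F) (Fin k)) (v : Fin k ⊕ Fin k → F) : (jI k w).1 v = jv w v := rfl

/-- **the wreath product in `PSp`** -/
noncomputable def jP (k : ℕ) : Wr (S2 F) (Fin k) →* PSp k F := toPSp.comp (jI k)

theorem jP_apply (w : Wr (S2 F) (Fin k)) : jP k w = toPSp (jI k w) := rfl

/-- `-1` -/
abbrev ng (F : Type) [Field F] : S2 F := tor (-1)

theorem ng_mul_ng : ng F * ng F = 1 := by rw [← map_mul, neg_mul_neg, one_mul, map_one]

theorem ng_mem : ng F ∈ center (S2 F) :=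
  mem_center_iff.2 fun g => by
    refine ext4 ?_ ?_ ?_ ?_ <;> simp only [mul00, mul01, mul10, mul11, tor00, tor01, tor10, tor11, inv_neg, inv_one] <;>
      ring

theorem jv_e (w : Wr (S2 F) (Fin k)) (i : Fin k) : jv w (e k F i) =
    e00 (w.left (w.right i)) • e k F (w.right i) + e10 (w.left (w.right i)) • f k F (w.right i) := by
  funext j
  rcases j with j | j <;> by_cases h : j = w.right i
  · subst h
    simp [jv_inl, e, f]
  · have h' : w.right.symm j ≠ i := fun h' => h (by rw [← h']; simp)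
    simp [jv_inl, e, f, h, h']
  · subst h
    simp [jv_inr, e, f]
  · have h' : w.right.symm j ≠ i := fun h' => h (by rw [← h']; simp)
    simp [jv_inr, e, f, h, h']

theorem jv_f (w : Wr (S2 F) (Fin k)) (i : Fin k) : jv w (f k F i) =
    e01 (w.left (w.right i)) • e k F (w.right i) + e11 (w.left (w.right i)) • f k F (w.right i) := by
  funext j
  rcases j with j | j <;> by_cases h : j = w.right i
  · subst h
    simp [jv_inl, e, f]
  · have h' : w.right.symm j ≠ i := fun h' => h (by rw [← h']; simp)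
    simp [jv_inl, e, f, h, h']
  · subst h
    simp [jv_inr, e, f]
  · have h' : w.right.symm j ≠ i := fun h' => h (by rw [← h']; simp)
    simp [jv_inr, e, f, h, h']

theorem jv_dz (v : Fin k ⊕ Fin k → F) : jv (dz (Fin k) (ng F)) v = -v := by
  funext j
  rcases j with i | i
  · rw [jv_inl, dz_left, dz_right, tor10, tor11]
    simp
  · rw [jv_inr, dz_left, dz_right, tor00, tor01]
    simp

theorem toPSp_eq_one {g : isos (form k F)} {c : F} (h : ∀ v, g.1 v = c • v) : toPSp g = 1 := by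
  refine (QuotientGroup.eq_one_iff _).2 (mem_center_iff.2 fun A => ?_)
  obtain ⟨a, rfl⟩ := toSp_surjective A
  rw [← map_mul, ← map_mul]
  refine congrArg toSp (Subtype.ext (LinearEquiv.ext fun v => ?_))
  show a.1 (g.1 v) = g.1 (a.1 v)
  rw [h, h, map_smul]

/-- the kernel -/
theorem jP_eq_one {w : Wr (S2 F) (Fin k)} : jP k w = 1 ↔ w ∈ zpowers (dz (Fin k) (ng F)) := by
  refine ⟨fun h => ?_, fun h => (zpowers_le (H := (jP k).ker)).2 (toPSp_eq_one (c := -1) fun v => ?_) h⟩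
  · obtain ⟨c, hc, h1⟩ := exists_smul_of_toPSp_eq_one h
    have h0 : c ≠ 0 := fun e => by rw [e] at hc; simp at hc
    have h2 : ∀ i, w.right i = i := fun i => by
      by_contra hi
      have h3 := congrFun ((jv_e w i).symm.trans (h1 (e k F i))) (.inr i)
      simp [e, f, Ne.symm hi] at h3
      exact h0 h3.symm
    have h3 : w.right = 1 := Equiv.ext h2
    have h4 : ∀ i, e00 (w.left i) = c ∧ e01 (w.left i) = 0 ∧ e10 (w.left i) = 0 ∧ e11 (w.left i) = c := fun i => by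
      have a1 := (jv_e w i).symm.trans (h1 (e k F i))
      have a2 := (jv_f w i).symm.trans (h1 (f k F i))
      rw [h2] at a1 a2
      exact ⟨by simpa [e, f] using congrFun a1 (.inr i), by simpa [e, f] using congrFun a2 (.inr i),
        by simpa [e, f] using congrFun a1 (.inl i), by simpa [e, f] using congrFun a2 (.inl i)⟩
    rcases sq_eq_one_iff.1 hc with rfl | rfl
    · have : w = 1 := SemidirectProduct.ext (funext fun i => ext4 (h4 i).1 (h4 i).2.1 (h4 i).2.2.1 (h4 i).2.2.2) h3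
      exact this ▸ one_mem _
    · have : w = dz (Fin k) (ng F) := SemidirectProduct.ext (funext fun i =>
        ext4 (h4 i).1 (h4 i).2.1 (h4 i).2.2.1 ((h4 i).2.2.2.trans (by rw [dz_left, tor11]; simp))) h3
      exact this ▸ mem_zpowers _
  · rw [jI_apply, jv_dz, neg_one_smul]

/-- the field automorphisms of `SL₂` -/
def f2 (F : Type) [Field F] : (F ≃+* F) →* MulAut (S2 F) where
  toFun σ :=
    { toFun := Matrix.SpecialLinearGroup.map σ.toRingHom
      invFun := Matrix.SpecialLinearGroup.map σ.symm.toRingHom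
      left_inv := fun _ => ext4 (σ.symm_apply_apply _) (σ.symm_apply_apply _) (σ.symm_apply_apply _)
        (σ.symm_apply_apply _)
      right_inv := fun _ => ext4 (σ.apply_symm_apply _) (σ.apply_symm_apply _) (σ.apply_symm_apply _)
        (σ.apply_symm_apply _)
      map_mul' := map_mul _ }
  map_one' := MulEquiv.ext fun _ => ext4 rfl rfl rfl rfl
  map_mul' _ _ := MulEquiv.ext fun _ => ext4 rfl rfl rfl rfl

/-- the semilinear maps -/
def frob (k : ℕ) (F : Type) [Field F] : (F ≃+* F) →* semiSim k F where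
  toFun σ := ⟨frobPerm k σ, σ, 1, one_ne_zero, isSemi_frobPerm σ⟩
  map_one' := rfl
  map_mul' _ _ := rfl

/-- **the field automorphisms of `PSp`** -/
noncomputable def fld (k : ℕ) (F : Type) [Field F] : (F ≃+* F) →* MulAut (PSp k F) := (Psi k F).comp (frob k F)

theorem fld_toPSp (σ : F ≃+* F) {g g' : isos (form k F)}
    (h : ∀ v, g'.1 (frobPerm k σ v) = frobPerm k σ (g.1 v)) : fld k F σ (toPSp g) = toPSp g' := by
  refine (Psi_mk (frob k F σ) (toSp g)).trans (congrArg QuotientGroup.mk (rho_injective ?_))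
  rw [rho_conjHom, mul_inv_eq_iff_eq_mul]
  refine Equiv.ext fun v => ?_
  rw [Perm.mul_apply, Perm.mul_apply, rho_apply, rho_apply, toSp_mulVec, toSp_mulVec]
  exact (h v).symm

theorem fld_jP (σ : F ≃+* F) (w : Wr (S2 F) (Fin k)) :
    fld k F σ (jP k w) = jP k (mapW (Fin k) (f2 F σ).toMonoidHom w) := by
  refine fld_toPSp σ fun v => funext fun j => ?_
  rw [jI_apply, jI_apply, frobPerm_apply]
  rcases j with i | i
  · rw [jv_inl, jv_inl, map_add, map_mul, map_mul]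
    rfl
  · rw [jv_inr, jv_inr, map_add, map_mul, map_mul]
    rfl

end model

open Cfsg.Agent.ODD.PS.C3

/-- the normaliser of a Sylow `2`-subgroup -/
def NQ : Prop :=
  ∀ (F : Type) [Field F] [Fintype F] (k : ℕ) (T : Sylow 2 (Perm (Fin k))), Odd (Fintype.card F) →
    ∃ Q : Sylow 2 (PSp k F), normalizer ((Q : Subgroup (PSp k F)) : Set (PSp k F)) ≤
      (WT (S2 F) (T : Subgroup (Perm (Fin k)))).map (jP k)

/-- the global side -/
def GS : Prop :=
  ∀ (F : Type) [Field F] [Fintype F] (k : ℕ), Fintype.card F % 4 = 3 → 2 ≤ k →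
    (IH (Nat.card (PSp k F)) → ∃ T : Sylow 2 (Perm (Fin k)), k0 (PSp k F) = c4 (T : Subgroup (Perm (Fin k)))) ∧
    ∀ (σ : F ≃+* F) (χ : PSp k F → ℂ), OI (PSp k F) χ → ∀ x, χ (fld k F σ x) = χ x

/-- the characters of odd degree of `SL₂(q)` -/
def S4 : Prop :=
  ∀ (F : Type) [Field F] [Fintype F], Fintype.card F % 4 = 3 → k0 (S2 F) = 4 ∧
    ∀ χ, OI (S2 F) χ → χ (ng F) = χ 1 ∧ ∀ (σ : F ≃+* F) (x : S2 F), χ (f2 F σ x) = χ x

/-- **the case P** -/
def CaseP : Prop :=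
  ∀ (F : Type) [Field F] [Fintype F] (k : ℕ), Fintype.card F % 4 = 3 → 2 ≤ k →
    ∀ (X : Type) [Group X] [Finite X] (e : X ≃* PSp k F) (Γ : Subgroup (MulAut X)), Sit X Γ →
    (∀ α ∈ Γ, ∃ (x : PSp k F) (σ : F ≃+* F), ∀ y, e (α y) = x * fld k F σ (e y) * x⁻¹) → Gd X Γ

/-- the alternative for the row -/
def Alt : Prop :=
  ∀ (F : Type) [Field F] [Fintype F] (k : ℕ), Fintype.card F % 4 = 3 → 2 ≤ k →
    ∀ Γ : Subgroup (MulAut (PSp k F)), (∀ x, MulAut.conj x ∈ Γ) →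
    (∀ α ∈ Γ, ∃ (x : PSp k F) (σ : F ≃+* F), α = MulAut.conj x * fld k F σ) ∨
      (ODD.C3.dK k (-1) : MulAut (PSp k F)) ∈ Γ

end Cfsg.Agent.MK.P
end

-- part: MK/P/NQ
section
prune_inst 0x4010000
set_option linter.all false
open scoped Cfsg.Agent.FastGrp

/-!
# MK-P: the normaliser of a Sylow `2`-subgroup of `PSp_{2n}(q)` is monomial (helper75)
-/

set_option autoImplicit false
set_option linter.unusedSectionVars false

namespace Cfsg.Agent.MK.P

open Cfsg Subgroup Equiv Cfsg.Agent.MK.T Quaternion Matrix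
open Cfsg.Agent.H158 Cfsg.Agent.H158.PronQ Cfsg.Agent.H158.PronMat Cfsg.Agent.H158.PronMono Cfsg.Agent.H158.PronM2
  Cfsg.Agent.H158.PronFrame

section

variable {F : Type} [Field F]

theorem two_ne_of_odd [Fintype F] (h : Odd (Fintype.card F)) : (2 : F) ≠ 0 :=
  Ring.two_ne_zero fun h1 => by
    have h2 := FiniteField.even_card_of_char_two h1
    have h3 := Nat.odd_iff.1 h
    omega

theorem uI_sq : (uI : U F) * uI = nu := Subtype.ext qi_mul_qi

theorem two_of_norm {G : Type} [Group G] {S : Subgroup G} (hS : IsPGroup 2 S) {g : G} (hg : g ∈ normalizer (S : Set G))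
    {k : ℕ} (hk : g ^ 2 ^ k = 1) : IsPGroup 2 (zpowers g ⊔ S : Subgroup G) := by
  refine IsPGroup.to_sup_of_normal_right' (fun x => ?_) hS (zpowers_le.2 hg)
  obtain ⟨_, m, rfl⟩ := x
  refine ⟨k, Subtype.ext ?_⟩
  change (g ^ m) ^ 2 ^ k = 1
  rw [← _root_.zpow_natCast, ← _root_.zpow_mul, mul_comm, _root_.zpow_mul, _root_.zpow_natCast, hk, _root_.one_zpow]

theorem exists_sylow_SG [Finite F] {n : Type} [Fintype n] [DecidableEq n] (h2 : (2 : F) ≠ 0) (T : Sylow 2 (Perm n)) :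
    ∃ S : Sylow 2 (PronMat.GU n F), ∀ g ∈ normalizer ((S : Subgroup (PronMat.GU n F)) : Set (PronMat.GU n F)),
      ∃ σ ∈ (T : Subgroup (Perm n)), Mono g.1 σ := by
  have := two_prime
  obtain ⟨W, hW⟩ := (Q8_isPGroup (F := F)).exists_le_sylow
  have hw : ∃ w₀ ∈ (W : Subgroup (U F)), w₀ * w₀ = nu := ⟨uI, hW uI_mem, uI_sq⟩
  have hS := SG_isPGroup W.isPGroup' T.isPGroup'
  obtain ⟨S, h⟩ := exists_sylow_eq (SG (W : Subgroup (U F)) (T : Subgroup (Perm n))) hS (by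
    rintro g hg ⟨k, hk⟩
    have h1 := mem_normalizer_fintype hg
    obtain ⟨σ, hσ, h3, -⟩ := norm_mono h2 T hw h1
    have h4 : (PM σ⁻¹ : PronMat.GU n F) ∈ SG (W : Subgroup (U F)) (T : Subgroup (Perm n)) := PM_mem _ (inv_mem hσ)
    obtain ⟨m, hm⟩ := two_of_norm hS h1 hk ⟨PM σ⁻¹ * g, mul_mem (mem_sup_right h4) (mem_sup_left (mem_zpowers g))⟩
    have h5 : Mono (PM σ⁻¹ * g : PronMat.GU n F).1 1 := inv_mul_cancel σ ▸ (PM_mono σ⁻¹).mul h3
    obtain ⟨τ, -, h6, h7⟩ := norm_mono h2 T hw (mul_mem (le_normalizer h4) h1)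
    obtain rfl := h5.unique h6
    refine (mul_mem_cancel_left h4).1 ⟨1, one_mem _, h5, fun b => ?_⟩
    obtain ⟨u, hu⟩ := h5.entry b
    have h8 : ∀ j : ℕ, ((u ^ j : U F) : ℍ[F]) = ((PM σ⁻¹ * g : PronMat.GU n F) ^ j).1 b b := fun j => by
      induction j with
      | zero => simp
      | succ j ih =>
        rw [pow_succ, pow_succ, Submonoid.coe_mul, Submonoid.coe_mul, h5.mul_apply, ih, hu]
        rfl
    have h9 : u ^ 2 ^ m = 1 := Subtype.ext (by
      rw [h8, show (PM σ⁻¹ * g : PronMat.GU n F) ^ 2 ^ m = 1 from congrArg Subtype.val hm]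
      simp)
    refine ⟨u, ?_, hu⟩
    rw [← W.3 (two_of_norm W.2 (mem_normalizer_fintype (h7 b u hu)) h9) le_sup_right]
    exact mem_sup_left (mem_zpowers u))
  refine ⟨S, fun g hg => ?_⟩
  rw [h] at hg
  obtain ⟨σ, h3, h4, -⟩ := norm_mono h2 T hw hg
  exact ⟨σ, h3, h4⟩

theorem exists_jI {k : ℕ} {a b : F} (hab : a * a + b * b = -1) {g : PronMat.GU (Fin k) F} {σ : Perm (Fin k)} (h : Mono g.1 σ) :
    ∃ w : Wr (ODD.PS.C3.S2 F) (Fin k), w.right = σ ∧ TitsThree.SpIdent.toSp (jI k w) = PronSp.toSp hab g := by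
  have h1 : ∀ c, (toM a b (g.1 c (σ⁻¹ c))).det = 1 := fun c => by
    obtain ⟨u, hu⟩ := h.entry (σ⁻¹ c)
    rw [show σ (σ⁻¹ c) = c by simp] at hu
    rw [det_toM hab, ← hu, normSq_U]
  refine ⟨⟨fun c => ⟨!![toM a b (g.1 c (σ⁻¹ c)) 1 1, toM a b (g.1 c (σ⁻¹ c)) 1 0;
    toM a b (g.1 c (σ⁻¹ c)) 0 1, toM a b (g.1 c (σ⁻¹ c)) 0 0], ?_⟩, σ⟩, rfl, Subtype.ext ?_⟩
  · rw [det_fin_two_of, ← h1 c, det_fin_two]
    ring
  · rw [← Matrix.mulVec_injective.eq_iff]
    funext v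
    rw [TitsThree.SpIdent.toSp_mulVec, jI_apply]
    have h2 : ∀ (i j : Fin 2) (x : Fin k → F) (c : Fin k),
        ((g.1.map fun q => toM a b q i j) *ᵥ x) c = toM a b (g.1 c (σ⁻¹ c)) i j * x (σ⁻¹ c) := fun i j x c => by
      refine Finset.sum_eq_single (σ⁻¹ c) (fun d _ hd => ?_) fun hc => absurd (Finset.mem_univ _) hc
      have h3 : toM a b 0 = 0 := by
        ext i j
        fin_cases i <;> fin_cases j <;> simp [toM]
      change toM a b (g.1 c d) i j * x d = 0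
      rw [h c d fun e => hd (by simp [e]), h3, Matrix.zero_apply, zero_mul]
    change _ = PronSp.Th a b g.1 *ᵥ v
    rw [PronSp.Th, fromBlocks_mulVec]
    funext j
    rcases j with c | c
    · rw [Sum.elim_inl, Pi.add_apply, h2, h2, add_comm]
      rfl
    · rw [Sum.elim_inr, Pi.add_apply, h2, h2, add_comm]
      rfl

end

theorem nq : NQ := by
  intro F _ _ k T ho
  have := two_prime
  have h2 := two_ne_of_odd ho
  obtain ⟨a, b, hab⟩ := exists_sq_add_sq (-1 : F)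
  obtain ⟨S, hS⟩ := exists_sylow_SG h2 T
  let φ : PronMat.GU (Fin k) F →* PSp k F := (QuotientGroup.mk' _).comp (PronSp.toSp hab)
  have hφ : Function.Surjective φ := (QuotientGroup.mk'_surjective _).comp (PronSp.toSp_surjective hab h2)
  refine ⟨S.mapSurjective hφ, ?_⟩
  rw [Sylow.coe_mapSurjective, ← map_normalizer φ hφ]
  rintro _ ⟨g, hg, rfl⟩
  obtain ⟨σ, h3, h4⟩ := hS g hg
  obtain ⟨w, h5, h6⟩ := exists_jI hab h4
  exact ⟨w, mem_WT.2 (h5 ▸ h3), congrArg QuotientGroup.mk h6⟩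

end Cfsg.Agent.MK.P

private theorem dce_5265b3c4435d : _root_.True := by
  try have : _root_.True := by simp only [_root_.Cfsg.Agent.H158.PronSp.Th.eq_1]
  exact _root_.True.intro
end
end
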